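import Groth.Agent.Lib.C1.Gysin
import Groth.Agent.Lib.VA.UnitGen
import Groth.Agent.Lib.Ample.Cocycle

/-!
Germs and fibres under pullback of modules.
-/

set_option autoImplicit false
set_option backward.isDefEq.respectTransparency false
universe u

open CategoryTheory CategoryTheory.Limits AlgebraicGeometry TopologicalSpace Opposite

namespace GrothLib.C1

open IsLocalRing GrothLib GrothLib.Ref1

variable {X Y : Scheme.{u}} (f : X ⟶ Y) (L : Y.Modules)

/-- The pullback of sections over an open. -/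
noncomputable def pullSec {U : Y.Opens} (t : Γ(L, U)) : Γ((Scheme.Modules.pullback f).obj L, f ⁻¹ᵁ U) :=
  ((Scheme.Modules.pullbackPushforwardAdjunction f).unit.app L).app U t

/-- The pullback of germs. -/
noncomputable def pullGerm (x : X) : L.presheaf.stalk (f x) →+ ((Scheme.Modules.pullback f).obj L).presheaf.stalk x :=
  ((TopCat.Presheaf.stalkFunctor Ab (f x)).map ((Scheme.Modules.pullbackPushforwardAdjunction f).unit.app L).mapPresheaf ≫
    TopCat.Presheaf.stalkPushforward Ab f.base ((Scheme.Modules.pullback f).obj L).presheaf x).hom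

theorem pullGerm_germ {U : Y.Opens} (x : X) (hx : f x ∈ U) (t : Γ(L, U)) :
    pullGerm f L x (L.presheaf.germ U (f x) hx t) =
      ((Scheme.Modules.pullback f).obj L).presheaf.germ (f ⁻¹ᵁ U) x hx (pullSec f L t) := by
  show (TopCat.Presheaf.stalkPushforward Ab f.base ((Scheme.Modules.pullback f).obj L).presheaf x).hom
    (((TopCat.Presheaf.stalkFunctor Ab (f x)).map
      ((Scheme.Modules.pullbackPushforwardAdjunction f).unit.app L).mapPresheaf).hom (L.presheaf.germ U (f x) hx t)) = _
  erw [TopCat.Presheaf.stalkFunctor_map_germ_apply]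
  exact congr($(TopCat.Presheaf.stalkPushforward_germ Ab f.base ((Scheme.Modules.pullback f).obj L).presheaf U x hx).hom _)

theorem pullGerm_smul (x : X) (a : Y.presheaf.stalk (f x)) (v : L.presheaf.stalk (f x)) :
    pullGerm f L x (a • v) = (f.stalkMap x).hom a • pullGerm f L x v := by
  obtain ⟨Ua, ha, r, rfl⟩ := TopCat.Presheaf.exists_germ_eq Y.presheaf a
  obtain ⟨Uv, hv, m, rfl⟩ := TopCat.Presheaf.exists_germ_eq L.presheaf v
  rw [← TopCat.Presheaf.germ_res_apply Y.presheaf (homOfLE (inf_le_left : Ua ⊓ Uv ≤ Ua)) (f x) (⟨ha, hv⟩ : f x ∈ Ua ⊓ Uv),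
    ← TopCat.Presheaf.germ_res_apply L.presheaf (homOfLE (inf_le_right : Ua ⊓ Uv ≤ Uv)) (f x) ⟨ha, hv⟩,
    ← Mero.germ_smul, pullGerm_germ, pullGerm_germ]
  set r' := Y.presheaf.map (homOfLE (inf_le_left : Ua ⊓ Uv ≤ Ua)).op r
  set m' := L.presheaf.map (homOfLE (inf_le_right : Ua ⊓ Uv ≤ Uv)).op m
  rw [show pullSec f L (r' • m') = (f.app _ r' • pullSec f L m' :
      Γ((Scheme.Modules.pullback f).obj L, f ⁻¹ᵁ (Ua ⊓ Uv))) from Ample.app_smul _ r' m', Mero.germ_smul]
  congr 1
  exact (Scheme.Hom.germ_stalkMap_apply f (Ua ⊓ Uv) x (⟨ha, hv⟩ : f x ∈ Ua ⊓ Uv) r').symm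

theorem pullGerm_sp {x z : X} (h : z ⤳ x) (v : L.presheaf.stalk (f x)) :
    sp ((Scheme.Modules.pullback f).obj L) h (pullGerm f L x v) = pullGerm f L z (sp L (h.map f.continuous) v) := by
  obtain ⟨U, hU, m, rfl⟩ := TopCat.Presheaf.exists_germ_eq L.presheaf v
  rw [pullGerm_germ, sp_germ, sp_germ, pullGerm_germ]

variable {L} in
theorem gen_pullGerm (hL : PicF.IsInvertible L) {x : X} {t : L.presheaf.stalk (f x)} (ht : Gen L (f x) t) :
    Gen ((Scheme.Modules.pullback f).obj L) x (pullGerm f L x t) := by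
  obtain ⟨V, e, hx, he⟩ := InvExt.exists_gen_nhd hL (f x)
  obtain ⟨u, rfl⟩ := gen_exists_unit (gen_of_isGen he hx) ht
  rw [pullGerm_smul, pullGerm_germ]
  exact gen_smul_unit (gen_of_isGen (VA.isGen_unit f hL he) (x := x) hx) (u.isUnit.map _)

theorem isInvertible_pullback {L : Y.Modules} (hL : PicF.IsInvertible L) :
    PicF.IsInvertible ((Scheme.Modules.pullback f).obj L) :=
  InvExt.isInvertible_of_gens fun x => by
    obtain ⟨V, e, hx, he⟩ := InvExt.exists_gen_nhd hL (f x)
    exact ⟨_, _, hx, VA.isGen_unit f hL he⟩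

variable {L}

/-- The pullback of fibres. -/
noncomputable def pullFib (hL : PicF.IsInvertible L) (x : X) (s : Cyc.secFibre L (f x)) :
    Cyc.secFibre ((Scheme.Modules.pullback f).obj L) x :=
  cls ((f.stalkMap x).hom (exists_smul_cls (exists_gen hL (f x)).choose_spec s).choose •
      pullGerm f L x (exists_gen hL (f x)).choose)

theorem residue_stalkMap (x : X) (a : Y.presheaf.stalk (f x)) :
    X.residue x ((f.stalkMap x).hom a) = f.residueFieldMap x (Y.residue (f x) a) := rfl

theorem pullFib_cls (hL : PicF.IsInvertible L) (x : X) (v : L.presheaf.stalk (f x)) :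
    pullFib f hL x (cls v) = cls (pullGerm f L x v) := by
  set g := (exists_gen hL (f x)).choose
  have hg : Gen L (f x) g := (exists_gen hL (f x)).choose_spec
  obtain ⟨a, ha⟩ := hg.2 v
  dsimp only at ha
  set φ := (exists_smul_cls hg (cls v)).choose
  have hφ : cls v = φ • cls g := (exists_smul_cls hg (cls v)).choose_spec
  have hres : Y.residue (f x) φ = Y.residue (f x) a := by
    rw [← coord_smul_cls hg φ, ← hφ, ← ha, ← coord_smul_cls hg a]
    rfl
  show cls ((f.stalkMap x).hom φ • pullGerm f L x g) = cls (pullGerm f L x v)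
  rw [← ha, pullGerm_smul]
  exact (smul_cls_eq (gen_pullGerm f hL hg)).2 (by rw [residue_stalkMap, residue_stalkMap, hres])

theorem pullFib_surj (hL : PicF.IsInvertible L) (x : X) (s : Cyc.secFibre L (f x)) :
    ∃ v, s = cls v ∧ pullFib f hL x s = cls (pullGerm f L x v) := by
  obtain ⟨v, rfl⟩ := Submodule.Quotient.mk_surjective _ s
  exact ⟨v, rfl, pullFib_cls f hL x v⟩

theorem coord_pullFib (hL : PicF.IsInvertible L) {x : X} {t : L.presheaf.stalk (f x)} (ht : Gen L (f x) t)
    (s : Cyc.secFibre L (f x)) : coord (pullGerm f L x t) (pullFib f hL x s) = f.residueFieldMap x (coord t s) := by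
  obtain ⟨φ, rfl⟩ := exists_smul_cls ht s
  rw [coord_smul_cls ht, ← Submodule.Quotient.mk_smul, pullFib_cls, pullGerm_smul]
  show coord _ ((f.stalkMap x).hom φ • cls (pullGerm f L x t)) = _
  rw [coord_smul_cls (gen_pullGerm f hL ht), residue_stalkMap]

theorem pullFib_ne_zero (hL : PicF.IsInvertible L) {x : X} {s : Cyc.secFibre L (f x)} (hs : s ≠ 0) :
    pullFib f hL x s ≠ 0 := by
  obtain ⟨t, ht⟩ := exists_gen hL (f x)
  intro h
  refine (map_ne_zero (f.residueFieldMap x).hom).2 (coord_ne_zero ht hs) ?_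
  rw [← coord_pullFib f hL ht s, h, ← zero_smul (X.presheaf.stalk x) (cls (pullGerm f L x t)),
    coord_smul_cls (gen_pullGerm f hL ht), map_zero]

/-- The pullback of a choice of sections. -/
noncomputable def pullChoice (hL : PicF.IsInvertible L) (s : (y : Y) → Cyc.secFibre L y) (x : X) :
    Cyc.secFibre ((Scheme.Modules.pullback f).obj L) x := pullFib f hL x (s (f x))

end GrothLib.C1
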