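import Groth.Agent.Lib.C1.Ops
import Groth.Agent.Lib.C1.Pullback
import Groth.Agent.Lib.CycPush.Proper
import Groth.Agent.Lib.CycPush.PushFam
import Groth.Agent.Lib.CycPush.Linear

/-!
Proper pushforward and the first Chern class operation.
-/

set_option autoImplicit false
universe u

open CategoryTheory AlgebraicGeometry

namespace GrothLib.C1

open GrothLib GrothLib.CycDiv GrothLib.Ref1

variable {X Y : Scheme.{u}} [IsLocallyNoetherian X] [IsLocallyNoetherian Y] (p : X ⟶ Y) [IsProper p]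
  {δX : X → ℤ} {δY : Y → ℤ}

open Classical in
/-- Proper pushforward preserves rational equivalence to zero. -/
theorem ratEquivZero_map (hδX : Cyc.IsDimFun X δX) (hδY : Cyc.IsDimFun Y δY) (hδ : Cyc.DeltaCompat p δX δY)
    {k : ℤ} {α : AlgebraicCycle X ℤ} (h : Cyc.RatEquivZero δX k α) :
    Cyc.RatEquivZero δY k (AlgebraicCycle.map p δX δY α) := by
  obtain ⟨ι, ξ, f, hdim, hf, hloc, hsum⟩ := h
  have hα : α = CycPush.famCycle hδX f hf hloc := by
    ext x
    exact hsum x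
  refine ⟨{i // δX (ξ i) = δY (p (ξ i))}, fun i => p (ξ i.1), fun i => Cyc.normGen p (ξ i.1) (f i.1),
    fun i => i.2 ▸ hdim i.1,
    fun i => CycPush.normGen_ne_zero p (ξ i.1) (CycPush.finite_residueFieldMap_of_delta_eq p hδ i.2) (hf i.1),
    fun y => ?_, fun y => ?_⟩
  · obtain ⟨V, hV, hy, -⟩ := exists_isAffineOpen_mem_and_subset (x := y) (U := ⊤) trivial
    have hKc : IsCompact ((p ⁻¹ᵁ V : X.Opens) : Set X) := p.isSpectralMap.2 V.2 hV.isCompact
    refine ⟨V, V.2, hy, ((CycPush.finite_of_locFin hloc hKc).preimage Subtype.val_injective.injOn).subset ?_⟩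
    rintro i ⟨z, hz, hzV⟩
    exact ⟨ξ i.1, subset_closure rfl, (specializes_iff_mem_closure.2 hz).mem_open V.2 hzV⟩
  · rw [hα, CycPush.map_famCycle_apply p hδX hδY hδ f hf hloc y,
      finsum_subtype_eq_finsum_cond (f := fun i => Cyc.divFun δY (p (ξ i)) (Cyc.normGen p (ξ i) (f i)) y)
        (fun i => δX (ξ i) = δY (p (ξ i)))]
    refine finsum_congr fun i => ?_
    split_ifs with h <;> simp [h]

theorem finite_gen_fibre {α : X → ℤ} (hα : LF α) (y : Y) : {ξ : X | α ξ ≠ 0 ∧ p ξ ⤳ y}.Finite := by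
  obtain ⟨V, hV, hy, -⟩ := exists_isAffineOpen_mem_and_subset (x := y) (U := ⊤) trivial
  choose U hU hfin using hα
  obtain ⟨S, hS⟩ := (p.isSpectralMap.2 V.2 hV.isCompact : IsCompact (p ⁻¹' (V : Set Y))).elim_finite_subcover
    (fun x => (U x : Set X)) (fun x => (U x).2) fun x _ => Set.mem_iUnion.2 ⟨x, hU x⟩
  refine (S.finite_toSet.biUnion fun x _ => hfin x).subset fun ξ hξ => ?_
  obtain ⟨x, hx, hξx⟩ := Set.mem_iUnion₂.1 (hS (show ξ ∈ p ⁻¹' (V : Set Y) from hξ.2.mem_open V.2 hy))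
  exact Set.mem_biUnion hx ⟨hξx, hξ.1⟩

open Classical in
/-- Pushforward of the divisor of a pulled back section. -/
theorem sum_secDivFun_proper {L : Y.Modules} (hL : PicF.IsInvertible L) (hδX : Cyc.IsDimFun X δX)
    (hδY : Cyc.IsDimFun Y δY) (hδ : Cyc.DeltaCompat p δX δY) (ξ : X) {s : Cyc.secFibre L (p ξ)} (hs : s ≠ 0) (y : Y) :
    ∑ᶠ x ∈ p ⁻¹' {y}, Cyc.secDivFun δX ((Scheme.Modules.pullback p).obj L) ξ (pullFib p hL ξ s) x *
        (AlgebraicCycle.mapCoeff p δX δY x : ℤ) =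
      (AlgebraicCycle.mapCoeff p δX δY ξ : ℤ) * Cyc.secDivFun δY L (p ξ) s y := by
  have hL' := isInvertible_pullback p hL
  by_cases hη : p ξ ⤳ y
  swap
  · rw [Cyc.secDivFun, dif_neg (fun h => hη h.1), mul_zero]
    refine finsum_mem_eq_zero_of_forall_eq_zero fun x hx => ?_
    rw [Cyc.secDivFun, dif_neg (fun h => hη ((show p x = y from hx) ▸ h.1.map p.continuous)), zero_mul]
  obtain ⟨t, ht⟩ := exists_gen hL y
  set c := coord (sp L hη t) s with hcdef
  have hc : c ≠ 0 := coord_ne_zero (gen_sp hL hη ht) hs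
  have key : ∀ x ∈ p ⁻¹' {y}, Cyc.secDivFun δX ((Scheme.Modules.pullback p).obj L) ξ (pullFib p hL ξ s) x =
      Cyc.divFun δX ξ (p.residueFieldMap ξ c) x := fun x hx => by
    by_cases h : ξ ⤳ x ∧ δX x + 1 = δX ξ
    swap
    · rw [Cyc.secDivFun, Cyc.divFun, dif_neg h, dif_neg h]
    obtain rfl : p x = y := hx
    rw [secDivFun_eq hδX hL' h.1 h.2 (gen_pullGerm p hL ht), pullGerm_sp, Cyc.divFun, dif_pos h,
      coord_pullFib p hL (gen_sp hL hη ht), hcdef]
  rw [finsum_mem_congr rfl fun x hx => by rw [key x hx],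
    CycPush.sum_divFun_proper p hδX hδY hδ ξ ((map_ne_zero (p.residueFieldMap ξ).hom).2 hc) y]
  by_cases hd : δX ξ = δY (p ξ)
  swap
  · rw [if_neg hd, AlgebraicCycle.mapCoeff, if_neg hd, Nat.cast_zero, zero_mul]
  have hnorm : Cyc.normGen p ξ (p.residueFieldMap ξ c) = c ^ (p.residueDegree ξ : ℤ) := by
    letI := (p.residueFieldMap ξ).hom.toAlgebra
    rw [zpow_natCast]
    exact Algebra.norm_algebraMap (S := X.residueField ξ) c
  rw [if_pos hd, AlgebraicCycle.mapCoeff, if_pos hd, hnorm, divFun_zpow hδY hc]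
  congr 1
  by_cases hd' : δY y + 1 = δY (p ξ)
  · rw [Cyc.divFun, dif_pos ⟨hη, hd'⟩, secDivFun_eq hδY hL hη hd' ht]
  · rw [Cyc.divFun, Cyc.secDivFun, dif_neg (fun h => hd' h.2), dif_neg (fun h => hd' h.2)]

open Classical in
/-- The projection formula on cycle level. -/
theorem map_c1Cap_pull {L : Y.Modules} (hL : PicF.IsInvertible L) (hδX : Cyc.IsDimFun X δX)
    (hδY : Cyc.IsDimFun Y δY) (hδ : Cyc.DeltaCompat p δX δY) (α : AlgebraicCycle X ℤ)
    {v : (η : Y) → Cyc.secFibre L η} (hv : ∀ η, v η ≠ 0) (γ : AlgebraicCycle X ℤ)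
    (hγ : ⇑γ = Cyc.c1CapFun δX ((Scheme.Modules.pullback p).obj L) ⇑α (pullChoice p hL v)) :
    ⇑(AlgebraicCycle.map p δX δY γ) = Cyc.c1CapFun δY L ⇑(AlgebraicCycle.map p δX δY α) v := by
  funext y
  set L' := (Scheme.Modules.pullback p).obj L
  let Ξ := (finite_gen_fibre p (LF.of_cycle α) y).toFinset
  set D : X → X → ℤ := fun ξ x => Cyc.secDivFun δX L' ξ (pullChoice p hL v ξ) x with hD
  have hDmem : ∀ ξ x, p x = y → α ξ * D ξ x ≠ 0 → ξ ∈ Ξ := fun ξ x hx h =>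
    (finite_gen_fibre p (LF.of_cycle α) y).mem_toFinset.2 ⟨left_ne_zero_of_mul h,
      hx ▸ (secDivFun_ne_zero (right_ne_zero_of_mul h)).1.map p.continuous⟩
  have hfin : ∀ ξ, (p ⁻¹' {y} ∩ Function.support fun x => α ξ * D ξ x * (AlgebraicCycle.mapCoeff p δX δY x : ℤ)).Finite :=
    fun ξ => (CycPush.finite_map_support p δX δY (toCycle (D ξ) (lf_secDivFun hδX (isInvertible_pullback p hL)
      (pullFib_ne_zero p hL (hv _)))) y).subset fun x hx => ⟨hx.1, fun h => hx.2 (by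
        show α ξ * D ξ x * _ = 0
        rw [mul_assoc, show D ξ x * _ = 0 from h, mul_zero])⟩
  rw [CycPush.map_apply, hγ]
  rw [finsum_mem_congr rfl (g := fun x => ∑ ξ ∈ Ξ, α ξ * D ξ x * (AlgebraicCycle.mapCoeff p δX δY x : ℤ)) fun x hx => by
    rw [← Finset.sum_mul, Cyc.c1CapFun,
      finsum_eq_sum_of_support_subset (s := Ξ) _ fun ξ hξ => Finset.mem_coe.2 (hDmem ξ x hx hξ)],
    CycPush.finsum_mem_finset_comm Ξ _ _ fun ξ _ => hfin ξ]
  have hrow : ∀ ξ ∈ Ξ, ∑ᶠ x ∈ p ⁻¹' {y}, α ξ * D ξ x * (AlgebraicCycle.mapCoeff p δX δY x : ℤ) =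
      α ξ * (AlgebraicCycle.mapCoeff p δX δY ξ : ℤ) * Cyc.secDivFun δY L (p ξ) (v (p ξ)) y := fun ξ _ => by
    rw [mul_assoc (α ξ), ← sum_secDivFun_proper p hL hδX hδY hδ ξ (hv (p ξ)) y]
    rcases eq_or_ne (α ξ) 0 with h0 | h0
    · rw [h0, zero_mul]
      exact finsum_mem_eq_zero_of_forall_eq_zero fun x _ => by rw [zero_mul, zero_mul]
    · have hs : (p ⁻¹' {y} ∩ Function.support fun x => D ξ x * (AlgebraicCycle.mapCoeff p δX δY x : ℤ)).Finite :=
        (hfin ξ).subset fun x hx => ⟨hx.1, fun h => hx.2 (by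
          have h' : α ξ * (D ξ x * (AlgebraicCycle.mapCoeff p δX δY x : ℤ)) = 0 := by rw [← mul_assoc]; exact h
          exact (mul_eq_zero.1 h').resolve_left h0)⟩
      refine Eq.trans ?_ ((AddMonoidHom.mulLeft (α ξ)).map_finsum_mem' hs).symm
      exact finsum_mem_congr rfl fun x _ => by rw [mul_assoc]; rfl
  rw [Finset.sum_congr rfl hrow, Cyc.c1CapFun,
    finsum_eq_sum_of_support_subset (s := Ξ.image p) _ fun η hη => ?_]
  · rw [← Finset.sum_fiberwise_of_maps_to (g := p) (t := Ξ.image p) fun ξ hξ => Finset.mem_image_of_mem p hξ]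
    refine Finset.sum_congr rfl fun η hη => ?_
    obtain ⟨ξ₀, hξ₀, rfl⟩ := Finset.mem_image.1 hη
    have hsp : p ξ₀ ⤳ y := ((finite_gen_fibre p (LF.of_cycle α) y).mem_toFinset.1 hξ₀).2
    rw [CycPush.map_apply, finsum_mem_eq_sum_of_subset (s := p ⁻¹' {p ξ₀}) (t := Ξ.filter fun ξ => p ξ = p ξ₀) _ (fun ξ hξ =>
        Finset.mem_coe.2 (Finset.mem_filter.2 ⟨(finite_gen_fibre p (LF.of_cycle α) y).mem_toFinset.2
          ⟨left_ne_zero_of_mul hξ.2, (show p ξ = p ξ₀ from hξ.1) ▸ hsp⟩, hξ.1⟩))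
      fun ξ hξ => (Finset.mem_filter.1 hξ).2, Finset.sum_mul]
    refine Finset.sum_congr rfl fun ξ hξ => ?_
    rw [show Cyc.secDivFun δY L (p ξ) (v (p ξ)) y = Cyc.secDivFun δY L (p ξ₀) (v (p ξ₀)) y by
      rw [(Finset.mem_filter.1 hξ).2]]
  · obtain ⟨h, hd⟩ := secDivFun_ne_zero (right_ne_zero_of_mul hη)
    obtain ⟨ξ, hξη, hξ⟩ : ∃ ξ, p ξ = η ∧ α ξ * (AlgebraicCycle.mapCoeff p δX δY ξ : ℤ) ≠ 0 := by
      by_contra! hn
      refine left_ne_zero_of_mul hη ?_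
      rw [CycPush.map_apply]
      exact finsum_mem_eq_zero_of_forall_eq_zero fun ξ hξ => hn ξ hξ
    exact Finset.mem_coe.2 (Finset.mem_image.2 ⟨ξ, (finite_gen_fibre p (LF.of_cycle α) y).mem_toFinset.2
      ⟨left_ne_zero_of_mul hξ, hξη ▸ h⟩, hξη⟩)

end GrothLib.C1

namespace GrothLib.C1

open GrothLib

theorem map_congr {A B : Scheme.{u}} {f g : A ⟶ B} (e : f = g) [QuasiCompact f] [QuasiCompact g]
    (δA : A → ℤ) (δB : B → ℤ) (α : AlgebraicCycle A ℤ) :
    AlgebraicCycle.map f δA δB α = AlgebraicCycle.map g δA δB α := by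
  subst e
  rfl

theorem resTrdeg_congr {A B : Scheme.{u}} {f g : A ⟶ B} (e : f = g) (x : A) :
    CycFlat.resTrdeg f x = CycFlat.resTrdeg g x := by
  subst e
  rfl

/-- A dimension compatibility restricts along closed immersions. -/
theorem deltaCompat_of_square {A B C D : Scheme.{u}} (a : A ⟶ B) (f : B ⟶ D) (g : A ⟶ C) (b : C ⟶ D)
    [IsClosedImmersion a] [IsClosedImmersion b] (w : a ≫ f = g ≫ b) (δB : B → ℤ) (δD : D → ℤ)
    (hδ : Cyc.DeltaCompat f δB δD) : Cyc.DeltaCompat g (fun x => δB (a x)) (fun y => δD (b y)) := by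
  intro x
  obtain ⟨n, hn, hd⟩ := hδ (a x)
  have h0 : ∀ {P Q : Scheme.{u}} (j : P ⟶ Q) [IsClosedImmersion j] (p : P), CycFlat.resTrdeg j p = 0 := fun j _ p =>
    CycPush.resTrdeg_finite j (RingHom.Finite.of_surjective _ (CycPush.residueFieldMap_bijective j p).2)
  have h := resTrdeg_congr w x
  rw [CycFlat.resTrdeg_comp, CycFlat.resTrdeg_comp, h0 a x, h0 b (g x), add_zero, zero_add] at h
  have hp : f (a x) = b (g x) := by
    show (a ≫ f) x = (g ≫ b) x
    rw [w]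
  exact ⟨n, h.symm.trans hn, by show δB (a x) = δD (b (g x)) + n; rw [hd, hp]⟩

end GrothLib.C1

namespace GrothLib.C1

open GrothLib

/-- Dimension compatibility of the first map of a composite. -/
theorem deltaCompat_of_comp {A B C : Scheme.{u}} (h : A ⟶ B) (g : B ⟶ C) (f : A ⟶ C) (w : h ≫ g = f)
    {δA : A → ℤ} {δB : B → ℤ} {δC : C → ℤ} (hg : Cyc.DeltaCompat g δB δC) (hf : Cyc.DeltaCompat f δA δC) :
    Cyc.DeltaCompat h δA δB := by
  subst w
  intro x
  obtain ⟨m, hm, hdm⟩ := hg (h x)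
  obtain ⟨n, hn, hdn⟩ := hf x
  have hs : CycFlat.resTrdeg g (h x) + CycFlat.resTrdeg h x = (n : Cardinal.{u}) := (CycFlat.resTrdeg_comp h g x).symm.trans hn
  rw [show CycFlat.resTrdeg g (h x) = m from hm] at hs
  obtain ⟨j, hj⟩ := Cardinal.lt_aleph0.1 (lt_of_le_of_lt (le_add_self.trans hs.le) (Cardinal.natCast_lt_aleph0 (n := n)))
  refine ⟨j, hj, ?_⟩
  rw [hj] at hs
  have : m + j = n := by exact_mod_cast hs
  have hdn' : δA x = δC (g (h x)) + n := hdn
  omega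

end GrothLib.C1
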