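import Groth.Agent.Lib.C1.Pullback
import Groth.Agent.Lib.CycPush.Linear

/-!
Classes on a closed subscheme and on the ambient scheme.
-/

set_option autoImplicit false
universe u

open CategoryTheory AlgebraicGeometry

namespace GrothLib.C1

open IsLocalRing GrothLib GrothLib.CycDiv GrothLib.Ref1

variable {X D : Scheme.{u}} (i : D ⟶ X) [IsClosedImmersion i] [IsLocallyNoetherian X] {δ : X → ℤ}
  {L N : X.Modules}

omit [IsLocallyNoetherian X] in
theorem spec_iff {c z : D} : i c ⤳ i z ↔ c ⤳ z := i.isClosedEmbedding.isInducing.specializes_iff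

/-- Divisors of sections on a closed subscheme. -/
theorem secDivFun_closed (hδ : Cyc.IsDimFun X δ) (hL : PicF.IsInvertible L) (c z : D) {s : Cyc.secFibre L (i c)}
    (hs : s ≠ 0) :
    Cyc.secDivFun (fun d => δ (i d)) ((Scheme.Modules.pullback i).obj L) c (pullFib i hL c s) z =
      Cyc.secDivFun δ L (i c) s (i z) := by
  haveI : IsLocallyNoetherian D := LocallyOfFiniteType.isLocallyNoetherian i
  have hδD : Cyc.IsDimFun D (fun d => δ (i d)) := CycPush.isDimFun_closedImmersion i hδ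
  by_cases h : c ⤳ z ∧ δ (i z) + 1 = δ (i c)
  swap
  · rw [Cyc.secDivFun, Cyc.secDivFun, dif_neg h, dif_neg fun h' => h ⟨(spec_iff i).1 h'.1, h'.2⟩]
  obtain ⟨t, ht⟩ := exists_gen hL (i z)
  have hz := (spec_iff i).2 h.1
  rw [secDivFun_eq hδ hL hz h.2 ht s, secDivFun_eq hδD (isInvertible_pullback i hL) h.1 h.2 (gen_pullGerm i hL ht),
    pullGerm_sp, coord_pullFib i hL (gen_sp hL _ ht)]
  have key := CycPush.divFun_preimmersion i hδ hδD c z (coord_ne_zero (gen_sp hL hz ht) hs)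
  rw [Cyc.divFun, dif_pos (show c ⤳ z ∧ (δ ∘ ⇑i) z + 1 = (δ ∘ ⇑i) c from h), Cyc.divFun, dif_pos ⟨hz, h.2⟩] at key
  exact key

theorem c1Cap_closed (hδ : Cyc.IsDimFun X δ) (hL : PicF.IsInvertible L) {α : X → ℤ}
    (hα : ∀ x, α x ≠ 0 → x ∈ Set.range i) {s : (ξ : X) → Cyc.secFibre L ξ} (hs : ∀ ξ, s ξ ≠ 0) (d : D) :
    Cyc.c1CapFun δ L α s (i d) =
      Cyc.c1CapFun (fun d => δ (i d)) ((Scheme.Modules.pullback i).obj L) (fun c => α (i c)) (pullChoice i hL s) d := by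
  rw [Cyc.c1CapFun, ← finsum_mem_univ, finsum_mem_inter_support_eq' _ Set.univ (Set.range i)
      fun x hx => ⟨fun _ => hα x (left_ne_zero_of_mul hx), fun _ => Set.mem_univ _⟩,
    finsum_mem_range i.isClosedEmbedding.injective]
  exact finsum_congr fun c => by
    rw [pullChoice, secDivFun_closed i hδ hL c d (hs _)]

omit [IsClosedImmersion i] [IsLocallyNoetherian X] in
theorem map_zero_off (hi : IsClosedImmersion i) {δD : D → ℤ} (α : AlgebraicCycle D ℤ) {x : X} (hx : x ∉ Set.range i) :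
    AlgebraicCycle.map i δD δ α x = 0 := by
  rw [CycPush.map_apply]
  exact finsum_mem_eq_zero_of_forall_eq_zero fun d hd => absurd ⟨d, hd⟩ hx

omit [IsLocallyNoetherian X] in
theorem map_on (α : AlgebraicCycle D ℤ) (d : D) : AlgebraicCycle.map i (fun d => δ (i d)) δ α (i d) = α d :=
  CycPush.map_apply_of_preimmersion i δ (fun _ => rfl) α d

variable {s : L.presheaf.obj (Opposite.op ⊤)}

theorem ne_zero_on_iff {α : X → ℤ} (hα : ∀ x, α x ≠ 0 → x ∈ Set.range i) {x : X} (h : x ∉ Set.range i) : α x = 0 :=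
  by_contra fun h' => h (hα x h')

/-- The Gysin class is supported on the zero scheme. -/
theorem gysin_supp (hδ : Cyc.IsDimFun X δ) (hL : PicF.IsInvertible L) (hD : Cyc.IsZeroSchemeOf i L s) {α : X → ℤ}
    (w : (ξ : X) → Cyc.secFibre L ξ) {x : X} (hx : Cyc.c1CapFun δ L α (Cyc.gysinChoice L s w) x ≠ 0) :
    x ∈ Set.range i := by
  rw [mem_range_iff i hD]
  by_contra h
  obtain ⟨ξ, -, hsp, hd, hne⟩ := c1Cap_ne_zero hx
  obtain ⟨t, ht, htx, htξ⟩ := secOn_gysin hL w h ξ hsp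
  refine hne ?_
  rw [secDivFun_eq hδ hL hsp hd ht, ← htξ, coord_cls (gen_sp hL hsp ht), ordAt_one hδ hsp hd]

/-- Two sections with the same zero scheme give the same Gysin classes. -/
theorem rz_gysin_change (hδ : Cyc.IsDimFun X δ) (hL : PicF.IsInvertible L) {s s' : L.presheaf.obj (Opposite.op ⊤)}
    (hD : Cyc.IsZeroSchemeOf i L s) (hD' : Cyc.IsZeroSchemeOf i L s') {α : X → ℤ} (hα : LF α) {k : ℤ}
    (hk : ∀ ξ, α ξ ≠ 0 → δ ξ = k + 1) {w w' : (ξ : X) → Cyc.secFibre L ξ} (hw : ∀ ξ, w ξ ≠ 0) (hw' : ∀ ξ, w' ξ ≠ 0) :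
    RZ (fun d => δ (i d)) k (fun d => Cyc.c1CapFun δ L α (Cyc.gysinChoice L s w) (i d) -
      Cyc.c1CapFun δ L α (Cyc.gysinChoice L s' w') (i d)) := by
  classical
  let v := Cyc.gysinChoice L s w
  let v' := Cyc.gysinChoice L s' w'
  have hv : ∀ ξ, v ξ ≠ 0 := gysinChoice_ne_zero hw
  have hv' : ∀ ξ, v' ξ ≠ 0 := gysinChoice_ne_zero hw'
  let F : (z : X) → X.residueField z := fun z => if z ∈ Set.range i then ratio hL (v z) (v' z) ^ α z else 1
  have hF : ∀ z, F z ≠ 0 := fun z => by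
    simp only [F]; split_ifs
    · exact zpow_ne_zero _ (ratio_ne_zero hL (hv z) (hv' z))
    · exact one_ne_zero
  have hne1 : ∀ z, F z ≠ 1 → z ∈ Set.range i ∧ α z ≠ 0 := fun z hz => by
    refine ⟨by_contra fun h => hz (if_neg h), fun h => hz ?_⟩
    simp only [F, h, zpow_zero, ite_self]
  refine rz_restrict i hδ hF (fun x => ?_) (fun z hz => hk z (hne1 z hz).2) (fun z hz => (hne1 z hz).1) fun d => ?_
  · obtain ⟨U, hx, hfin⟩ := hα x
    exact ⟨U, hx, hfin.subset fun z hz => ⟨hz.1, (hne1 z hz.2).2⟩⟩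
  rw [Cyc.c1CapFun, Cyc.c1CapFun, ← finsum_sub_distrib (finite_cap_support hα v (i d)) (finite_cap_support hα v' (i d))]
  refine finsum_congr fun z => ?_
  by_cases hzD : z ∈ Set.range i
  · rw [show F z = _ from if_pos hzD, divFun_zpow hδ (ratio_ne_zero hL (hv z) (hv' z)),
      ← secDivFun_sub hL hδ (hv z) (hv' z)]
    ring
  rw [show F z = 1 from if_neg hzD, divFun_one hδ, sub_eq_zero]
  congr 1
  by_cases h : z ⤳ i d ∧ δ (i d) + 1 = δ z
  swap
  · rw [Cyc.secDivFun, Cyc.secDivFun, dif_neg h, dif_neg h]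
  obtain ⟨t, f, ht, hst, hker⟩ := hD.2 d
  obtain ⟨t', f', ht', hst', hker'⟩ := hD'.2 d
  have hg := gen_of_span hL ht
  have hg' := gen_of_span hL ht'
  obtain ⟨u, rfl⟩ := gen_exists_unit hg hg'
  rw [← mul_smul] at hst'
  have hz : gcls s z ≠ 0 := fun e => hzD ((mem_range_iff i hD).2 e)
  have hz' : gcls s' z ≠ 0 := fun e => hzD ((mem_range_iff i hD').2 e)
  have hspan : Ideal.span {f} = Ideal.span {f'} := hker.symm.trans hker'
  obtain ⟨a, ha⟩ := Ideal.mem_span_singleton'.1 (hspan.ge (Ideal.mem_span_singleton_self f'))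
  obtain ⟨b, hb⟩ := Ideal.mem_span_singleton'.1 (hspan.le (Ideal.mem_span_singleton_self f))
  obtain ⟨f0, hf0⟩ : ∃ f0 : X.presheaf.stalk (i d), f' * (u : X.presheaf.stalk (i d)) = f * f0 ∧ IsUnit f0 := by
    by_cases hu : IsUnit a
    · exact ⟨a * u, by rw [← ha]; ring, hu.mul u.isUnit⟩
    have h1 : IsUnit (1 - b * a) := (IsLocalRing.isUnit_or_isUnit_one_sub_self (b * a)).resolve_left
      fun h => hu (isUnit_of_mul_isUnit_right h)
    have hf : f = 0 := h1.mul_right_eq_zero.1 (show (1 - b * a) * f = 0 by linear_combination (-1 : X.presheaf.stalk (i d)) * hb - b * ha)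
    exact ⟨u, by simp [← ha, hf], u.isUnit⟩
  show Cyc.secDivFun δ L z (Cyc.gysinChoice L s w z) (i d) = Cyc.secDivFun δ L z (Cyc.gysinChoice L s' w' z) (i d)
  rw [gysinChoice_pos w hz, gysinChoice_pos w' hz', secDivFun_eq hδ hL h.1 h.2 hg, secDivFun_eq hδ hL h.1 h.2 hg,
    gcls, gcls, ← sp_germ L h.1 (U := ⊤) trivial, ← sp_germ L h.1 (U := ⊤) trivial, hst, hst', hf0.1, sp_smul, sp_smul]
  show Cyc.ordAt _ _ _ (coord _ (spR h.1 f • cls (sp L h.1 t))) = Cyc.ordAt _ _ _ (coord _ (spR h.1 (f * f0) • cls (sp L h.1 t)))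
  rw [coord_smul_cls (gen_sp hL h.1 hg),
    coord_smul_cls (gen_sp hL h.1 hg), residue_spR, residue_spR]
  rcases eq_or_ne (Cyc.specMap (i d) z h.1 f) 0 with h0 | h0
  · rw [map_mul, h0, zero_mul]
  · rw [map_mul, ordAt_mul hδ h.1 h.2 h0 (hf0.2.map (Cyc.specMap (i d) z h.1)).ne_zero, ordAt_unit hδ h.1 h.2 hf0.2, add_zero]

theorem rz_change_closed (hδ : Cyc.IsDimFun X δ) (hL : PicF.IsInvertible L) {α : D → ℤ} (hα : LF α) {k : ℤ}
    (hk : ∀ d, α d ≠ 0 → δ (i d) = k + 1) {s : (ξ : X) → Cyc.secFibre L ξ} (hs : ∀ ξ, s ξ ≠ 0)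
    {t : (d : D) → Cyc.secFibre ((Scheme.Modules.pullback i).obj L) d} (ht : ∀ d, t d ≠ 0) :
    RZ (fun d => δ (i d)) k (Cyc.c1CapFun (fun d => δ (i d)) ((Scheme.Modules.pullback i).obj L) α (pullChoice i hL s) -
      Cyc.c1CapFun (fun d => δ (i d)) ((Scheme.Modules.pullback i).obj L) α t) :=
  haveI : IsLocallyNoetherian D := LocallyOfFiniteType.isLocallyNoetherian i
  rz_change (CycPush.isDimFun_closedImmersion i hδ) (isInvertible_pullback i hL) hα hk
    (fun d => pullFib_ne_zero i hL (hs (i d))) ht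

end GrothLib.C1
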