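import Groth.Agent.Lib.C1.Ops
import Groth.Agent.Lib.C1.Pullback
import Groth.Agent.Lib.CycDiv.RatEquiv

/-!
Flat pullback and the first Chern class operation.
-/

set_option autoImplicit false
universe u

open CategoryTheory AlgebraicGeometry

namespace GrothLib.C1

open GrothLib GrothLib.CycDiv GrothLib.CycFlat GrothLib.Ref1

variable {X Y : Scheme.{u}} [IsLocallyNoetherian X] [IsLocallyNoetherian Y] (f : X ⟶ Y) [Flat f]
  {δX : X → ℤ} {δY : Y → ℤ} {c : ℤ}

omit [IsLocallyNoetherian X] [IsLocallyNoetherian Y] [Flat f] in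
theorem residueFieldCongr_rfl {x : Y} (g : Y.residueField x) : (Y.residueFieldCongr (rfl : x = x)).hom g = g := by
  simp [Scheme.residueFieldCongr]

omit [Flat f] in
theorem secDivFun_pull_eq {L : Y.Modules} (hL : PicF.IsInvertible L) (hδX : Cyc.IsDimFun X δX)
    (v : (η : Y) → Cyc.secFibre L η) {ξ x : X} {η : Y} (e : f ξ = η) (hη : η ⤳ f x) {t : L.presheaf.stalk (f x)}
    (ht : Gen L (f x) t) :
    Cyc.secDivFun δX ((Scheme.Modules.pullback f).obj L) ξ (pullChoice f hL v ξ) x =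
      Cyc.divFun δX ξ (pullVal f (coord (sp L hη t) (v η)) ξ e) x := by
  subst e
  by_cases h : ξ ⤳ x ∧ δX x + 1 = δX ξ
  swap
  · rw [Cyc.secDivFun, Cyc.divFun, dif_neg h, dif_neg h]
  rw [secDivFun_eq hδX (isInvertible_pullback f hL) h.1 h.2 (gen_pullGerm f hL ht), pullGerm_sp, Cyc.divFun,
    dif_pos h, pullChoice, coord_pullFib f hL (gen_sp hL (h.1.map f.continuous) ht), pullVal, residueFieldCongr_rfl]

/-- Flat pullback of the divisor of a section. -/
theorem pullFun_secDivFun {L : Y.Modules} (hL : PicF.IsInvertible L) (hδX : Cyc.IsDimFun X δX)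
    (hδY : Cyc.IsDimFun Y δY) (hc : ∀ x, MaxFib f x → δX x = δY (f x) + c)
    {v : (η : Y) → Cyc.secFibre L η} (hv : ∀ η, v η ≠ 0) (η : Y) (x : X) :
    Cyc.pullFun f δX δY c (Cyc.secDivFun δY L η (v η)) x =
      ∑ᶠ ξ : {ξ : X // MaxFib f ξ ∧ f ξ = η}, ((fibLength f ξ.1).toNat : ℤ) *
        Cyc.secDivFun δX ((Scheme.Modules.pullback f).obj L) ξ.1 (pullChoice f hL v ξ.1) x := by
  by_cases hη : η ⤳ f x
  · obtain ⟨t, ht⟩ := exists_gen hL (f x)
    set g := coord (sp L hη t) (v η) with hg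
    have hg0 : g ≠ 0 := coord_ne_zero (gen_sp hL hη ht) (hv η)
    have h1 : Cyc.secDivFun δY L η (v η) (f x) = Cyc.divFun δY η g (f x) := by
      by_cases hd : δY (f x) + 1 = δY η
      · rw [secDivFun_eq hδY hL hη hd ht, Cyc.divFun, dif_pos ⟨hη, hd⟩]
      · rw [Cyc.secDivFun, Cyc.divFun, dif_neg (fun h => hd h.2), dif_neg (fun h => hd h.2)]
    rw [show Cyc.pullFun f δX δY c (Cyc.secDivFun δY L η (v η)) x = Cyc.pullFun f δX δY c (Cyc.divFun δY η g) x by
      rw [pullFun_apply, pullFun_apply, h1], pullFun_divFun f hδX hδY hc η g hg0 x]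
    exact finsum_congr fun ξ => by rw [secDivFun_pull_eq f hL hδX v ξ.2.2 hη ht]
  · rw [pullFun_apply, Cyc.secDivFun, dif_neg (fun h => hη h.1), zero_mul, ite_self,
      finsum_eq_zero_of_forall_eq_zero fun ξ => ?_]
    rw [Cyc.secDivFun, dif_neg (fun h => hη (ξ.2.2 ▸ h.1.map f.continuous)), mul_zero]

omit [IsLocallyNoetherian Y] [Flat f] in
/-- Flat pullbacks of locally finite functions are locally finite. -/
theorem lf_pullFun (hδX : Cyc.IsDimFun X δX) (hc : ∀ x, MaxFib f x → δX x = δY (f x) + c) {α : Y → ℤ} (hα : LF α) :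
    LF (Cyc.pullFun f δX δY c α) := by
  intro x
  obtain ⟨U, hxU, hU⟩ := exists_nhds_compact x
  choose V hyV hfin using hα
  obtain ⟨S, hS⟩ := (hU.image f.continuous).elim_finite_subcover (fun y => (V y : Set Y)) (fun y => (V y).2)
    fun y _ => Set.mem_iUnion.2 ⟨y, hyV y⟩
  refine ⟨U, hxU, (((S.finite_toSet.biUnion fun y _ => hfin y)).biUnion fun η _ => finite_maxFib_mem f hU η).subset ?_⟩
  rintro z ⟨hzU, hz⟩
  rw [pullFun_apply] at hz
  split_ifs at hz with h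
  · obtain ⟨y, hy, hzy⟩ := Set.mem_iUnion₂.1 (hS (Set.mem_image_of_mem f hzU))
    exact Set.mem_biUnion (Set.mem_biUnion hy ⟨hzy, left_ne_zero_of_mul hz⟩)
      ⟨hzU, (eq_add_iff_maxFib f hδX hc z).1.1 h, rfl⟩
  · exact absurd rfl hz

open Classical in
/-- Flat pullback commutes with `c₁` for compatible choices of sections. -/
theorem c1Cap_pullFun {L : Y.Modules} (hL : PicF.IsInvertible L) (hδX : Cyc.IsDimFun X δX)
    (hδY : Cyc.IsDimFun Y δY) (hc : ∀ x, MaxFib f x → δX x = δY (f x) + c) {α : Y → ℤ} (hα : LF α)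
    {v : (η : Y) → Cyc.secFibre L η} (hv : ∀ η, v η ≠ 0) (x : X) :
    Cyc.pullFun f δX δY c (Cyc.c1CapFun δY L α v) x =
      Cyc.c1CapFun δX ((Scheme.Modules.pullback f).obj L) (Cyc.pullFun f δX δY c α) (pullChoice f hL v) x := by
  obtain ⟨U, hxU, hU⟩ := exists_nhds_compact x
  have hH : {η : Y | η ⤳ f x ∧ α η ≠ 0}.Finite := hα.finite_gen (f x)
  have hΞ : {ξ : X | ξ ⤳ x ∧ MaxFib f ξ ∧ f ξ ∈ hH.toFinset}.Finite :=
    (hH.biUnion fun η _ => finite_maxFib_mem f hU η).subset fun ξ hξ =>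
      Set.mem_biUnion (hH.mem_toFinset.1 hξ.2.2) ⟨hξ.1.mem_open U.2 hxU, hξ.2.1, rfl⟩
  set D := fun ξ => Cyc.secDivFun δX ((Scheme.Modules.pullback f).obj L) ξ (pullChoice f hL v ξ) x
  have hlhs : Cyc.pullFun f δX δY c (Cyc.c1CapFun δY L α v) x =
      ∑ η ∈ hH.toFinset, α η * Cyc.pullFun f δX δY c (Cyc.secDivFun δY L η (v η)) x := by
    rw [pullFun_apply]
    simp only [pullFun_apply]
    split_ifs with h
    · rw [Cyc.c1CapFun, finsum_eq_sum_of_support_subset (s := hH.toFinset) _ fun η hη =>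
        Finset.mem_coe.2 (hH.mem_toFinset.2 ⟨(secDivFun_ne_zero (right_ne_zero_of_mul hη)).1, left_ne_zero_of_mul hη⟩),
        Finset.sum_mul]
      exact Finset.sum_congr rfl fun η _ => mul_assoc _ _ _
    · simp
  have hpull : ∀ ξ, MaxFib f ξ → Cyc.pullFun f δX δY c α ξ = α (f ξ) * ((fibLength f ξ).toNat : ℤ) := fun ξ hξ => by
    rw [pullFun_apply, if_pos ((eq_add_iff_maxFib f hδX hc ξ).1.2 hξ)]
  rw [hlhs, Cyc.c1CapFun, finsum_eq_sum_of_support_subset (s := hΞ.toFinset) _ fun ξ hξ => ?_]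
  · rw [← Finset.sum_fiberwise_of_maps_to (g := f) (t := hH.toFinset) fun ξ hξ => (hΞ.mem_toFinset.1 hξ).2.2]
    refine Finset.sum_congr rfl fun η hη => ?_
    rw [pullFun_secDivFun f hL hδX hδY hc hv η x,
      finsum_subtype_eq_finsum_cond (f := fun ξ => ((fibLength f ξ).toNat : ℤ) * D ξ) (fun ξ => MaxFib f ξ ∧ f ξ = η),
      finsum_cond_eq_sum_of_cond_iff (t := hΞ.toFinset.filter fun ξ => f ξ = η) (f := fun ξ => ((fibLength f ξ).toNat : ℤ) * D ξ)
        (fun {ξ} hξ => ?_), Finset.mul_sum]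
    · refine Finset.sum_congr rfl fun ξ hξ => ?_
      obtain ⟨hm, hfe⟩ := Finset.mem_filter.1 hξ
      rw [hpull ξ (hΞ.mem_toFinset.1 hm).2.1, hfe]
      ring
    · rw [Finset.mem_filter, hΞ.mem_toFinset]
      exact ⟨fun h => ⟨⟨(secDivFun_ne_zero (right_ne_zero_of_mul hξ)).1, h.1, h.2.symm ▸ hη⟩, h.2⟩,
        fun h => ⟨h.1.2.1, h.2⟩⟩
  · have h1 := left_ne_zero_of_mul hξ
    rw [pullFun_apply] at h1
    split_ifs at h1 with h
    · exact Finset.mem_coe.2 (hΞ.mem_toFinset.2 ⟨(secDivFun_ne_zero (right_ne_zero_of_mul hξ)).1,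
        (eq_add_iff_maxFib f hδX hc ξ).1.1 h, hH.mem_toFinset.2
          ⟨(secDivFun_ne_zero (right_ne_zero_of_mul hξ)).1.map f.continuous, left_ne_zero_of_mul h1⟩⟩)
    · exact absurd rfl h1

/-- Flat pullback commutes with `c₁` up to rational equivalence. -/
theorem rz_c1Cap_pullFun {L : Y.Modules} (hL : PicF.IsInvertible L) (hδX : Cyc.IsDimFun X δX)
    (hδY : Cyc.IsDimFun Y δY) (hc : ∀ x, MaxFib f x → δX x = δY (f x) + c) {α : Y → ℤ} (hα : LF α)
    {k : ℤ} (hk : ∀ η, α η ≠ 0 → δY η = k) {v : (η : Y) → Cyc.secFibre L η} (hv : ∀ η, v η ≠ 0)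
    {u : (ξ : X) → Cyc.secFibre ((Scheme.Modules.pullback f).obj L) ξ} (hu : ∀ ξ, u ξ ≠ 0) :
    RZ δX (k + c - 1) (Cyc.pullFun f δX δY c (Cyc.c1CapFun δY L α v) -
      Cyc.c1CapFun δX ((Scheme.Modules.pullback f).obj L) (Cyc.pullFun f δX δY c α) u) := by
  rw [show Cyc.pullFun f δX δY c (Cyc.c1CapFun δY L α v) =
    Cyc.c1CapFun δX ((Scheme.Modules.pullback f).obj L) (Cyc.pullFun f δX δY c α) (pullChoice f hL v) from
    funext (c1Cap_pullFun f hL hδX hδY hc hα hv)]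
  refine rz_change hδX (isInvertible_pullback f hL) (lf_pullFun f hδX hc hα) (fun ξ hξ => ?_)
    (fun ξ => pullFib_ne_zero f hL (hv _)) hu
  rw [pullFun_apply] at hξ
  split_ifs at hξ with h
  · rw [h, hk _ (left_ne_zero_of_mul hξ)]; ring
  · exact absurd rfl hξ

end GrothLib.C1
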