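import Groth.Agent.Lib.C1.Ops
import Groth.Agent.Lib.Ref1.Tensor
import Groth.Agent.Lib.Ample.Functorial

/-!
Additivity of the first Chern class operation.
-/

set_option autoImplicit false
universe u

open CategoryTheory AlgebraicGeometry

namespace GrothLib.C1

open GrothLib GrothLib.CycDiv GrothLib.Ref1

variable {X : Scheme.{u}} [IsLocallyNoetherian X] {L N : X.Modules} {δ : X → ℤ}

omit [IsLocallyNoetherian X] in
theorem cls_ne_zero {ξ : X} {t : L.presheaf.stalk ξ} (ht : Gen L ξ t) : cls t ≠ 0 := fun h =>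
  one_ne_zero (α := X.residueField ξ) ((coord_cls ht).symm.trans
    ((congrArg (coord t) (h.trans (zero_smul (X.presheaf.stalk ξ) (cls t)).symm)).trans
      ((coord_smul_cls ht 0).trans (map_zero _))))

theorem secDivFun_tensor (hδ : Cyc.IsDimFun X δ) (hL : PicF.IsInvertible L) (hN : PicF.IsInvertible N) (ξ x : X)
    {a : L.presheaf.stalk ξ} (ha : Gen L ξ a) {b : N.presheaf.stalk ξ} (hb : Gen N ξ b) :
    Cyc.secDivFun δ L ξ (cls a) x + Cyc.secDivFun δ N ξ (cls b) x =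
      Cyc.secDivFun δ (CohB1.tensorMod L N) ξ (cls (tmulStalk L N ξ a b)) x := by
  by_cases h : ξ ⤳ x ∧ δ x + 1 = δ ξ
  swap
  · rw [Cyc.secDivFun, Cyc.secDivFun, Cyc.secDivFun, dif_neg h, dif_neg h, dif_neg h, add_zero]
  obtain ⟨tL, htL⟩ := exists_gen hL x
  obtain ⟨tN, htN⟩ := exists_gen hN x
  have gL := gen_sp hL h.1 htL
  have gN := gen_sp hN h.1 htN
  obtain ⟨u, hu⟩ := gen_exists_unit gL ha
  obtain ⟨v, hv⟩ := gen_exists_unit gN hb
  rw [secDivFun_eq hδ hL h.1 h.2 htL, secDivFun_eq hδ hN h.1 h.2 htN,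
    secDivFun_eq hδ (Ample.isInvertible_tensorMod hL hN) h.1 h.2 (htL.tmulStalk L N htN), sp_tmulStalk, hu, hv,
    map_smul, map_smul, LinearMap.smul_apply, smul_smul]
  show Cyc.ordAt _ _ _ (coord _ ((u : X.presheaf.stalk ξ) • cls (sp L h.1 tL))) +
      Cyc.ordAt _ _ _ (coord _ ((v : X.presheaf.stalk ξ) • cls (sp N h.1 tN))) =
    Cyc.ordAt _ _ _ (coord _ (((v : X.presheaf.stalk ξ) * (u : X.presheaf.stalk ξ)) •
      cls (tmulStalk L N ξ (sp L h.1 tL) (sp N h.1 tN))))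
  rw [coord_smul_cls gL, coord_smul_cls gN, coord_smul_cls (gL.tmulStalk L N gN), map_mul, mul_comm]
  exact (ordAt_mul hδ h.1 h.2 (u.isUnit.map _).ne_zero (v.isUnit.map _).ne_zero).symm

/-- `c₁(L ⊗ N) = c₁(L) + c₁(N)`. -/
theorem rz_c1Cap_tensor (hδ : Cyc.IsDimFun X δ) (hL : PicF.IsInvertible L) (hN : PicF.IsInvertible N) {α : X → ℤ}
    (hα : LF α) {k : ℤ} (hk : ∀ ξ, α ξ ≠ 0 → δ ξ = k + 1) {sL : (ξ : X) → Cyc.secFibre L ξ} (hsL : ∀ ξ, sL ξ ≠ 0)
    {sN : (ξ : X) → Cyc.secFibre N ξ} (hsN : ∀ ξ, sN ξ ≠ 0)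
    {sT : (ξ : X) → Cyc.secFibre (CohB1.tensorMod L N) ξ} (hsT : ∀ ξ, sT ξ ≠ 0) :
    RZ δ k (Cyc.c1CapFun δ L α sL + Cyc.c1CapFun δ N α sN - Cyc.c1CapFun δ (CohB1.tensorMod L N) α sT) := by
  choose A hA hAc using fun ξ => exists_gen_lift hL (hsL ξ)
  choose B hB hBc using fun ξ => exists_gen_lift hN (hsN ξ)
  have key : Cyc.c1CapFun δ L α sL + Cyc.c1CapFun δ N α sN =
      Cyc.c1CapFun δ (CohB1.tensorMod L N) α (fun ξ => cls (tmulStalk L N ξ (A ξ) (B ξ))) := funext fun x => by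
    rw [Pi.add_apply, Cyc.c1CapFun, Cyc.c1CapFun, Cyc.c1CapFun,
      ← finsum_add_distrib (finite_cap_support hα sL x) (finite_cap_support hα sN x)]
    exact finsum_congr fun ξ => by rw [← mul_add, ← hAc, ← hBc, secDivFun_tensor hδ hL hN ξ x (hA ξ) (hB ξ)]
  rw [key]
  exact rz_change hδ (Ample.isInvertible_tensorMod hL hN) hα hk
    (fun ξ => cls_ne_zero ((hA ξ).tmulStalk L N (hB ξ))) hsT

end GrothLib.C1
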