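import Groth.Agent.Lib.C1.IsoInv
import Groth.Agent.Lib.C1.Tensor
import Groth.Agent.Lib.C1.ProperPush
import Groth.Agent.Lib.C1.FlatPull
import Groth.Agent.Lib.C1.Closed
import Groth.Agent.S9684
import Groth.Prelude.Def_Bivar

/-!
The first Chern class as an operational class.
-/

set_option autoImplicit false
universe u

open CategoryTheory AlgebraicGeometry

namespace GrothLib.C1

open GrothLib GrothLib.CycDiv

variable {Y : Scheme.{u}} {δ : Y → ℤ} {M : Y.Modules}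

theorem cl_eq_of_ratEquiv {k : ℤ} {α β : AlgebraicCycle Y ℤ} (hα : α ∈ Cyc.Zk Y δ k) (hβ : β ∈ Cyc.Zk Y δ k)
    (h : Cyc.RatEquiv δ k α β) : ChowOps.cl α hα = ChowOps.cl β hβ :=
  (QuotientAddGroup.eq_iff_sub_mem).2 (AddSubgroup.subset_closure h)

theorem zk_supp {k : ℤ} {α : AlgebraicCycle Y ℤ} (hα : α ∈ Cyc.Zk Y δ k) (ξ : Y) (h : α ξ ≠ 0) : δ ξ = k :=
  by_contra fun h' => h (hα ξ h')

theorem exists_sec (hM : PicF.IsInvertible M) : ∃ v : (ξ : Y) → Cyc.secFibre M ξ, ∀ ξ, v ξ ≠ 0 := by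
  choose e he using fun ξ => exists_gen hM ξ
  exact ⟨fun ξ => cls (e ξ), fun ξ => cls_ne_zero (he ξ)⟩

variable [IsLocallyNoetherian Y]

theorem c1_mem_Zk {k : ℤ} {α : AlgebraicCycle Y ℤ} (hα : α ∈ Cyc.Zk Y δ k) {v : (ξ : Y) → Cyc.secFibre M ξ}
    {γ : AlgebraicCycle Y ℤ} (hγ : ⇑γ = Cyc.c1CapFun δ M ⇑α v) : γ ∈ Cyc.Zk Y δ (k - 1) := fun y hy => by
  rw [hγ]
  by_contra h
  refine hy (c1Cap_mem (fun ξ hξ => ?_) v h)
  rw [zk_supp hα ξ hξ, sub_add_cancel]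

theorem exists_c1Hom (hδ : Cyc.IsDimFun Y δ) (hM : PicF.IsInvertible M) (k : ℤ) :
    ∃ φ : ChowOps.CH Y δ k →+ ChowOps.CH Y δ (k - 1), ∀ (α : AlgebraicCycle Y ℤ) (hα : α ∈ Cyc.Zk Y δ k)
      (v : (ξ : Y) → Cyc.secFibre M ξ) (_ : ∀ ξ, v ξ ≠ 0) (γ : AlgebraicCycle Y ℤ)
      (_ : ⇑γ = Cyc.c1CapFun δ M ⇑α v) (hγ : γ ∈ Cyc.Zk Y δ (k - 1)), φ (ChowOps.cl α hα) = ChowOps.cl γ hγ := by
  obtain ⟨v₀, hv₀⟩ := exists_sec hM
  let c : AlgebraicCycle Y ℤ → AlgebraicCycle Y ℤ := fun α => toCycle _ (lf_c1Cap hδ hM (LF.of_cycle α) hv₀)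
  have hc : ∀ α (hα : α ∈ Cyc.Zk Y δ k), c α ∈ Cyc.Zk Y δ (k - 1) := fun α hα => c1_mem_Zk hα rfl
  have hadd : ∀ α β, c (α + β) = c α + c β := fun α β => by
    ext y
    show Cyc.c1CapFun δ M ⇑(α + β) v₀ y = Cyc.c1CapFun δ M ⇑α v₀ y + Cyc.c1CapFun δ M ⇑β v₀ y
    rw [Function.locallyFinsuppWithin.coe_add, Bivar.c1CapFun_add, Pi.add_apply]
  let ψ : ↥(ChowOps.zk Y δ k) →+ ChowOps.CH Y δ (k - 1) :=
    { toFun := fun a => ChowOps.cl (c a.1) (hc a.1 a.2)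
      map_zero' := by
        have h0 : c 0 = 0 := by have := hadd 0 0; rw [add_zero] at this; exact left_eq_add.1 this
        exact (Bivar.cl_congr h0 _ (ChowOps.zk Y δ (k - 1)).zero_mem).trans Bivar.cl_zero
      map_add' := fun a b => (Bivar.cl_congr (hadd a.1 b.1) _
        ((ChowOps.zk Y δ (k - 1)).add_mem (hc a.1 a.2) (hc b.1 b.2))).trans (Bivar.cl_add _ _ _ _) }
  have hker : ChowOps.ratTriv Y δ k ≤ ψ.ker := (AddSubgroup.closure_le _).2 fun a ha => by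
    have hrz : RZ δ ((k - 1) + 1) ⇑(a : AlgebraicCycle Y ℤ) := by
      rw [sub_add_cancel]
      exact RZ.of_ratEquivZero hδ ha
    have hz : Cyc.RatEquiv δ (k - 1) (c a.1) 0 := ratEquiv_of_RZ hδ (rz_c1Cap hδ hM hrz hv₀) fun x => by
      show Cyc.c1CapFun δ M ⇑a.1 v₀ x - 0 = _
      rw [sub_zero]
    exact (cl_eq_of_ratEquiv (hc a.1 a.2) (ChowOps.zk Y δ (k - 1)).zero_mem hz).trans Bivar.cl_zero
  refine ⟨QuotientAddGroup.lift _ ψ hker, fun α hα v hv γ hγc hγ => cl_eq_of_ratEquiv (hc α hα) hγ ?_⟩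
  refine ratEquiv_of_RZ hδ (rz_change hδ hM (LF.of_cycle α) (k := k - 1)
    (fun ξ hξ => by rw [sub_add_cancel]; exact zk_supp hα ξ hξ) hv₀ hv) fun x => ?_
  show Cyc.c1CapFun δ M ⇑α v₀ x - γ x = _
  rw [hγc]
  rfl

theorem exists_isC1Class {X : Scheme.{u}} {δX : X → ℤ} (hX : Cyc.IsSetup X δX) (L : X.Modules)
    (hL : PicF.IsInvertible L) : ∃ c : Bivar.OpCl 1 X δX, Bivar.IsC1Class L c := by
  classical
  haveI := hX.1
  have hlft : ∀ s : Bivar.OSq X δX, IsLocallyNoetherian s.Y := fun s =>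
    haveI := s.lft; LocallyOfFiniteType.isLocallyNoetherian s.g
  have hdim : ∀ s : Bivar.OSq X δX, Cyc.IsDimFun s.Y s.δ := fun s =>
    haveI := s.lft; Groth.Agent.S9684.result s.g δX hX s.δ s.compat
  let Lp : (s : Bivar.OSq X δX) → s.Y.Modules := fun s => (Scheme.Modules.pullback s.g).obj L
  have hLp : ∀ s, PicF.IsInvertible (Lp s) := fun s => isInvertible_pullback s.g hL
  choose φ hφ using fun s k =>
    haveI := hlft s; exists_c1Hom (hdim s) (hLp s) k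
  let e : ∀ (s t : Bivar.OSq X δX) (h : t.Y ⟶ s.Y), h ≫ s.g = t.g →
      ((Scheme.Modules.pullback h).obj (Lp s) ≅ Lp t) := fun s t h w =>
    (Scheme.Modules.pullbackComp h s.g).app L ≪≫ (Scheme.Modules.pullbackCongr w).app L
  refine ⟨{ op := φ, push := ?_, pull := ?_, gysin := ?_ }, hL, fun s k α hα v hv γ hc hγ => hφ s k α hα v hv γ hc hγ⟩
  · intro s t h _ w k α hα
    haveI := hlft s
    haveI := hlft t
    obtain ⟨v, hv⟩ := exists_sec (hLp s)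
    let v' := fun ξ => isoFib (e s t h w) ξ (pullChoice h (hLp s) v ξ)
    have hLh := isInvertible_pullback h (hLp s)
    have hv' : ∀ ξ, v' ξ ≠ 0 := fun ξ => isoFib_ne_zero _ hLh (pullFib_ne_zero h (hLp s) (hv _))
    let β : AlgebraicCycle t.Y ℤ := toCycle _ (lf_c1Cap (hdim t) (hLp t) (LF.of_cycle α) hv')
    have hc : Cyc.DeltaCompat h t.δ s.δ := deltaCompat_of_comp h s.g t.g w s.compat t.compat
    refine ⟨β, c1_mem_Zk hα (rfl : ⇑β = _), hφ t k α hα v' hv' β rfl _, ?_⟩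
    refine hφ s k _ _ v hv _ (map_c1Cap_pull h (hLp s) (hdim t) (hdim s) hc α hv β ?_) _
    show Cyc.c1CapFun t.δ (Lp t) ⇑α v' = _
    exact c1Cap_iso _ (hdim t) hLh (hLp t) ⇑α _
  · intro s t h _ r hr w k α hα
    haveI := hlft s
    haveI := hlft t
    haveI : LocallyOfFiniteType h := by
      haveI : LocallyOfFiniteType (h ≫ s.g) := w ▸ t.lft
      exact locallyOfFiniteType_of_comp h s.g
    obtain ⟨v, hv⟩ := exists_sec (hLp s)
    let v' := fun ξ => isoFib (e s t h w) ξ (pullChoice h (hLp s) v ξ)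
    have hLh := isInvertible_pullback h (hLp s)
    have hv' : ∀ ξ, v' ξ ≠ 0 := fun ξ => isoFib_ne_zero _ hLh (pullFib_ne_zero h (hLp s) (hv _))
    have hlf := lf_c1Cap (hdim s) (hLp s) (LF.of_cycle α) hv
    let β : AlgebraicCycle s.Y ℤ := toCycle _ hlf
    have hβ : β ∈ Cyc.Zk s.Y s.δ (k - 1) := c1_mem_Zk hα rfl
    have hc := shift_of_hasRelDim h hr (deltaCompat_of_comp h s.g t.g w s.compat t.compat)
    refine ⟨β, hβ, hφ s k α hα v hv β rfl hβ, fun α₁ hα₁c hα₁ => ?_⟩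
    let β₁ : AlgebraicCycle t.Y ℤ := toCycle _ (lf_pullFun h (hdim t) hc (LF.of_cycle β))
    have hβ₁c : ⇑β₁ = Cyc.c1CapFun t.δ (Lp t) ⇑α₁ v' := by
      rw [hα₁c, c1Cap_iso _ (hdim t) hLh (hLp t)]
      exact funext (c1Cap_pullFun h (hLp s) (hdim t) (hdim s) hc (LF.of_cycle α) hv)
    exact ⟨β₁, c1_mem_Zk hα₁ hβ₁c, rfl, hφ t (k + r) α₁ hα₁ v' hv' β₁ hβ₁c _⟩
  · intro s t i _ w N hN σ hσ k α hα
    haveI := hlft s
    haveI := hlft t
    have hδt : t.δ = fun d => s.δ (i d) := funext fun d => CycPush.delta_eq i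
      (deltaCompat_of_comp i s.g t.g w s.compat t.compat)
      (RingHom.Finite.of_surjective _ (CycPush.residueFieldMap_bijective i d).2)
    obtain ⟨v, hv⟩ := exists_sec (hLp s)
    have hlf := lf_c1Cap (hdim s) (hLp s) (LF.of_cycle α) hv
    let β : AlgebraicCycle s.Y ℤ := toCycle _ hlf
    have hβ : β ∈ Cyc.Zk s.Y s.δ (k - 1) := c1_mem_Zk hα rfl
    refine ⟨β, hβ, hφ s k α hα v hv β rfl hβ, fun u hu γ hγc hγ => ?_⟩
    let v' := fun ξ => isoFib (e s t i w) ξ (pullChoice i (hLp s) v ξ)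
    have hLh := isInvertible_pullback i (hLp s)
    have hv' : ∀ ξ, v' ξ ≠ 0 := fun ξ => isoFib_ne_zero _ hLh (pullFib_ne_zero i (hLp s) (hv _))
    have hg := gysinChoice_ne_zero (s := σ) hu
    let g := Cyc.gysinChoice N σ u
    let ζ : AlgebraicCycle t.Y ℤ := toCycle _ (lf_comp i (lf_c1Cap (hdim s) hN (LF.of_cycle β) hg))
    let η : AlgebraicCycle t.Y ℤ := toCycle _ (lf_c1Cap (hdim t) (hLp t) (LF.of_cycle γ) hv')
    have hζ : ζ ∈ Cyc.Zk t.Y t.δ (k - 1 - 1) := fun d hd => by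
      show Cyc.c1CapFun s.δ N ⇑β g (i d) = 0
      by_contra h
      refine hd ?_
      rw [hδt]
      exact c1Cap_mem (fun ξ hξ => by rw [zk_supp hβ ξ hξ]; ring) g h
    refine ⟨ζ, hζ, fun d => rfl, (hφ t (k - 1) γ hγ v' hv' η rfl (c1_mem_Zk hγ rfl)).trans (cl_eq_of_ratEquiv _ hζ ?_)⟩
    obtain ⟨F, f1, f2, f3, f4, f5⟩ := exists_comm_family (hdim s) hN (hLp s) (LF.of_cycle α) (k := k - 2)
      (fun ξ hξ => by rw [zk_supp hα ξ hξ]; ring) hg hg hv hv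
    have hA := rz_restrict i (hdim s) f1 f2 f3 (fun z hz => (mem_range_iff i hσ).2
      (by_contra fun h => hz (f4 z (Or.inl ⟨rfl, secOn_gysin hN u h⟩)))) (a := fun d =>
        (Cyc.c1CapFun s.δ N (Cyc.c1CapFun s.δ (Lp s) ⇑α v) g - Cyc.c1CapFun s.δ (Lp s) (Cyc.c1CapFun s.δ N ⇑α g) v) (i d))
        fun d => f5 (i d)
    rw [← hδt, show k - 2 = k - 1 - 1 by ring] at hA
    refine ratEquiv_of_RZ (hdim t) (hA.neg (hdim t)) fun d => ?_
    show Cyc.c1CapFun t.δ (Lp t) ⇑γ v' d - Cyc.c1CapFun s.δ N ⇑β g (i d) = -(_)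
    rw [c1Cap_iso _ (hdim t) hLh (hLp t), show ⇑γ = fun d => Cyc.c1CapFun s.δ N ⇑α g (i d) from funext hγc, hδt,
      ← c1Cap_closed i (hdim s) (hLp s) (fun x hx => gysin_supp i (hdim s) hN hσ u hx) hv d]
    simp only [Pi.sub_apply]
    show _ = -(Cyc.c1CapFun s.δ N ⇑β g (i d) - _)
    rw [neg_sub]

end GrothLib.C1
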