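import Groth.Agent.Lib.C1.Comm
import Groth.Agent.Lib.ParaPair.Basic

/-!
First Chern classes preserve rational equivalence and commute.
-/

set_option autoImplicit false
universe u

open CategoryTheory AlgebraicGeometry

namespace GrothLib.C1

open IsLocalRing GrothLib GrothLib.CycDiv GrothLib.Ref1

variable {X : Scheme.{u}} [IsLocallyNoetherian X] {δ : X → ℤ} {L N : X.Modules}

theorem lf_divFun (hδ : Cyc.IsDimFun X δ) {ξ : X} {f : X.residueField ξ} (hf : f ≠ 0) : LF (Cyc.divFun δ ξ f) := by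
  intro x
  obtain ⟨V, hV, hxV, -⟩ := exists_isAffineOpen_mem_and_subset (x := x) (U := ⊤) trivial
  obtain ⟨W, hξW, hW⟩ := exists_open_unitAt hf
  refine ⟨V, hxV, (exists_finite_outside hδ W hξW V hV).subset fun y hy => ?_⟩
  obtain ⟨h, hd⟩ := divFun_ne_zero hy.2
  refine ⟨hy.1, h, hd, fun hyW => hy.2 ?_⟩
  rw [Cyc.divFun, dif_pos ⟨h, hd⟩]
  exact (hW y hyW).ordAt_eq_zero hδ h hd

theorem exists_c1Cap_family (hδ : Cyc.IsDimFun X δ) (hL : PicF.IsInvertible L) {k : ℤ} {a : X → ℤ} (ha : RZ δ (k + 1) a)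
    {v : (ζ : X) → Cyc.secFibre L ζ} (hv : ∀ ζ, v ζ ≠ 0) : ∃ F : (z : X) → X.residueField z, (∀ z, F z ≠ 0) ∧
      (∀ x : X, ∃ U : X.Opens, x ∈ U ∧ {z | z ∈ U ∧ F z ≠ 1}.Finite) ∧ (∀ z, F z ≠ 1 → δ z = k + 1) ∧
      (∀ z, SecOn v z → F z = 1) ∧ ∀ x, Cyc.c1CapFun δ L a v x = ∑ᶠ z, Cyc.divFun δ z (F z) x := by
  classical
  obtain ⟨f, f1, f2, f3, f4⟩ := ha
  choose H h1 h2 h3 h5 h4 using fun ξ => rz_c1Cap_div (δ := δ) hδ hL (ParaPair.isInvertible_structure X) (f1 ξ) hv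
  have hfam : ∀ x : X, ∃ U : X.Opens, x ∈ U ∧ {i | ∃ y ∈ U, Cyc.divFun δ i (f i) y ≠ 0}.Finite := fun x => by
    obtain ⟨U, hx, hfin⟩ := f2 x
    refine ⟨U, hx, hfin.subset ?_⟩
    rintro i ⟨y, hy, hne⟩
    exact ⟨(divFun_ne_zero hne).1.mem_open U.2 hy, fun h => hne (by rw [h, divFun_one hδ])⟩
  have ha : a = fun y => ∑ᶠ ξ, Cyc.divFun δ ξ (f ξ) y := funext f4
  subst ha
  let G : (ξ z : X) → X.residueField z := fun ξ z => if f ξ = 1 then 1 else H ξ z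
  have hG : ∀ ξ x, Cyc.c1CapFun δ L (Cyc.divFun δ ξ (f ξ)) v x = ∑ᶠ z, Cyc.divFun δ z (G ξ z) x := by
    intro ξ x
    by_cases hξ : f ξ = 1
    · simp only [G, if_pos hξ, divFun_one hδ, finsum_zero]
      exact finsum_eq_zero_of_forall_eq_zero fun z => by rw [hξ, divFun_one hδ, zero_mul]
    · simp only [G, if_neg hξ]
      exact h4 ξ x
  have e1 : ∀ ξ z, G ξ z ≠ 0 := fun ξ z => by
    by_cases hξ : f ξ = 1
    · simp [G, hξ]
    · simp only [G, if_neg hξ]; exact h1 ξ z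
  have e2 : ∀ ξ z, G ξ z ≠ 1 → δ z = k + 1 := fun ξ z hz => by
    by_cases hξ : f ξ = 1
    · simp [G, hξ] at hz
    · simp only [G, if_neg hξ] at hz
      have := (h3 ξ z hz).2
      have := f3 ξ hξ
      omega
  have e3 : ∀ x : X, ∃ U : X.Opens, x ∈ U ∧ {p : X × X | p.2 ∈ U ∧ G p.1 p.2 ≠ 1}.Finite := fun x => by
    obtain ⟨U, hx, hfin⟩ := f2 x
    choose V hxV hV using fun ξ => h2 ξ x
    refine ⟨U ⊓ hfin.toFinset.inf V, ⟨hx, ?_⟩,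
      (hfin.biUnion fun ξ _ => ((hV ξ).image fun z => (ξ, z))).subset fun p hp => ?_⟩
    · induction hfin.toFinset using Finset.induction_on with
      | empty => trivial
      | insert i t _ ih => rw [Finset.inf_insert]; exact ⟨hxV i, ih⟩
    · obtain ⟨hpU, hp1⟩ := hp
      have hne : f p.1 ≠ 1 := fun h => hp1 (if_pos h)
      rw [show G p.1 p.2 = H p.1 p.2 from if_neg hne] at hp1
      have hξ : p.1 ∈ {z | z ∈ U ∧ f z ≠ 1} := ⟨(h3 _ _ hp1).1.mem_open U.2 hpU.1, hne⟩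
      exact Set.mem_biUnion hξ ⟨p.2, ⟨(Finset.inf_le (f := V) ((Set.Finite.mem_toFinset _).2 hξ)) hpU.2, hp1⟩, rfl⟩
  obtain ⟨g1, g2, g3, g4⟩ := finsum_family hδ (fun ξ => Cyc.c1CapFun δ L (Cyc.divFun δ ξ (f ξ)) v) G e1 e2 e3 hG
  refine ⟨_, g1, g2, g3, fun z hz => finprod_eq_one_of_forall_eq_one fun ξ => ?_, fun x =>
      (c1Cap_finsum _ (fun ξ => lf_divFun hδ (f1 ξ)) hfam v x).trans (g4 x)⟩
  by_cases hξ : f ξ = 1
  · exact if_pos hξ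
  · exact (if_neg hξ).trans (h5 ξ z hz)

theorem rz_c1Cap (hδ : Cyc.IsDimFun X δ) (hL : PicF.IsInvertible L) {k : ℤ} {a : X → ℤ} (ha : RZ δ (k + 1) a)
    {v : (ζ : X) → Cyc.secFibre L ζ} (hv : ∀ ζ, v ζ ≠ 0) : RZ δ k (Cyc.c1CapFun δ L a v) := by
  obtain ⟨F, h1, h2, h3, -, h4⟩ := exists_c1Cap_family hδ hL ha hv
  exact ⟨F, h1, h2, h3, h4⟩

theorem exists_comm_family (hδ : Cyc.IsDimFun X δ) (hL : PicF.IsInvertible L) (hN : PicF.IsInvertible N) {k : ℤ} {α : X → ℤ}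
    (hα : LF α) (hk : ∀ ξ, α ξ ≠ 0 → δ ξ = k + 2) {sL sL' : (ξ : X) → Cyc.secFibre L ξ}
    {sN sN' : (ξ : X) → Cyc.secFibre N ξ} (hsL : ∀ ξ, sL ξ ≠ 0) (hsL' : ∀ ξ, sL' ξ ≠ 0) (hsN : ∀ ξ, sN ξ ≠ 0)
    (hsN' : ∀ ξ, sN' ξ ≠ 0) :
    ∃ F : (z : X) → X.residueField z, (∀ z, F z ≠ 0) ∧ (∀ x : X, ∃ U : X.Opens, x ∈ U ∧ {z | z ∈ U ∧ F z ≠ 1}.Finite) ∧
      (∀ z, F z ≠ 1 → δ z = k + 1) ∧ (∀ z, (sL' = sL ∧ SecOn sL z) ∨ (sN' = sN ∧ SecOn sN z) → F z = 1) ∧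
      ∀ x, (Cyc.c1CapFun δ L (Cyc.c1CapFun δ N α sN) sL - Cyc.c1CapFun δ N (Cyc.c1CapFun δ L α sL') sN') x =
        ∑ᶠ z, Cyc.divFun δ z (F z) x := by
  classical
  choose h1 h2 h3 h4 using fun ξ => rz_comm (δ := δ) hδ hN hL (ξ := ξ) (hsN ξ) (hsL' ξ) hsL hsN'
  have hsmul : ∀ {M : X.Modules} (b : X → ℤ) (c : ℤ) (s : (ξ : X) → Cyc.secFibre M ξ) (x : X),
      Cyc.c1CapFun δ M (fun y => c * b y) s x = c * Cyc.c1CapFun δ M b s x := fun b c s x => by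
    simp only [Cyc.c1CapFun, mul_assoc, ← mul_finsum]
  have hlfmul : ∀ {b : X → ℤ} (c : ℤ), LF b → LF fun y => c * b y := fun c hb => hb.mono fun y hy => right_ne_zero_of_mul hy
  have hfam : ∀ {M : X.Modules} (s : (ξ : X) → Cyc.secFibre M ξ), ∀ x : X, ∃ U : X.Opens, x ∈ U ∧
      {i | ∃ y ∈ U, α i * Cyc.secDivFun δ M i (s i) y ≠ 0}.Finite := fun s x => by
    obtain ⟨U, hx, hfin⟩ := hα x
    refine ⟨U, hx, hfin.subset ?_⟩
    rintro i ⟨y, hy, hne⟩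
    exact ⟨(secDivFun_ne_zero (right_ne_zero_of_mul hne)).1.mem_open U.2 hy, left_ne_zero_of_mul hne⟩
  let H : (ξ z : X) → X.residueField z := fun ξ z => commFun δ hN hL (sN ξ) (sL' ξ) hsL hsN' z ^ α ξ
  obtain ⟨g1, g2, g3, g4⟩ := finsum_family (k := k) hδ (fun ξ x => α ξ * (Cyc.c1CapFun δ L (Cyc.secDivFun δ N ξ (sN ξ)) sL x -
      Cyc.c1CapFun δ N (Cyc.secDivFun δ L ξ (sL' ξ)) sN' x)) H (fun ξ z => zpow_ne_zero _ (h1 ξ z)) (fun ξ z hz => by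
    have hα0 : α ξ ≠ 0 := fun h => hz (by show _ ^ α ξ = 1; rw [h, zpow_zero])
    have hc : commFun δ hN hL (sN ξ) (sL' ξ) hsL hsN' z ≠ 1 := fun h => hz (by show _ ^ α ξ = 1; rw [h, one_zpow])
    have := (h3 ξ z hc).2
    have := hk ξ hα0
    omega)
    (fun x => by
    obtain ⟨U, hx, hfin⟩ := hα x
    choose V hxV hV using fun ξ => h2 ξ x
    refine ⟨U ⊓ hfin.toFinset.inf V, ⟨hx, ?_⟩,
      (hfin.biUnion fun ξ _ => ((hV ξ).image fun z => (ξ, z))).subset fun p hp => ?_⟩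
    · induction hfin.toFinset using Finset.induction_on with
      | empty => trivial
      | insert i t _ ih => rw [Finset.inf_insert]; exact ⟨hxV i, ih⟩
    · obtain ⟨hpU, hp1⟩ := hp
      have hα0 : α p.1 ≠ 0 := fun h => hp1 (by show _ ^ α p.1 = 1; rw [h, zpow_zero])
      have hc : commFun δ hN hL (sN p.1) (sL' p.1) hsL hsN' p.2 ≠ 1 := fun h =>
        hp1 (by show _ ^ α p.1 = 1; rw [h, one_zpow])
      have hξ : p.1 ∈ {z | z ∈ U ∧ α z ≠ 0} := ⟨(h3 _ _ hc).1.mem_open U.2 hpU.1, hα0⟩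
      exact Set.mem_biUnion hξ ⟨p.2, ⟨(Finset.inf_le (f := V) ((Set.Finite.mem_toFinset _).2 hξ)) hpU.2, hc⟩, rfl⟩)
    (fun ξ x => by
    show α ξ * _ = _
    rw [h4 ξ x, mul_finsum]
    exact finsum_congr fun z => (divFun_zpow hδ (h1 ξ z) _ x).symm)
  refine ⟨_, g1, g2, g3, fun z hz => finprod_eq_one_of_forall_eq_one fun ξ => ?_, fun x => ?_⟩
  · show _ ^ α ξ = 1
    rcases hz with ⟨e, hz⟩ | ⟨e, hz⟩
    · subst e
      rw [commFun_eq_one' hδ hN hL (hsN ξ) hsL hsN' hz, one_zpow]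
    · subst e
      rw [commFun_eq_one hδ hN hL (hsL' ξ) hsL hsN' hz, one_zpow]
  · rw [← g4 x]
    rw [Pi.sub_apply,
      show Cyc.c1CapFun δ N α sN = (fun y => ∑ᶠ ξ, α ξ * Cyc.secDivFun δ N ξ (sN ξ) y) from rfl,
      show Cyc.c1CapFun δ L α sL' = (fun y => ∑ᶠ ξ, α ξ * Cyc.secDivFun δ L ξ (sL' ξ) y) from rfl,
      c1Cap_finsum _ (fun i => hlfmul _ (lf_secDivFun hδ hN (hsN i))) (hfam sN) sL x,
      c1Cap_finsum _ (fun i => hlfmul _ (lf_secDivFun hδ hL (hsL' i))) (hfam sL') sN' x]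
    simp only [hsmul, mul_sub]
    refine (finsum_sub_distrib ?_ ?_).symm <;>
    · refine (hα.finite_gen x).subset fun i hi => ⟨?_, left_ne_zero_of_mul hi⟩
      obtain ⟨y, hy, hy', -⟩ := c1Cap_ne_zero (right_ne_zero_of_mul hi)
      exact (secDivFun_ne_zero hy).1.trans hy'


theorem rz_c1Cap_comm (hδ : Cyc.IsDimFun X δ) (hL : PicF.IsInvertible L) (hN : PicF.IsInvertible N) {k : ℤ} {α : X → ℤ}
    (hα : LF α) (hk : ∀ ξ, α ξ ≠ 0 → δ ξ = k + 2) {sL sL' : (ξ : X) → Cyc.secFibre L ξ}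
    {sN sN' : (ξ : X) → Cyc.secFibre N ξ} (hsL : ∀ ξ, sL ξ ≠ 0) (hsL' : ∀ ξ, sL' ξ ≠ 0) (hsN : ∀ ξ, sN ξ ≠ 0)
    (hsN' : ∀ ξ, sN' ξ ≠ 0) :
    RZ δ k (Cyc.c1CapFun δ L (Cyc.c1CapFun δ N α sN) sL - Cyc.c1CapFun δ N (Cyc.c1CapFun δ L α sL') sN') := by
  obtain ⟨F, h1, h2, h3, -, h4⟩ := exists_comm_family hδ hL hN hα hk hsL hsL' hsN hsN'
  exact ⟨F, h1, h2, h3, h4⟩

theorem rz_c1Cap_unit (hδ : Cyc.IsDimFun X δ) {k : ℤ} {α : X → ℤ} (hα : LF α) (hk : ∀ ξ, α ξ ≠ 0 → δ ξ = k + 1)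
    {s : (ξ : X) → Cyc.secFibre (Coh.structureModule X) ξ} (hs : ∀ ξ, s ξ ≠ 0) :
    RZ δ k (Cyc.c1CapFun δ (Coh.structureModule X) α s) := by
  obtain ⟨e, he, hesp⟩ := exists_unit_gen (X := X)
  have hO := ParaPair.isInvertible_structure X
  have hu : ∀ z, (cls (e z) : Cyc.secFibre (Coh.structureModule X) z) ≠ 0 := fun z h =>
    one_ne_zero (α := X.residueField z) (by
      rw [← coord_cls (he z), h, ← zero_smul (X.presheaf.stalk z) (cls (e z)), coord_smul_cls (he z), map_zero])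
  refine (rz_change hδ hO hα hk hs hu).congr fun x => ?_
  rw [Pi.sub_apply]
  suffices h : Cyc.c1CapFun δ (Coh.structureModule X) α (fun z => cls (e z)) x = 0 by rw [h, sub_zero]
  refine finsum_eq_zero_of_forall_eq_zero fun z => ?_
  rw [show Cyc.secDivFun δ (Coh.structureModule X) z (cls (e z)) x = 0 from ?_, mul_zero]
  unfold Cyc.secDivFun
  split_ifs with h
  · rw [secOrdAt_eq hδ h.1 h.2 hO (he x), hesp x z h.1, coord_cls (he z), ordAt_one hδ h.1 h.2]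
  · rfl

end GrothLib.C1
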