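import Groth.Agent.Lib.C1.Ops
import Groth.Agent.Lib.Ref1.Generic

/-!
`c₁ ∩ -` only depends on the module up to isomorphism.
-/

set_option autoImplicit false
universe u

open CategoryTheory AlgebraicGeometry

namespace GrothLib.C1

open GrothLib GrothLib.CycDiv GrothLib.Ref1 IsLocalRing

variable {X : Scheme.{u}} {L M : X.Modules} (e : L ≅ M)

/-- The map of fibres induced by an isomorphism. -/
noncomputable def isoFib (ξ : X) : Cyc.secFibre L ξ →ₗ[X.presheaf.stalk ξ] Cyc.secFibre M ξ :=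
  Submodule.mapQ _ _ (RefHull.stalkMapₗ e.hom ξ)
    (Submodule.smul_le.2 fun r hr m _ => by
      rw [Submodule.mem_comap, map_smul]
      exact Submodule.smul_mem_smul hr Submodule.mem_top)

theorem isoFib_cls (ξ : X) (t : L.presheaf.stalk ξ) : isoFib e ξ (cls t) = cls (RefHull.stalkMapₗ e.hom ξ t) := rfl

variable {e} in
theorem gen_iso {ξ : X} {t : L.presheaf.stalk ξ} (ht : Gen L ξ t) : Gen M ξ (RefHull.stalkMapₗ e.hom ξ t) := by
  have h := (stalkMapₗ_bijective e ξ).comp ht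
  refine ⟨fun a b hab => h.1 ?_, fun v => ?_⟩
  · simpa only [Function.comp_apply, map_smul] using hab
  · obtain ⟨a, ha⟩ := h.2 v
    exact ⟨a, by simpa only [Function.comp_apply, map_smul] using ha⟩

theorem coord_isoFib {ξ : X} {t : L.presheaf.stalk ξ} (ht : Gen L ξ t) (s : Cyc.secFibre L ξ) :
    coord (RefHull.stalkMapₗ e.hom ξ t) (isoFib e ξ s) = coord t s := by
  obtain ⟨φ, rfl⟩ := exists_smul_cls ht s
  rw [map_smul, isoFib_cls, coord_smul_cls ht, coord_smul_cls (gen_iso ht)]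

theorem isoFib_ne_zero (hL : PicF.IsInvertible L) {ξ : X} {s : Cyc.secFibre L ξ} (hs : s ≠ 0) : isoFib e ξ s ≠ 0 := by
  obtain ⟨t, ht, rfl⟩ := exists_gen_lift hL hs
  rw [isoFib_cls]
  intro h
  refine one_ne_zero (α := X.residueField ξ) ?_
  rw [← coord_cls (gen_iso (e := e) ht), h, ← zero_smul (X.presheaf.stalk ξ) (cls (RefHull.stalkMapₗ e.hom ξ t)),
    coord_smul_cls (gen_iso ht), map_zero]

theorem secDivFun_iso [IsLocallyNoetherian X] {δ : X → ℤ} (hδ : Cyc.IsDimFun X δ) (hL : PicF.IsInvertible L)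
    (hM : PicF.IsInvertible M) (ξ x : X) (s : Cyc.secFibre L ξ) :
    Cyc.secDivFun δ M ξ (isoFib e ξ s) x = Cyc.secDivFun δ L ξ s x := by
  by_cases h : ξ ⤳ x ∧ δ x + 1 = δ ξ
  swap
  · rw [Cyc.secDivFun, Cyc.secDivFun, dif_neg h, dif_neg h]
  obtain ⟨t, ht⟩ := exists_gen hL x
  rw [secDivFun_eq hδ hM h.1 h.2 (gen_iso (e := e) ht), secDivFun_eq hδ hL h.1 h.2 ht, ← stalkMapₗ_sp,
    coord_isoFib e (gen_sp hL h.1 ht)]

theorem c1Cap_iso [IsLocallyNoetherian X] {δ : X → ℤ} (hδ : Cyc.IsDimFun X δ) (hL : PicF.IsInvertible L)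
    (hM : PicF.IsInvertible M) (α : X → ℤ) (s : (ξ : X) → Cyc.secFibre L ξ) :
    Cyc.c1CapFun δ M α (fun ξ => isoFib e ξ (s ξ)) = Cyc.c1CapFun δ L α s :=
  funext fun x => finsum_congr fun ξ => by rw [secDivFun_iso e hδ hL hM]

end GrothLib.C1
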