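import Groth.Agent.S1848
import Groth.Agent.S1849
import Groth.Agent.S1851
import Groth.Agent.Lib.CycPush.Algebra
import Mathlib.RingTheory.Norm.Basic

/-!
Tame symbols of fractions, invariance under isomorphisms.
-/

set_option autoImplicit false
universe u

namespace GrothLib.C1

open IsLocalRing GrothLib GrothLib.Tame

theorem ordFrac_congr {R R' K K' : Type u} [CommRing R] [CommRing R'] [IsDomain R] [IsDomain R'] [IsNoetherianRing R]
    [IsNoetherianRing R'] [Ring.KrullDimLE 1 R] [Ring.KrullDimLE 1 R'] [Field K] [Field K'] [Algebra R K] [Algebra R' K']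
    [IsFractionRing R K] [IsFractionRing R' K'] (φ : R ≃+* R') (ε : K →+* K')
    (h : ∀ r, ε (algebraMap R K r) = algebraMap R' K' (φ r)) (f : K) :
    CycAlg.ordFrac R' K' (ε f) = CycAlg.ordFrac R K f := by
  rcases eq_or_ne f 0 with rfl | hf
  · simp [CycAlg.ordFrac]
  obtain ⟨a, b, hb, rfl⟩ := IsFractionRing.div_surjective (A := R) f
  have hb0 : b ≠ 0 := nonZeroDivisors.ne_zero hb
  have ha0 : a ≠ 0 := by rintro rfl; simp at hf
  have hord : ∀ c : R, c ≠ 0 → CycAlg.ordFrac R' K' (algebraMap R' K' (φ c)) = CycAlg.ordFrac R K (algebraMap R K c) := by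
    intro c hc
    have hc' : φ c ≠ 0 := (map_ne_zero_iff _ φ.injective).2 hc
    have hlen : Ring.ord R' (φ c) = Ring.ord R c := by
      letI : Algebra R R' := φ.toRingHom.toAlgebra
      have hs : Function.Surjective (algebraMap R R') := φ.surjective
      unfold Ring.ord
      rw [← Module.length_eq_of_surjective (M := R' ⧸ Ideal.span {φ c}) hs]
      refine (LinearEquiv.length_eq ?_).symm
      exact (Ideal.quotientEquivAlg (R₁ := R) (Ideal.span {c}) (Ideal.span {φ c})
        (AlgEquiv.ofRingEquiv (f := φ) fun r => rfl) (by rw [Ideal.map_span, Set.image_singleton]; rfl)).toLinearEquiv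
    have key : ∀ {S L : Type u} [CommRing S] [IsDomain S] [IsNoetherianRing S] [Ring.KrullDimLE 1 S] [Field L] [Algebra S L]
        [IsFractionRing S L] {x : S}, x ≠ 0 → CycAlg.ordFrac S L (algebraMap S L x) = ((Ring.ord S x).toNat : ℤ) := by
      intro S L _ _ _ _ _ _ _ x hx
      have hm := mem_nonZeroDivisors_of_ne_zero hx
      rw [CycAlg.ordFrac, dif_pos ⟨inferInstance, inferInstance, inferInstance, inferInstance⟩, Ring.ordFrac_eq_ord _ hx,
        Ring.ordMonoidWithZeroHom_eq_coe _ hm (ENat.natCast_toNat (Ring.ord_ne_top hm)).symm]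
      rfl
    rw [key hc', key hc, hlen]
  have hne : ∀ {c : R}, c ≠ 0 → algebraMap R K c ≠ 0 := fun hc => (map_ne_zero_iff _ (IsFractionRing.injective R K)).2 hc
  have hne' : ∀ {c : R}, c ≠ 0 → algebraMap R' K' (φ c) ≠ 0 := fun hc =>
    (map_ne_zero_iff _ (IsFractionRing.injective R' K')).2 ((map_ne_zero_iff _ φ.injective).2 hc)
  rw [map_div₀, h, h, Groth.Agent.S1851.ordFrac_div (hne' ha0) (hne' hb0), Groth.Agent.S1851.ordFrac_div (hne ha0) (hne hb0),
    hord a ha0, hord b hb0]

section map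

variable {A A' : Type u} [CommRing A] [IsNoetherianRing A] [IsLocalRing A] [Ring.KrullDimLE 1 A]
  [CommRing A'] [IsNoetherianRing A'] [IsLocalRing A'] [Ring.KrullDimLE 1 A']

theorem tameSymbol_equiv (e : A ≃+* A') {a b : A} (ha : a ∈ nonZeroDivisors A) (hb : b ∈ nonZeroDivisors A) :
    ResidueField.map (e : A →+* A') (CycAlg.tameSymbol A a b) = CycAlg.tameSymbol A' (e a) (e b) := by
  classical
  obtain ⟨C, iC, iA, hfin, hC, hπ⟩ := exists_common ({a, b} : Finset A) (by simp [ha, hb])
  choose π hreg hpow using hπ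
  choose e₁ h₁ using fun q => hpow q a (by simp)
  choose e₂ h₂ using fun q => hpow q b (by simp)
  let P : Data A C a b := ⟨π, hreg, e₁, e₂, h₁, h₂⟩
  letI : Algebra A' C := ((algebraMap A C).comp (e.symm : A' →+* A)).toAlgebra
  have he : ∀ x, algebraMap A' C (e x) = algebraMap A C x := fun x => by
    show algebraMap A C (e.symm (e x)) = _
    rw [e.symm_apply_apply]
  haveI : Module.Finite A' C := by
    letI : Algebra A A' := (e : A →+* A').toAlgebra
    haveI : IsScalarTower A A' C := IsScalarTower.of_algebraMap_eq fun x => (he x).symm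
    exact Module.Finite.of_restrictScalars_finite A A' C
  have hC' : CycAlg.IsFinExt A' C (maximalIdeal A') := by
    obtain ⟨n, hn⟩ := hC.2.2
    refine ⟨hC.1.comp e.symm.injective, inferInstance, n, fun r hr x => ?_⟩
    have hm : (maximalIdeal A').map (e.symm : A' →+* A) ≤ maximalIdeal A := Ideal.map_le_iff_le_comap.2 fun y hy => by
      rw [Ideal.mem_comap, mem_maximalIdeal, mem_nonunits_iff]
      exact fun h => (mem_maximalIdeal y).1 hy (by simpa using h.map (e : A →+* A'))
    obtain ⟨y, hy⟩ := hn (e.symm r) (by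
      have := Ideal.mem_map_of_mem (e.symm : A' →+* A) hr
      rw [Ideal.map_pow] at this
      exact Ideal.pow_right_mono hm n this) x
    exact ⟨e y, by rw [he, hy, Algebra.smul_def, Algebra.smul_def]; rfl⟩
  let P' : Data A' C (e a) (e b) :=
    ⟨π, hreg, e₁, e₂, fun q => by rw [he]; exact h₁ q, fun q => by rw [he]; exact h₂ q⟩
  have ha' : e a ∈ nonZeroDivisors A' := mem_nonZeroDivisors_iff_right.2 fun x hx => by
    have h : e.symm x * a = 0 := by simpa using congrArg e.symm hx
    simpa using congrArg e ((mul_right_mem_nonZeroDivisors_eq_zero_iff ha).1 h)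
  have hb' : e b ∈ nonZeroDivisors A' := mem_nonZeroDivisors_iff_right.2 fun x hx => by
    have h : e.symm x * b = 0 := by simpa using congrArg e.symm hx
    simpa using congrArg e ((mul_right_mem_nonZeroDivisors_eq_zero_iff hb).1 h)
  rw [tameSymbol_eq_value ha hb hC P, tameSymbol_eq_value ha' hb' hC' P']
  haveI := finite_maximalSpectrum A C
  haveI := Fintype.ofFinite (MaximalSpectrum C)
  have hN : ∀ (q : MaximalSpectrum C) (y : C),
      ResidueField.map (e : A →+* A') (nrm (A := A) q.asIdeal y) = nrm (A := A') q.asIdeal y := by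
    intro q y
    let ε : (A ⧸ maximalIdeal A) ≃+* (A' ⧸ maximalIdeal A') :=
      Ideal.quotientEquiv _ _ e (IsLocalRing.eq_maximalIdeal (Ideal.map_isMaximal_of_equiv e)).symm
    have h := Algebra.norm_eq_of_equiv_equiv (A₁ := A ⧸ maximalIdeal A) (B₁ := C ⧸ q.asIdeal) (A₂ := A' ⧸ maximalIdeal A')
      (B₂ := C ⧸ q.asIdeal) ε (RingEquiv.refl _) (by
        ext x
        show Ideal.Quotient.mk q.asIdeal (algebraMap A' C (e x)) = Ideal.Quotient.mk q.asIdeal (algebraMap A C x)
        rw [he]) (Ideal.Quotient.mk q.asIdeal y)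
    rw [nrm_apply, nrm_apply]
    show ε (Algebra.norm (A ⧸ maximalIdeal A) (Ideal.Quotient.mk q.asIdeal y)) = _
    rw [h, ε.apply_symm_apply]
    rfl
  have hnu : ∀ (q : MaximalSpectrum C) {x : A} {k : ℕ} (h : PowAt q.asIdeal (π q) (algebraMap A C x) k)
      (h' : PowAt q.asIdeal (π q) (algebraMap A' C (e x)) k), ResidueField.map (e : A →+* A') (h.nu (A := A)) = h'.nu (A := A') := by
    intro q x k h h'
    obtain ⟨s, c, hs, hc, hx⟩ := id h
    rw [h.nu_eq (hreg q) s c hs hx, h'.nu_eq (hreg q) s c hs (by rw [he]; exact hx), map_div₀, hN, hN]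
  simp only [Data.value, finprod_eq_prod_of_fintype, map_prod, map_pow]
  refine Finset.prod_congr rfl fun q _ => ?_
  show ResidueField.map (e : A →+* A') (P.sym q) ^ P.mult q = P'.sym q ^ P.mult q
  simp only [Data.sym, map_mul, map_inv₀, map_pow, hN]
  rw [hnu q (P.h₁ q) (P'.h₁ q), hnu q (P.h₂ q) (P'.h₂ q)]

end map

section swap

variable {A : Type u} [CommRing A] [IsNoetherianRing A] [IsLocalRing A] [Ring.KrullDimLE 1 A]

theorem tameSymbol_swap {a b : A} (ha : a ∈ nonZeroDivisors A) (hb : b ∈ nonZeroDivisors A) :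
    CycAlg.tameSymbol A b a = (CycAlg.tameSymbol A a b)⁻¹ := by
  classical
  obtain ⟨C, iC, iA, hfin, hC, hπ⟩ := exists_common ({a, b} : Finset A) (by simp [ha, hb])
  choose π hreg hpow using hπ
  choose e₁ h₁ using fun q => hpow q a (by simp)
  choose e₂ h₂ using fun q => hpow q b (by simp)
  let P : Data A C a b := ⟨π, hreg, e₁, e₂, h₁, h₂⟩
  let P' : Data A C b a := ⟨π, hreg, e₂, e₁, h₂, h₁⟩
  rw [tameSymbol_eq_value hb ha hC P', tameSymbol_eq_value ha hb hC P]
  haveI := finite_maximalSpectrum A C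
  haveI := Fintype.ofFinite (MaximalSpectrum C)
  rw [Data.value, Data.value, finprod_eq_prod_of_fintype, finprod_eq_prod_of_fintype, ← Finset.prod_inv_distrib]
  refine Finset.prod_congr rfl fun q _ => ?_
  show P'.sym q ^ P.mult q = (P.sym q ^ P.mult q)⁻¹
  rw [← inv_pow]
  congr 1
  have hneg : (nrm (A := A) q.asIdeal (-1) ^ (e₁ q * e₂ q))⁻¹ = nrm (A := A) q.asIdeal (-1) ^ (e₁ q * e₂ q) :=
    inv_eq_of_mul_eq_one_right (by rw [← mul_pow, ← map_mul, neg_one_mul, neg_neg, map_one, one_pow])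
  show nrm q.asIdeal (-1) ^ (e₂ q * e₁ q) * (h₂ q).nu (A := A) ^ e₁ q * ((h₁ q).nu (A := A) ^ e₂ q)⁻¹ =
    (nrm q.asIdeal (-1) ^ (e₁ q * e₂ q) * (h₁ q).nu (A := A) ^ e₂ q * ((h₂ q).nu (A := A) ^ e₁ q)⁻¹)⁻¹
  rw [mul_inv, mul_inv, inv_inv, hneg, mul_comm (e₂ q)]
  ring

end swap

section frac

variable (A : Type u) [CommRing A] [IsDomain A] [IsLocalRing A] (K : Type u) [Field K] [Algebra A K] [IsFractionRing A K]

/-- The symbol on nonzero fractions. -/
noncomputable def tameK (f g : K) : ResidueField A :=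
  let p := IsFractionRing.div_surjective (A := A) f
  let q := IsFractionRing.div_surjective (A := A) g
  CycAlg.tameSymbol A p.choose q.choose * CycAlg.tameSymbol A p.choose_spec.choose q.choose_spec.choose /
    (CycAlg.tameSymbol A p.choose q.choose_spec.choose * CycAlg.tameSymbol A p.choose_spec.choose q.choose)

variable {A K} [IsNoetherianRing A]

theorem sym_ne_zero (hA : ringKrullDim A = 1) {a b : A} (ha : a ≠ 0) (hb : b ≠ 0) : CycAlg.tameSymbol A a b ≠ 0 :=
  (Groth.Agent.S1848.result A hA).1 a b (mem_nonZeroDivisors_of_ne_zero ha) (mem_nonZeroDivisors_of_ne_zero hb)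

theorem tameK_eq (hA : ringKrullDim A = 1) {f g : K} {a b c d : A} (ha : a ≠ 0) (hb : b ≠ 0) (hc : c ≠ 0) (hd : d ≠ 0)
    (hf : f * algebraMap A K b = algebraMap A K a) (hg : g * algebraMap A K d = algebraMap A K c) :
    tameK A K f g = CycAlg.tameSymbol A a c * CycAlg.tameSymbol A b d /
      (CycAlg.tameSymbol A a d * CycAlg.tameSymbol A b c) := by
  have hmul := (Groth.Agent.S1848.result A hA).2.1
  have hne : ∀ {x : A}, x ≠ 0 → algebraMap A K x ≠ 0 := fun hx => (map_ne_zero_iff _ (IsFractionRing.injective A K)).2 hx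
  unfold tameK
  dsimp only
  generalize hP : (IsFractionRing.div_surjective (A := A) f).choose_spec.choose = b'
  generalize hQ : (IsFractionRing.div_surjective (A := A) g).choose_spec.choose = d'
  generalize hPa : (IsFractionRing.div_surjective (A := A) f).choose = a'
  generalize hQc : (IsFractionRing.div_surjective (A := A) g).choose = c'
  obtain ⟨hb', hp⟩ := (IsFractionRing.div_surjective (A := A) f).choose_spec.choose_spec
  obtain ⟨hd', hq⟩ := (IsFractionRing.div_surjective (A := A) g).choose_spec.choose_spec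
  rw [hP] at hb'
  rw [hQ] at hd'
  replace hp : algebraMap A K a' / algebraMap A K b' = f := by subst hP; subst hPa; exact hp
  replace hq : algebraMap A K c' / algebraMap A K d' = g := by subst hQ; subst hQc; exact hq
  have hb0 : b' ≠ 0 := nonZeroDivisors.ne_zero hb'
  have hd0 : d' ≠ 0 := nonZeroDivisors.ne_zero hd'
  have ha0 : a' ≠ 0 := by
    intro h; rw [h, map_zero, zero_div] at hp
    rw [← hp, zero_mul] at hf; exact hne ha hf.symm
  have hc0 : c' ≠ 0 := by
    intro h; rw [h, map_zero, zero_div] at hq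
    rw [← hq, zero_mul] at hg; exact hne hc hg.symm
  have e1 : a' * b = a * b' := IsFractionRing.injective A K (by
    rw [map_mul, map_mul, ← hf, ← hp]; field_simp [hne hb0])
  have e2 : c' * d = c * d' := IsFractionRing.injective A K (by
    rw [map_mul, map_mul, ← hg, ← hq]; field_simp [hne hd0])
  have m : ∀ {x : A}, x ≠ 0 → x ∈ nonZeroDivisors A := fun hx => mem_nonZeroDivisors_of_ne_zero hx
  have hl : ∀ {x : A}, x ≠ 0 → CycAlg.tameSymbol A a' x * CycAlg.tameSymbol A b x =
      CycAlg.tameSymbol A a x * CycAlg.tameSymbol A b' x := fun hx => by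
    rw [← (hmul a' b _ (m ha0) (m hb) (m hx)).1, e1, (hmul a b' _ (m ha) (m hb0) (m hx)).1]
  have hr : ∀ {x : A}, x ≠ 0 → CycAlg.tameSymbol A x c' * CycAlg.tameSymbol A x d =
      CycAlg.tameSymbol A x c * CycAlg.tameSymbol A x d' := fun hx => by
    rw [← (hmul c' d _ (m hc0) (m hd) (m hx)).2, e2, (hmul c d' _ (m hc) (m hd0) (m hx)).2]
  have n := @sym_ne_zero A _ _ _ _ hA
  have h1 := hl hc0
  have h2 := hl hd0
  have h3 := hr ha
  have h4 := hr hb
  have := n ha hc; have := n hb hd; have := n ha hd; have := n hb hc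
  have := n ha0 hc0; have := n hb0 hd0; have := n ha0 hd0; have := n hb0 hc0
  have := n ha hd0; have := n hb hd0; have := n ha hc0; have := n hb hc0
  calc CycAlg.tameSymbol A a' c' * CycAlg.tameSymbol A b' d' / (CycAlg.tameSymbol A a' d' * CycAlg.tameSymbol A b' c')
      = CycAlg.tameSymbol A a c' * CycAlg.tameSymbol A b d' / (CycAlg.tameSymbol A a d' * CycAlg.tameSymbol A b c') := by
        rw [div_eq_div_iff (mul_ne_zero (by assumption) (by assumption)) (mul_ne_zero (by assumption) (by assumption))]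
        linear_combination (CycAlg.tameSymbol A a d' * CycAlg.tameSymbol A b' d') * h1 -
          (CycAlg.tameSymbol A a c' * CycAlg.tameSymbol A b' c') * h2
    _ = _ := by
        rw [div_eq_div_iff (mul_ne_zero (by assumption) (by assumption)) (mul_ne_zero (by assumption) (by assumption))]
        linear_combination (CycAlg.tameSymbol A b d' * CycAlg.tameSymbol A b c) * h3 -
          (CycAlg.tameSymbol A a d' * CycAlg.tameSymbol A a c) * h4

theorem tameK_ne_zero (hA : ringKrullDim A = 1) {f g : K} (hf : f ≠ 0) (hg : g ≠ 0) : tameK A K f g ≠ 0 := by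
  obtain ⟨a, b, hb, rfl⟩ := IsFractionRing.div_surjective (A := A) f
  obtain ⟨c, d, hd, rfl⟩ := IsFractionRing.div_surjective (A := A) g
  have hb0 : b ≠ 0 := nonZeroDivisors.ne_zero hb
  have hd0 : d ≠ 0 := nonZeroDivisors.ne_zero hd
  have ha : a ≠ 0 := by rintro rfl; simp at hf
  have hc : c ≠ 0 := by rintro rfl; simp at hg
  have hne : ∀ {x : A}, x ≠ 0 → algebraMap A K x ≠ 0 := fun hx => (map_ne_zero_iff _ (IsFractionRing.injective A K)).2 hx
  rw [tameK_eq hA ha hb0 hc hd0 (div_mul_cancel₀ _ (hne hb0)) (div_mul_cancel₀ _ (hne hd0))]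
  exact div_ne_zero (mul_ne_zero (sym_ne_zero hA ha hc) (sym_ne_zero hA hb0 hd0))
    (mul_ne_zero (sym_ne_zero hA ha hd0) (sym_ne_zero hA hb0 hc))

/-- Multiplying the arguments by units. -/
theorem tameK_units (hA : ringKrullDim A = 1) {f g : K} (hf : f ≠ 0) (hg : g ≠ 0) (u v : Aˣ) :
    tameK A K (algebraMap A K u * f) (algebraMap A K v * g) =
      tameK A K f g * residue A (u : A) ^ CycAlg.ordFrac A K g / residue A (v : A) ^ CycAlg.ordFrac A K f := by
  haveI : Ring.KrullDimLE 1 A := Ring.krullDimLE_iff.2 hA.le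
  obtain ⟨a, b, hb, rfl⟩ := IsFractionRing.div_surjective (A := A) f
  obtain ⟨c, d, hd, rfl⟩ := IsFractionRing.div_surjective (A := A) g
  have hb0 : b ≠ 0 := nonZeroDivisors.ne_zero hb
  have hd0 : d ≠ 0 := nonZeroDivisors.ne_zero hd
  have ha : a ≠ 0 := by rintro rfl; simp at hf
  have hc : c ≠ 0 := by rintro rfl; simp at hg
  have hne : ∀ {x : A}, x ≠ 0 → algebraMap A K x ≠ 0 := fun hx => (map_ne_zero_iff _ (IsFractionRing.injective A K)).2 hx
  obtain ⟨hn, hmul, -, hunit, -⟩ := Groth.Agent.S1848.result A hA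
  have m : ∀ {x : A}, x ≠ 0 → x ∈ nonZeroDivisors A := fun hx => mem_nonZeroDivisors_of_ne_zero hx
  have hu := u.isUnit.mem_nonZeroDivisors
  have hv := v.isUnit.mem_nonZeroDivisors
  rw [tameK_eq hA (a := u * a) (b := b) (c := v * c) (d := d) (mul_ne_zero u.ne_zero ha) hb0 (mul_ne_zero v.ne_zero hc) hd0
      (by rw [map_mul, mul_assoc, div_mul_cancel₀ _ (hne hb0)]) (by rw [map_mul, mul_assoc, div_mul_cancel₀ _ (hne hd0)]),
    tameK_eq hA ha hb0 hc hd0 (div_mul_cancel₀ _ (hne hb0)) (div_mul_cancel₀ _ (hne hd0))]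
  have hord : ∀ {x : A}, x ≠ 0 → CycAlg.ordFrac A K (algebraMap A K x) = ((Ring.ord A x).toNat : ℤ) := by
    intro x hx
    rw [CycAlg.ordFrac, dif_pos ⟨inferInstance, inferInstance, inferInstance, inferInstance⟩, Ring.ordFrac_eq_ord _ hx,
      Ring.ordMonoidWithZeroHom_eq_coe _ (m hx) (ENat.natCast_toNat (Ring.ord_ne_top (m hx))).symm]
    rfl
  have hr0 : ∀ w : Aˣ, residue A (w : A) ≠ 0 := fun w => (w.isUnit.map _).ne_zero
  rw [Groth.Agent.S1851.ordFrac_div (hne ha) (hne hb0), Groth.Agent.S1851.ordFrac_div (hne hc) (hne hd0), hord ha, hord hb0,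
    hord hc, hord hd0, zpow_sub₀ (hr0 u), zpow_sub₀ (hr0 v), zpow_natCast, zpow_natCast, zpow_natCast, zpow_natCast]
  have huu : CycAlg.tameSymbol A (u : A) (v : A) = 1 := Groth.Agent.S1849.tameSymbol_of_isUnit u.isUnit v.isUnit
  rw [(hmul u a _ hu (m ha) (mul_mem hv (m hc))).1, (hmul v c u hv (m hc) hu).2, (hmul v c a hv (m hc) (m ha)).2,
    (hmul v c b hv (m hc) (m hb0)).2, (hmul u a d hu (m ha) (m hd0)).1,
    tameSymbol_swap hv (m ha), tameSymbol_swap hv (m hb0), huu, hunit u c (m hc), hunit u d (m hd0),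
    hunit v a (m ha), hunit v b (m hb0)]
  have := hr0 u; have := hr0 v
  have := hn a c (m ha) (m hc); have := hn b d (m hb0) (m hd0); have := hn a d (m ha) (m hd0); have := hn b c (m hb0) (m hc)
  simp only [Ring.ord]
  field_simp

end frac

end GrothLib.C1
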