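import Groth.Agent.Lib.C1.Closed
import Groth.Agent.Lib.RelReg.FibreLift

/-!
The zero scheme of a pulled back section.
-/

set_option autoImplicit false
set_option backward.isDefEq.respectTransparency false
universe u

open CategoryTheory CategoryTheory.Limits AlgebraicGeometry

namespace GrothLib.C1

open IsLocalRing GrothLib GrothLib.Ref1

variable {X Y D : Scheme.{u}} (f : Y ⟶ X) {L : X.Modules} (i : D ⟶ X) [IsClosedImmersion i]
  {s : L.presheaf.obj (Opposite.op ⊤)}

theorem pullGerm_global (y : Y) (s : L.presheaf.obj (Opposite.op ⊤)) :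
    pullGerm f L y ((L.presheaf.germ ⊤ (f y) trivial) s) =
      (((Scheme.Modules.pullback f).obj L).presheaf.germ ⊤ y trivial) (pullSec f L s) :=
  pullGerm_germ f L (U := ⊤) y trivial s

theorem gcls_pullSec (hL : PicF.IsInvertible L) (y : Y) (s : L.presheaf.obj (Opposite.op ⊤)) :
    gcls (L := (Scheme.Modules.pullback f).obj L) (pullSec f L s) y = pullFib f hL y (gcls s (f y)) := by
  rw [gcls, gcls, pullFib_cls, pullGerm_global]
  skip

theorem gcls_pullSec_eq_zero (hL : PicF.IsInvertible L) (y : Y) (s : L.presheaf.obj (Opposite.op ⊤)) :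
    gcls (L := (Scheme.Modules.pullback f).obj L) (pullSec f L s) y = 0 ↔ gcls s (f y) = 0 := by
  rw [gcls_pullSec f hL]
  refine ⟨fun h => by_contra fun hne => pullFib_ne_zero f hL hne h, fun h => ?_⟩
  rw [h, show (0 : Cyc.secFibre L (f y)) = cls 0 from rfl, pullFib_cls, map_zero]
  rfl

/-- The zero scheme pulls back. -/
theorem isZeroSchemeOf_pullback (hL : PicF.IsInvertible L) (hD : Cyc.IsZeroSchemeOf i L s) :
    Cyc.IsZeroSchemeOf (pullback.fst f i) ((Scheme.Modules.pullback f).obj L) (pullSec f L s) := by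
  refine ⟨?_, fun z => ?_⟩
  · rw [Scheme.Pullback.range_fst]
    ext y
    rw [Set.mem_preimage, mem_range_iff i hD]
    exact (gcls_pullSec_eq_zero f hL y s).symm
  set y := pullback.fst f i z
  set d := pullback.snd f i z
  have hx : f y = i d := by
    show (pullback.fst f i ≫ f) z = (pullback.snd f i ≫ i) z
    rw [pullback.condition]
  have htr : ∀ (x : X) (e : x = i d), ∃ (t : L.presheaf.stalk x) (f0 : X.presheaf.stalk x),
      Submodule.span (X.presheaf.stalk x) {t} = ⊤ ∧ (L.presheaf.germ ⊤ x trivial) s = f0 • t ∧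
        (RingHom.ker (i.stalkMap d).hom).map (X.presheaf.stalkCongr (.of_eq e.symm)).hom.hom = Ideal.span {f0} := by
    rintro x rfl
    obtain ⟨t, f0, ht, hst, hker⟩ := hD.2 d
    refine ⟨t, f0, ht, hst, ?_⟩
    rw [TopCat.Presheaf.stalkCongr_hom, TopCat.Presheaf.stalkSpecializes_refl, CommRingCat.hom_id, Ideal.map_id, hker]
  obtain ⟨t, f0, ht, hst, hker⟩ := htr (f y) hx
  refine ⟨pullGerm f L y t, (f.stalkMap y).hom f0, (gen_pullGerm f hL (gen_of_span hL ht)).span, ?_, ?_⟩
  · rw [← pullGerm_smul, ← hst, pullGerm_global]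
    skip
  · obtain ⟨U, hU, hdU, -⟩ := exists_isAffineOpen_mem_and_subset (x := i d) (U := ⊤) trivial
    rw [GrothLib.RelReg.ker_stalkMap_of_isPullback (IsPullback.of_hasPullback f i).flip ⟨U, hU⟩ inferInstance d hdU z hx,
      CommRingCat.hom_comp, ← Ideal.map_map, hker, Ideal.map_span, Set.image_singleton]

/-- The zero scheme pulls back, other order. -/
theorem isZeroSchemeOf_pullback_snd (hL : PicF.IsInvertible L) (hD : Cyc.IsZeroSchemeOf i L s) :
    Cyc.IsZeroSchemeOf (pullback.snd i f) ((Scheme.Modules.pullback f).obj L) (pullSec f L s) := by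
  refine ⟨?_, fun z => ?_⟩
  · rw [Scheme.Pullback.range_snd]
    ext y
    rw [Set.mem_preimage, mem_range_iff i hD]
    exact (gcls_pullSec_eq_zero f hL y s).symm
  set y := pullback.snd i f z
  set d := pullback.fst i f z
  have hx : f y = i d := by
    show (pullback.snd i f ≫ f) z = (pullback.fst i f ≫ i) z
    rw [pullback.condition]
  have htr : ∀ (x : X) (e : x = i d), ∃ (t : L.presheaf.stalk x) (f0 : X.presheaf.stalk x),
      Submodule.span (X.presheaf.stalk x) {t} = ⊤ ∧ (L.presheaf.germ ⊤ x trivial) s = f0 • t ∧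
        (RingHom.ker (i.stalkMap d).hom).map (X.presheaf.stalkCongr (.of_eq e.symm)).hom.hom = Ideal.span {f0} := by
    rintro x rfl
    obtain ⟨t, f0, ht, hst, hker⟩ := hD.2 d
    refine ⟨t, f0, ht, hst, ?_⟩
    rw [TopCat.Presheaf.stalkCongr_hom, TopCat.Presheaf.stalkSpecializes_refl, CommRingCat.hom_id, Ideal.map_id, hker]
  obtain ⟨t, f0, ht, hst, hker⟩ := htr (f y) hx
  refine ⟨pullGerm f L y t, (f.stalkMap y).hom f0, (gen_pullGerm f hL (gen_of_span hL ht)).span, ?_, ?_⟩
  · rw [← pullGerm_smul, ← hst, pullGerm_global]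
    skip
  · obtain ⟨U, hU, hdU, -⟩ := exists_isAffineOpen_mem_and_subset (x := i d) (U := ⊤) trivial
    rw [GrothLib.RelReg.ker_stalkMap_of_isPullback (IsPullback.of_hasPullback i f) ⟨U, hU⟩ inferInstance d hdU z hx,
      CommRingCat.hom_comp, ← Ideal.map_map, hker, Ideal.map_span, Set.image_singleton]

theorem gysinChoice_pullback (hL : PicF.IsInvertible L) (w : (ξ : X) → Cyc.secFibre L ξ) (y : Y) :
    pullChoice f hL (Cyc.gysinChoice L s w) y =
      Cyc.gysinChoice ((Scheme.Modules.pullback f).obj L) (pullSec f L s) (pullChoice f hL w) y := by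
  unfold pullChoice
  by_cases h : gcls s (f y) = 0
  · rw [gysinChoice_neg (L := (Scheme.Modules.pullback f).obj L) _ ((gcls_pullSec_eq_zero f hL y s).2 h), gysinChoice_neg w h]
  · rw [gysinChoice_pos (L := (Scheme.Modules.pullback f).obj L) _ (fun e => h ((gcls_pullSec_eq_zero f hL y s).1 e)),
      gysinChoice_pos w h, gcls_pullSec f hL]

end GrothLib.C1
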