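import Groth.Agent.Lib.C1.FlatPull
import Groth.Agent.Lib.C1.ZeroScheme
import Groth.Agent.Lib.C1.Closed

/-!
Flat pullback on a closed subscheme.
-/

set_option autoImplicit false
universe u

open CategoryTheory CategoryTheory.Limits AlgebraicGeometry IsLocalRing

namespace GrothLib.C1

open GrothLib GrothLib.CycFlat

theorem length_quot_of_surjective {B B' : Type u} [CommRing B] [CommRing B'] (b : B →+* B')
    (hb : Function.Surjective b) (J : Ideal B) (hJ : RingHom.ker b ≤ J) :
    Module.length B (B ⧸ J) = Module.length B' (B' ⧸ J.map b) := by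
  letI := b.toAlgebra
  rw [← Module.length_eq_of_surjective (R := B') (S := B) (M := B' ⧸ J.map b) hb]
  let φ : B →ₗ[B] B' ⧸ J.map b := (Ideal.Quotient.mkₐ B (J.map b)).toLinearMap ∘ₗ Algebra.linearMap B B'
  have hφ : Function.Surjective φ := fun q => by
    obtain ⟨b', rfl⟩ := Ideal.Quotient.mk_surjective q
    obtain ⟨a, rfl⟩ := hb b'
    exact ⟨a, rfl⟩
  have hker : LinearMap.ker φ = J := by
    ext a
    rw [LinearMap.mem_ker]
    show Ideal.Quotient.mk (J.map b) (b a) = 0 ↔ _
    rw [Ideal.Quotient.eq_zero_iff_mem, ← Ideal.mem_comap, Ideal.comap_map_of_surjective b hb,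
      show Ideal.comap b ⊥ = RingHom.ker b from rfl, sup_eq_left.2 hJ]
  exact ((Submodule.quotEquivOfEq _ _ hker.symm).trans (φ.quotKerEquivOfSurjective hφ)).length_eq

variable {X X' D : Scheme.{u}} (f : X' ⟶ X) (i : D ⟶ X) [IsClosedImmersion i]

theorem map_maximalIdeal_congr {A B : Scheme.{u}} {a b : A ⟶ B} (e : a = b) (z : A) :
    (maximalIdeal (B.presheaf.stalk (a z))).map (a.stalkMap z).hom =
      (maximalIdeal (B.presheaf.stalk (b z))).map (b.stalkMap z).hom := by
  subst e
  rfl

theorem fibLength_pullback_snd (z : ↥(pullback f i)) :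
    fibLength (pullback.snd f i) z = fibLength f (pullback.fst f i z) := by
  have hx : f (pullback.fst f i z) = i (pullback.snd f i z) := by
    show (pullback.fst f i ≫ f) z = (pullback.snd f i ≫ i) z
    rw [pullback.condition]
  obtain ⟨U, hU, hdU, -⟩ := exists_isAffineOpen_mem_and_subset (x := i (pullback.snd f i z)) (U := ⊤) trivial
  have hk := GrothLib.RelReg.ker_stalkMap_of_isPullback (IsPullback.of_hasPullback f i).flip ⟨U, hU⟩ inferInstance
    (pullback.snd f i z) hdU z hx
  set J := (maximalIdeal (X.presheaf.stalk (f (pullback.fst f i z)))).map (f.stalkMap (pullback.fst f i z)).hom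
    with hJdef
  have hker : RingHom.ker ((pullback.fst f i).stalkMap z).hom ≤ J := by
    rw [hk, CommRingCat.hom_comp, ← Ideal.map_map]
    refine Ideal.map_mono (Ideal.map_le_iff_le_comap.2 fun a ha => ?_)
    rw [Ideal.mem_comap, IsLocalRing.mem_maximalIdeal, mem_nonunits_iff,
      isUnit_map_iff]
    exact fun hu => (RingHom.ker_ne_top _) (Ideal.eq_top_of_isUnit_mem _ ha hu)
  have hmax : (maximalIdeal (X.presheaf.stalk (i (pullback.snd f i z)))).map (i.stalkMap (pullback.snd f i z)).hom =
      maximalIdeal _ := by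
    refine le_antisymm (Ideal.map_le_iff_le_comap.2 fun a ha => ?_) fun a ha => ?_
    · rw [Ideal.mem_comap, IsLocalRing.mem_maximalIdeal, mem_nonunits_iff]
      exact fun hu => ha (isUnit_of_map_unit _ a hu)
    · obtain ⟨a', rfl⟩ := i.stalkMap_surjective (pullback.snd f i z) a
      exact Ideal.mem_map_of_mem _ ((IsLocalRing.mem_maximalIdeal _).2 fun hu => ha (hu.map _))
  have hmap : J.map ((pullback.fst f i).stalkMap z).hom =
      (maximalIdeal (D.presheaf.stalk (pullback.snd f i z))).map ((pullback.snd f i).stalkMap z).hom := by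
    rw [hJdef, Ideal.map_map, ← CommRingCat.hom_comp, ← Scheme.Hom.stalkMap_comp, ← hmax, Ideal.map_map,
      ← CommRingCat.hom_comp, ← Scheme.Hom.stalkMap_comp]
    exact map_maximalIdeal_congr pullback.condition z
  show Module.length _ _ = Module.length _ _
  rw [← hmap]
  exact (length_quot_of_surjective _ ((pullback.fst f i).stalkMap_surjective z) J hker).symm

end GrothLib.C1
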