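import Groth.Agent.Lib.CycFlat.Length
import Groth.Agent.Lib.CycBasic.Push
import Groth.Agent.Lib.Weight.Multiplicity
import Groth.Agent.Lib.FibreFlat.Stalk
import Groth.Agent.Lib.FibreBC.Basic
import Groth.Agent.Lib.BrnchNhd.Embedded
import Groth.Agent.Lib.C1.FlatGysin

/-!
Flat base change commutes with proper pushforward of cycles.
-/

set_option autoImplicit false
universe u

open CategoryTheory CategoryTheory.Limits AlgebraicGeometry IsLocalRing

namespace GrothLib.C1.BasePush

open GrothLib GrothLib.CycFlat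

/-- the multiplicity of a fibre at a point is the length of the local ring of the fibre -/
theorem fibLength_fiberι {X S : Scheme.{u}} (h : X ⟶ S) (s : S) (z : h.fiber s) :
    fibLength h (h.fiberι s z) = Module.length ((h.fiber s).presheaf.stalk z) ((h.fiber s).presheaf.stalk z) := by
  obtain ⟨hs, hk⟩ := FibreFlat.fiberι_stalkMap h s z
  refine (length_quot_of_surjective _ hs _ hk.le).trans ?_
  rw [← hk, (Ideal.map_eq_bot_iff_le_ker _).2 le_rfl]
  exact ((Submodule.quotEquivOfEqBot ⊥ rfl).restrictScalars _).length_eq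

/-- lengths of local rings along a flat map -/
theorem length_stalk_eq {A B : Scheme.{u}} (i : A ⟶ B) [Flat i] (w : A) :
    Module.length (A.presheaf.stalk w) (A.presheaf.stalk w) =
      Module.length (B.presheaf.stalk (i w)) (B.presheaf.stalk (i w)) * fibLength i w := by
  have h := length_map_eq_mul i w ⊥
  rw [Ideal.map_bot] at h
  rwa [(Submodule.quotEquivOfEqBot (⊥ : Ideal (A.presheaf.stalk w)) rfl).length_eq,
    (Submodule.quotEquivOfEqBot (⊥ : Ideal (B.presheaf.stalk (i w))) rfl).length_eq] at h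

theorem residueDegree_eq_one {A B : Scheme.{u}} (f : A ⟶ B) (x : A)
    (h : Function.Bijective (f.residueFieldMap x)) : f.residueDegree x = 1 := by
  unfold Scheme.Hom.residueDegree
  letI := (f.residueFieldMap x).hom.toAlgebra
  exact (LinearEquiv.ofBijective (Algebra.linearMap (B.residueField (f x)) (A.residueField x)) h).finrank_eq.symm.trans
    (Module.finrank_self _)

theorem residueDegree_congr {A B : Scheme.{u}} {f g : A ⟶ B} (e : f = g) (x : A) :
    f.residueDegree x = g.residueDegree x := by subst e; rfl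

theorem finite_residueField_of_eq {A B : Scheme.{u}} (f : A ⟶ B) [LocallyOfFiniteType f] {δA : A → ℤ} {δB : B → ℤ}
    (hδ : Cyc.DeltaCompat f δA δB) {x : A} (hx : δA x = δB (f x)) : (f.residueFieldMap x).hom.Finite := by
  letI := (f.residueFieldMap x).hom.toAlgebra
  obtain ⟨n, hn, h⟩ := hδ x
  obtain rfl : n = 0 := by omega
  haveI : FaithfulSMul (B.residueField (f x)) (A.residueField x) :=
    (faithfulSMul_iff_algebraMap_injective _ _).2 (RingHom.injective _)
  haveI : Algebra.IsAlgebraic (B.residueField (f x)) (A.residueField x) :=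
    trdeg_eq_zero_iff.1 (hn.trans Nat.cast_zero)
  haveI : Algebra.EssFiniteType (B.residueField (f x)) (A.residueField x) :=
    RingHom.essFiniteType_algebraMap.mp (LocallyOfFiniteType.stalkMap f x).residueFieldMap
  exact Algebra.finite_of_essFiniteType_of_isAlgebraic

theorem delta_eq_of_residueDegree_ne_zero {A B : Scheme.{u}} (f : A ⟶ B) {δA : A → ℤ} {δB : B → ℤ}
    (hδ : Cyc.DeltaCompat f δA δB) {x : A} (hx : f.residueDegree x ≠ 0) : δA x = δB (f x) := by
  letI := (f.residueFieldMap x).hom.toAlgebra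
  haveI : Module.Finite (B.residueField (f x)) (A.residueField x) := Module.finite_of_finrank_pos (Nat.pos_of_ne_zero hx)
  haveI : FaithfulSMul (B.residueField (f x)) (A.residueField x) :=
    (faithfulSMul_iff_algebraMap_injective _ _).2 (RingHom.injective _)
  obtain ⟨n, hn, h⟩ := hδ x
  obtain rfl : n = 0 := Nat.cast_injective (R := Cardinal.{u})
    (hn.symm.trans ((trdeg_eq_zero_iff.2 inferInstance).trans Nat.cast_zero.symm))
  simpa using h

theorem residueDegree_fiberι {X S : Scheme.{u}} (h : X ⟶ S) (s : S) (z : h.fiber s) :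
    (h.fiberι s).residueDegree z = 1 :=
  residueDegree_eq_one _ z (GrothLib.BrnchNhd.residueFieldMap_bijective_of_preimmersion (h.fiberι s) z)

theorem sum_fibreDegree {A B : Scheme.{u}} (i : A ⟶ B) [IsFinite i] [Flat i] (v : B) :
    ∑ᶠ u : {u : A // i u = v}, ((GrothLib.Weight.fibreDegree (i.stalkMap u.1).hom : ℕ) : ℤ) = (i.finrank v : ℤ) := by
  rw [← GrothLib.Weight.fibreIntegral_mult i v]
  exact finsum_congr fun u => (GrothLib.Weight.mult_mul_finSepDegree i u.1).symm

section Square

variable {X X' Y P : Scheme.{u}} {f : Y ⟶ X} {p : X' ⟶ X} {q : P ⟶ Y} {f' : P ⟶ X'}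

/-- the points over a pair `(y, x')` with `κ(y)/κ(f y)` finite -/
theorem sum_over_pair (hc : IsPullback f' q p f) (y : Y) (x' : X') (hxy : p x' = f y)
    (hfin : (f.residueFieldMap y).hom.Finite) :
    {z : P | f' z = x' ∧ q z = y}.Finite ∧
    (∀ z : P, f' z = x' → q z = y → f'.residueDegree z ≠ 0) ∧
    (∑ᶠ z ∈ {z : P | f' z = x' ∧ q z = y}, ((fibLength q z).toNat : ℤ) * f'.residueDegree z =
      ((fibLength p x').toNat : ℤ) * f.residueDegree y) := by
  obtain ⟨i, hi, hpb⟩ := GrothLib.FibreBC.exists_isPullback_fiber hc y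
  haveI : IsFinite (Spec.map (f.residueFieldMap y)) := (IsFinite.SpecMap_iff _).2 hfin
  haveI : Flat (Spec.map (f.residueFieldMap y)) := flat_to_spec_residueField _
  haveI : IsFinite i := MorphismProperty.of_isPullback hpb.flip ‹IsFinite (Spec.map _)›
  haveI : Flat i := MorphismProperty.of_isPullback hpb.flip ‹Flat (Spec.map _)›
  obtain ⟨v, hv⟩ : ∃ v, p.fiberι (f y) v = x' := by
    have : x' ∈ Set.range (p.fiberι (f y)) := p.range_fiberι (f y) ▸ hxy
    exact this
  have hw : ∀ w, f' (q.fiberι y w) = x' ↔ i w = v := fun w => by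
    have e : f' (q.fiberι y w) = p.fiberι (f y) (i w) := by
      rw [← Scheme.Hom.comp_apply, ← hi, Scheme.Hom.comp_apply]
    rw [e, ← hv]
    exact (p.fiberι (f y)).isEmbedding.injective.eq_iff
  have hset : {z : P | f' z = x' ∧ q z = y} = q.fiberι y '' (i ⁻¹' {v}) := by
    ext z
    constructor
    · rintro ⟨h1, h2⟩
      obtain ⟨w, rfl⟩ : z ∈ Set.range (q.fiberι y) := q.range_fiberι y ▸ h2
      exact ⟨w, (hw w).1 h1, rfl⟩
    · rintro ⟨w, h1, rfl⟩
      exact ⟨(hw w).2 h1, apply_fiberι q y w⟩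
  have hdeg : ∀ w, f'.residueDegree (q.fiberι y w) = i.residueDegree w := fun w => by
    have h1 := GrothLib.CycBasic.residueDegree_comp (q.fiberι y) f' w
    rw [← residueDegree_congr hi w, GrothLib.CycBasic.residueDegree_comp, residueDegree_fiberι,
      residueDegree_fiberι, one_mul, mul_one] at h1
    exact h1.symm
  have hipos : ∀ w, i.residueDegree w ≠ 0 := fun w => by
    letI := (i.residueFieldMap w).hom.toAlgebra
    haveI : Module.Finite ((p.fiber (f y)).residueField (i w)) ((q.fiber y).residueField w) :=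
      GrothLib.Weight.finite_residueFieldMap i w
    exact (Module.finrank_pos (R := (p.fiber (f y)).residueField (i w)) (M := (q.fiber y).residueField w)).ne'
  refine ⟨hset ▸ (i.finite_preimage_singleton v).image _, fun z h1 h2 => ?_, ?_⟩
  · obtain ⟨w, rfl⟩ : z ∈ Set.range (q.fiberι y) := q.range_fiberι y ▸ h2
    rw [hdeg]
    exact hipos w
  · have hrank : (i.finrank v : ℤ) = f.residueDegree y := by
      rw [Scheme.Hom.finrank_of_isPullback _ _ _ _ hpb.flip v]
      letI := (f.residueFieldMap y).hom.toAlgebra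
      haveI : Module.Finite (X.residueField (f y)) (Y.residueField y) := hfin
      refine congrArg Nat.cast ((Scheme.Hom.finrank_SpecMap_algebraMap (X.residueField (f y)) (Y.residueField y) _).trans ?_)
      rw [Module.rankAtStalk_eq_finrank_of_free]
      rfl
    rw [hset, finsum_mem_image (q.fiberι y).isEmbedding.injective.injOn, ← hrank, ← sum_fibreDegree i v,
      mul_finsum]
    refine (finsum_subtype_eq_finsum_cond (f := fun w => _) fun w => i w = v).symm.trans (finsum_congr fun u => ?_)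
    obtain ⟨w, rfl⟩ := u
    rw [hdeg, fibLength_fiberι, ← hv, fibLength_fiberι, length_stalk_eq i w, ENat.toNat_mul, Nat.cast_mul, mul_assoc]
    congr 1

/-- Flat base change commutes with proper pushforward of cycles. -/
theorem pullFun_map (hc : IsPullback f' q p f) [IsProper f] [IsProper f'] {δ : X → ℤ} {δ' : X' → ℤ} {δY : Y → ℤ}
    {δP : P → ℤ} (hX' : Cyc.IsDimFun X' δ') (hf : Cyc.DeltaCompat f δY δ) (hf' : Cyc.DeltaCompat f' δP δ') {c : ℤ}
    (hp : ∀ x', MaxFib p x' → δ' x' = δ (p x') + c) (α : AlgebraicCycle Y ℤ) (α' : AlgebraicCycle P ℤ)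
    (hα' : ⇑α' = Cyc.pullFun q δP δY c ⇑α) :
    Cyc.pullFun p δ' δ c ⇑(AlgebraicCycle.map f δY δ α) = ⇑(AlgebraicCycle.map f' δP δ' α') := by
  classical
  funext x'
  rw [pullFun_apply]
  simp only [AlgebraicCycle.map, Function.locallyFinsupp.map_apply]
  let Φ : P → ℤ := fun z => α' z * (AlgebraicCycle.mapCoeff f' δP δ' z : ℤ)
  let Ψ : Y → ℤ := fun y => α y * (AlgebraicCycle.mapCoeff f δY δ y : ℤ)
  -- nonzero terms
  have hΦ : ∀ z, f' z = x' → Φ z ≠ 0 → δY (q z) = δ (p x') ∧ α (q z) ≠ 0 ∧ δ' x' = δ (p x') + c ∧ f (q z) = p x' := by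
    intro z hz h
    have e : f (q z) = p x' := by
      rw [← hz, ← Scheme.Hom.comp_apply, ← hc.w, Scheme.Hom.comp_apply]
    have h1 : δP z = δY (q z) + c ∧ α (q z) ≠ 0 := by
      have h' := left_ne_zero_of_mul h
      rw [hα', pullFun_apply] at h'
      split at h'
      · exact ⟨‹_›, left_ne_zero_of_mul h'⟩
      · exact absurd rfl h'
    have h2 : δP z = δ' x' := by
      have h' := right_ne_zero_of_mul h
      rw [AlgebraicCycle.mapCoeff] at h'
      split at h'
      · next hd => exact hd.trans (congrArg δ' hz)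
      · exact absurd Nat.cast_zero h'
    have h3 := (eq_add_iff_maxFib p hX' hp x').2
    obtain ⟨n, -, hn⟩ := hf (q z)
    rw [e] at hn
    exact ⟨by omega, h1.2, by omega, e⟩
  split
  · next hx' =>
    -- the finitely many points over `p x'` which contribute
    let S : Finset Y := (GrothLib.CycBasic.finite_support_inter_fibre f α (p x')).toFinset.filter
      fun y => δY y = δ (p x')
    have hS : ∀ y, y ∈ S ↔ α y ≠ 0 ∧ f y = p x' ∧ δY y = δ (p x') := fun y => by
      simp [S, and_assoc]
    let T : Y → Set P := fun y => {z : P | f' z = x' ∧ q z = y}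
    have hT : ∀ y ∈ S, (T y).Finite ∧ ∑ᶠ z ∈ T y, Φ z = Ψ y * ((fibLength p x').toNat : ℤ) := by
      intro y hy
      obtain ⟨hy0, hfy, hdy⟩ := (hS y).1 hy
      have hd : δY y = δ (f y) := by rw [hfy]; exact hdy
      obtain ⟨h1, h2, h3⟩ := sum_over_pair hc y x' hfy.symm (finite_residueField_of_eq f hf hd)
      refine ⟨h1, ?_⟩
      have hΨ : Ψ y = α y * (f.residueDegree y : ℤ) := by
        show α y * _ = _
        rw [AlgebraicCycle.mapCoeff, if_pos (show δY y = δ (f.base y) from hd)]
      rw [hΨ, mul_assoc, mul_comm (f.residueDegree y : ℤ), ← h3, mul_finsum_mem' _ _ h1]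
      refine finsum_mem_congr rfl fun z hz => ?_
      obtain ⟨hz1, hz2⟩ := hz
      have e2 : δP z = δ' (f' z) := delta_eq_of_residueDegree_ne_zero f' hf' (h2 z hz1 hz2)
      show α' z * _ = _
      rw [hα', pullFun_apply, AlgebraicCycle.mapCoeff, if_pos (show δP z = δ' (f'.base z) from e2),
        if_pos (by rw [e2, hz1, hz2, hx', hdy]), hz2, mul_assoc]
    rw [show f'.base ⁻¹' {x'} = {z | f' z = x'} from rfl, show f.base ⁻¹' {p x'} = {y | f y = p x'} from rfl]
    show (∑ᶠ y ∈ {y | f y = p x'}, Ψ y) * _ = ∑ᶠ z ∈ {z | f' z = x'}, Φ z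
    have hR : ∑ᶠ z ∈ {z | f' z = x'}, Φ z = ∑ᶠ z ∈ ⋃ y ∈ (S : Set Y), T y, Φ z := by
      refine finsum_mem_inter_support_eq' _ _ _ fun z hz => ⟨fun h => ?_, fun h => ?_⟩
      · obtain ⟨a, b, -, e⟩ := hΦ z h hz
        exact Set.mem_iUnion₂.2 ⟨q z, Finset.mem_coe.2 ((hS _).2 ⟨b, e, a⟩), h, rfl⟩
      · obtain ⟨y, -, h1, -⟩ := Set.mem_iUnion₂.1 h
        exact h1
    rw [hR, finsum_mem_biUnion (fun a _ b _ hab => Set.disjoint_left.2 fun z h1 h2 => hab (h1.2.symm.trans h2.2))
      S.finite_toSet fun y hy => (hT y hy).1, finsum_mem_coe_finset, Finset.sum_congr rfl fun y hy => (hT y hy).2,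
      ← Finset.sum_mul]
    congr 1
    refine finsum_mem_eq_sum_of_inter_support_eq _ ?_
    ext y
    simp only [Set.mem_inter_iff, Function.mem_support, Finset.mem_coe, Set.mem_setOf_eq]
    refine ⟨fun ⟨h1, h2⟩ => ⟨(hS y).2 ⟨left_ne_zero_of_mul h2, h1, ?_⟩, h2⟩, fun ⟨h1, h2⟩ => ⟨((hS y).1 h1).2.1, h2⟩⟩
    have h' : ((AlgebraicCycle.mapCoeff f δY δ y : ℕ) : ℤ) ≠ 0 := right_ne_zero_of_mul h2
    rw [AlgebraicCycle.mapCoeff] at h'
    split at h'
    · next hd => exact hd.trans (congrArg δ h1)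
    · exact absurd Nat.cast_zero h'
  · next hx' =>
    refine (finsum_mem_eq_zero_of_forall_eq_zero fun z hz => ?_).symm
    by_contra h
    exact hx' (hΦ z hz h).2.2.1

end Square

end GrothLib.C1.BasePush
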