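import Groth.Agent.Lib.C1.RZ
import Groth.Agent.Lib.InvExt.Transfer

/-!
Intersecting with first Chern classes: change of sections and commutation.
-/

set_option autoImplicit false
universe u

open CategoryTheory AlgebraicGeometry

namespace GrothLib.C1

open IsLocalRing GrothLib GrothLib.CycDiv GrothLib.Ref1

variable {X : Scheme.{u}} [IsLocallyNoetherian X] {δ : X → ℤ} {L N : X.Modules}

omit [IsLocallyNoetherian X] in
theorem secDivFun_ne_zero {ξ x : X} {s : Cyc.secFibre L ξ} (h : Cyc.secDivFun δ L ξ s x ≠ 0) :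
    ξ ⤳ x ∧ δ x + 1 = δ ξ := by
  by_contra hn
  exact h (dif_neg hn)

theorem secDivFun_eq (hδ : Cyc.IsDimFun X δ) (hL : PicF.IsInvertible L) {ξ x : X} (h : ξ ⤳ x) (hd : δ x + 1 = δ ξ)
    {t : L.presheaf.stalk x} (ht : Gen L x t) (s : Cyc.secFibre L ξ) :
    Cyc.secDivFun δ L ξ s x = Cyc.ordAt x ξ h (coord (sp L h t) s) := by
  rw [Cyc.secDivFun, dif_pos ⟨h, hd⟩]
  exact secOrdAt_eq hδ h hd hL ht s

theorem exists_affine_gens (hL : PicF.IsInvertible L) (hN : PicF.IsInvertible N) (x : X) :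
    ∃ (V : X.Opens) (_ : IsAffineOpen V) (_ : x ∈ V), ∃ (a : (y : X) → L.presheaf.stalk y) (b : (y : X) → N.presheaf.stalk y),
      (∀ y ∈ V, Gen L y (a y) ∧ Gen N y (b y)) ∧
      ∀ (y z : X) (h : z ⤳ y), y ∈ V → sp L h (a y) = a z ∧ sp N h (b y) = b z := by
  classical
  obtain ⟨V₁, e, hx₁, he⟩ := InvExt.exists_gen_nhd hL x
  obtain ⟨V₂, e', hx₂, he'⟩ := InvExt.exists_gen_nhd hN x
  obtain ⟨V, hV, hxV, hle⟩ := exists_isAffineOpen_mem_and_subset (x := x) (U := V₁ ⊓ V₂) ⟨hx₁, hx₂⟩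
  refine ⟨V, hV, hxV, fun y => if h : y ∈ V then L.presheaf.germ V₁ y (hle h).1 e else 0,
    fun y => if h : y ∈ V then N.presheaf.germ V₂ y (hle h).2 e' else 0, fun y hy => ?_, fun y z h hy => ?_⟩
  · simp only [dif_pos hy]
    exact ⟨gen_of_isGen he _, gen_of_isGen he' _⟩
  · have hz : z ∈ V := h.mem_open V.2 hy
    simp only [dif_pos hy, dif_pos hz]
    exact ⟨sp_germ L h _ e, sp_germ N h _ e'⟩

theorem lf_secDivFun (hδ : Cyc.IsDimFun X δ) (hL : PicF.IsInvertible L) {ξ : X} {s : Cyc.secFibre L ξ} (hs : s ≠ 0) :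
    LF (Cyc.secDivFun δ L ξ s) := by
  intro x
  obtain ⟨V, hV, hxV, a, b, hg, hsp⟩ := exists_affine_gens hL hL x
  refine ⟨V, hxV, ?_⟩
  by_cases hξV : ξ ∈ V
  · obtain ⟨W, hξW, hW⟩ := exists_open_unitAt (coord_ne_zero (hg ξ hξV).1 hs)
    refine (exists_finite_outside hδ W hξW V hV).subset fun y hy => ?_
    obtain ⟨h, hd⟩ := secDivFun_ne_zero hy.2
    refine ⟨hy.1, h, hd, fun hyW => hy.2 ?_⟩
    rw [secDivFun_eq hδ hL h hd (hg y hy.1).1, (hsp y ξ h hy.1).1]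
    exact (hW y hyW).ordAt_eq_zero hδ h hd
  · exact Set.finite_empty.subset fun y hy => absurd ((secDivFun_ne_zero hy.2).1.mem_open V.2 hy.1) hξV

theorem finite_cap_support {α : X → ℤ} (hα : LF α) (s : (ξ : X) → Cyc.secFibre L ξ) (x : X) :
    (Function.support fun ξ => α ξ * Cyc.secDivFun δ L ξ (s ξ) x).Finite :=
  (hα.finite_gen x).subset fun _ h => ⟨(secDivFun_ne_zero (right_ne_zero_of_mul h)).1, left_ne_zero_of_mul h⟩

omit [IsLocallyNoetherian X] in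
theorem c1Cap_ne_zero {α : X → ℤ} {s : (ξ : X) → Cyc.secFibre L ξ} {x : X} (h : Cyc.c1CapFun δ L α s x ≠ 0) :
    ∃ ξ, α ξ ≠ 0 ∧ ξ ⤳ x ∧ δ x + 1 = δ ξ ∧ Cyc.secDivFun δ L ξ (s ξ) x ≠ 0 := by
  obtain ⟨ξ, hξ⟩ : ∃ ξ, α ξ * Cyc.secDivFun δ L ξ (s ξ) x ≠ 0 := by
    by_contra! hn
    exact h (finsum_eq_zero_of_forall_eq_zero hn)
  obtain ⟨h1, h2⟩ := secDivFun_ne_zero (right_ne_zero_of_mul hξ)
  exact ⟨ξ, left_ne_zero_of_mul hξ, h1, h2, right_ne_zero_of_mul hξ⟩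

theorem lf_c1Cap (hδ : Cyc.IsDimFun X δ) (hL : PicF.IsInvertible L) {α : X → ℤ} (hα : LF α)
    {s : (ξ : X) → Cyc.secFibre L ξ} (hs : ∀ ξ, s ξ ≠ 0) : LF (Cyc.c1CapFun δ L α s) := by
  classical
  intro x
  obtain ⟨U, hx, hfin⟩ := hα x
  choose V hxV hV using fun ξ => lf_secDivFun (δ := δ) hδ hL (hs ξ) x
  refine ⟨U ⊓ hfin.toFinset.inf V, ⟨hx, ?_⟩,
    (Set.Finite.biUnion hfin fun ξ _ => hV ξ).subset fun y hy => ?_⟩
  · induction hfin.toFinset using Finset.induction_on with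
    | empty => trivial
    | insert i t _ ih => rw [Finset.inf_insert]; exact ⟨hxV i, ih⟩
  · obtain ⟨ξ, hα0, hsp, -, hne⟩ := c1Cap_ne_zero hy.2
    have hξ : ξ ∈ U ∧ α ξ ≠ 0 := ⟨hsp.mem_open U.2 hy.1.1, hα0⟩
    exact Set.mem_biUnion hξ ⟨(Finset.inf_le (f := V) ((Set.Finite.mem_toFinset _).2 hξ)) hy.1.2, hne⟩

theorem c1Cap_mem {α : X → ℤ} {k : ℤ} (hα : ∀ ξ, α ξ ≠ 0 → δ ξ = k + 1) (s : (ξ : X) → Cyc.secFibre L ξ) {x : X}
    (h : Cyc.c1CapFun δ L α s x ≠ 0) : δ x = k := by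
  obtain ⟨ξ, hα0, -, hd, -⟩ := c1Cap_ne_zero h
  have := hα ξ hα0
  omega

/-- Another choice of sections changes the result by principal divisors. -/
theorem rz_change (hδ : Cyc.IsDimFun X δ) (hL : PicF.IsInvertible L) {α : X → ℤ} (hα : LF α) {k : ℤ}
    (hk : ∀ ξ, α ξ ≠ 0 → δ ξ = k + 1) {s s' : (ξ : X) → Cyc.secFibre L ξ} (hs : ∀ ξ, s ξ ≠ 0) (hs' : ∀ ξ, s' ξ ≠ 0) :
    RZ δ k (Cyc.c1CapFun δ L α s - Cyc.c1CapFun δ L α s') := by
  refine ⟨fun z => ratio hL (s z) (s' z) ^ α z, fun z => zpow_ne_zero _ (ratio_ne_zero hL (hs z) (hs' z)), fun x => ?_,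
    fun z hz => hk z fun h0 => hz (by show ratio hL (s z) (s' z) ^ α z = 1; rw [h0, zpow_zero]), fun x => ?_⟩
  · obtain ⟨U, hx, hfin⟩ := hα x
    exact ⟨U, hx, hfin.subset fun z hz => ⟨hz.1, fun h0 => hz.2 (by
      show ratio hL (s z) (s' z) ^ α z = 1; rw [h0, zpow_zero])⟩⟩
  · rw [Pi.sub_apply, Cyc.c1CapFun, Cyc.c1CapFun,
      ← finsum_sub_distrib (finite_cap_support hα s x) (finite_cap_support hα s' x)]
    exact finsum_congr fun z => by
      rw [divFun_zpow hδ (ratio_ne_zero hL (hs z) (hs' z)), ← secDivFun_sub hL hδ (hs z) (hs' z) x]; ring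

omit [IsLocallyNoetherian X] in
/-- Linearity in locally finite sums. -/
theorem c1Cap_finsum {ι : Type*} (a : ι → X → ℤ) (ha : ∀ i, LF (a i))
    (hlf : ∀ x : X, ∃ U : X.Opens, x ∈ U ∧ {i | ∃ y ∈ U, a i y ≠ 0}.Finite) (s : (ξ : X) → Cyc.secFibre L ξ) (x : X) :
    Cyc.c1CapFun δ L (fun y => ∑ᶠ i, a i y) s x = ∑ᶠ i, Cyc.c1CapFun δ L (a i) s x := by
  classical
  obtain ⟨U, hx, hI⟩ := hlf x
  set I := hI.toFinset
  have hmemI : ∀ {i y}, y ⤳ x → a i y ≠ 0 → i ∈ I := fun hy hne =>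
    (Set.Finite.mem_toFinset _).2 ⟨_, hy.mem_open U.2 hx, hne⟩
  set Z := I.biUnion fun i => ((ha i).finite_gen x).toFinset
  have hsum : ∀ y, y ⤳ x → ∑ᶠ i, a i y = ∑ i ∈ I, a i y := fun y hy =>
    finsum_eq_sum_of_support_subset _ fun i hi => Finset.mem_coe.2 (hmemI hy hi)
  have hZ : ∀ {i y}, y ⤳ x → a i y ≠ 0 → y ∈ Z := fun hy hne =>
    Finset.mem_biUnion.2 ⟨_, hmemI hy hne, (Set.Finite.mem_toFinset _).2 ⟨hy, hne⟩⟩
  have hterm : ∀ i, Cyc.c1CapFun δ L (a i) s x = ∑ y ∈ Z, a i y * Cyc.secDivFun δ L y (s y) x := fun i =>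
    finsum_eq_sum_of_support_subset _ fun y hy =>
      Finset.mem_coe.2 (hZ (secDivFun_ne_zero (right_ne_zero_of_mul hy)).1 (left_ne_zero_of_mul hy))
  rw [finsum_eq_sum_of_support_subset (s := I) _ fun i hi => ?_, Finset.sum_congr rfl fun i _ => hterm i, Finset.sum_comm,
    Cyc.c1CapFun, finsum_eq_sum_of_support_subset (s := Z) _ fun y hy => ?_]
  · refine Finset.sum_congr rfl fun y _ => ?_
    show (∑ᶠ i, a i y) * _ = _
    by_cases hy : y ⤳ x
    · rw [hsum y hy, Finset.sum_mul]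
    · rw [show Cyc.secDivFun δ L y (s y) x = 0 from by_contra fun h => hy (secDivFun_ne_zero h).1, mul_zero,
        Finset.sum_eq_zero fun _ _ => mul_zero _]
  · have hyx := (secDivFun_ne_zero (right_ne_zero_of_mul hy)).1
    have h0 := left_ne_zero_of_mul hy
    obtain ⟨i, hi⟩ : ∃ i, a i y ≠ 0 := by
      by_contra! hn
      exact h0 (finsum_eq_zero_of_forall_eq_zero hn)
    exact Finset.mem_coe.2 (hZ hyx hi)
  · obtain ⟨y, hy0, hy, -⟩ := c1Cap_ne_zero hi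
    exact Finset.mem_coe.2 (hmemI hy hy0)

theorem symb_of_unitAt (hδ : Cyc.IsDimFun X δ) {ξ z : X} (h : ξ ⤳ z) (hd : δ z + 1 = δ ξ) {f g : X.residueField ξ}
    (hf : UnitAt f z) (hg : UnitAt g z) : symb h f g = 1 := by
  obtain ⟨a, ha, rfl⟩ := hf h
  obtain ⟨c, hc, rfl⟩ := hg h
  have hA := dim_one hδ h hd
  have hne : ∀ {r : X.presheaf.stalk z}, IsUnit r → (Ideal.Quotient.mk (primeOf h) r) ≠ 0 := fun hr =>
    (hr.map (Ideal.Quotient.mk (primeOf h))).ne_zero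
  have hu : ∀ {r : X.presheaf.stalk z}, IsUnit r → IsUnit (Ideal.Quotient.mk (primeOf h) r) := fun hr => hr.map _
  rw [symb, tameK_eq hA (hne ha) (b := 1) one_ne_zero (hne hc) (d := 1) one_ne_zero (by rw [map_one, mul_one]; rfl)
    (by rw [map_one, mul_one]; rfl), Groth.Agent.S1849.tameSymbol_of_isUnit (hu ha) (hu hc),
    Groth.Agent.S1849.tameSymbol_of_isUnit (hu ha) isUnit_one, Groth.Agent.S1849.tameSymbol_of_isUnit isUnit_one (hu hc),
    Groth.Agent.S1849.tameSymbol_of_isUnit isUnit_one isUnit_one]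
  simp

theorem unitAt_of_spec_mul {ξ z : X} (h : ξ ⤳ z) {f g : X.residueField ξ} {w : X.presheaf.stalk z} (hw : IsUnit w)
    (hf : f = Cyc.specMap z ξ h w * g) (hu : UnitAt f z) : UnitAt g z := by
  intro h'
  obtain ⟨a, ha, e⟩ := hu h'
  refine ⟨(↑hw.unit⁻¹ : X.presheaf.stalk z) * a, (Units.isUnit _).mul ha, ?_⟩
  rw [map_mul, ← e, hf, ← mul_assoc, ← map_mul, IsUnit.val_inv_mul, map_one, one_mul]

open Classical in
/-- The functions realising the commutation on one integral subscheme. -/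
noncomputable def commFun (δ : X → ℤ) (hL : PicF.IsInvertible L) (hN : PicF.IsInvertible N) {ξ : X}
    (s : Cyc.secFibre L ξ) (t : Cyc.secFibre N ξ) {u : (ζ : X) → Cyc.secFibre N ζ} (hu : ∀ ζ, u ζ ≠ 0)
    {v : (ζ : X) → Cyc.secFibre L ζ} (hv : ∀ ζ, v ζ ≠ 0) (z : X) : X.residueField z :=
  if h : ξ ⤳ z ∧ δ z + 1 = δ ξ then
    symb h.1 (coord (sp L h.1 (exists_gen_lift hL (hv z)).choose) s) (coord (sp N h.1 (exists_gen_lift hN (hu z)).choose) t)
  else 1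

/-- Commutation on one integral subscheme. -/
theorem rz_comm (hδ : Cyc.IsDimFun X δ) (hL : PicF.IsInvertible L) (hN : PicF.IsInvertible N) {ξ : X}
    {s : Cyc.secFibre L ξ} (hs : s ≠ 0) {t : Cyc.secFibre N ξ} (ht : t ≠ 0) {u : (ζ : X) → Cyc.secFibre N ζ}
    (hu : ∀ ζ, u ζ ≠ 0) {v : (ζ : X) → Cyc.secFibre L ζ} (hv : ∀ ζ, v ζ ≠ 0) :
    (∀ z, commFun δ hL hN s t hu hv z ≠ 0) ∧
      (∀ x : X, ∃ U : X.Opens, x ∈ U ∧ {z | z ∈ U ∧ commFun δ hL hN s t hu hv z ≠ 1}.Finite) ∧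
      (∀ z, commFun δ hL hN s t hu hv z ≠ 1 → ξ ⤳ z ∧ δ z + 1 = δ ξ) ∧
      ∀ x, Cyc.c1CapFun δ N (Cyc.secDivFun δ L ξ s) u x - Cyc.c1CapFun δ L (Cyc.secDivFun δ N ξ t) v x =
        ∑ᶠ z, Cyc.divFun δ z (commFun δ hL hN s t hu hv z) x := by
  classical
  set H := commFun δ hL hN s t hu hv with hH
  have hAt : ∀ z, Gen L z (exists_gen_lift hL (hv z)).choose ∧ cls (exists_gen_lift hL (hv z)).choose = v z :=
    fun z => (exists_gen_lift hL (hv z)).choose_spec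
  have hBt : ∀ z, Gen N z (exists_gen_lift hN (hu z)).choose ∧ cls (exists_gen_lift hN (hu z)).choose = u z :=
    fun z => (exists_gen_lift hN (hu z)).choose_spec
  have hoff : ∀ z, H z ≠ 1 → ξ ⤳ z ∧ δ z + 1 = δ ξ := fun z hz => by
    by_contra hn
    exact hz (dif_neg hn)
  have hne : ∀ z, H z ≠ 0 := fun z => by
    by_cases h : ξ ⤳ z ∧ δ z + 1 = δ ξ
    · rw [show H z = _ from dif_pos h]
      exact symb_ne_zero hδ h.1 h.2 (coord_ne_zero (gen_sp hL h.1 (hAt z).1) hs) (coord_ne_zero (gen_sp hN h.1 (hBt z).1) ht)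
    · rw [show H z = _ from dif_neg h]
      exact one_ne_zero
  have hlf : ∀ x : X, ∃ U : X.Opens, x ∈ U ∧ {z | z ∈ U ∧ H z ≠ 1}.Finite := by
    intro x
    obtain ⟨V, hV, hxV, a, b, hg, hsp⟩ := exists_affine_gens hL hN x
    refine ⟨V, hxV, ?_⟩
    by_cases hξV : ξ ∈ V
    swap
    · exact Set.finite_empty.subset fun z hz => absurd ((hoff z hz.2).1.mem_open V.2 hz.1) hξV
    obtain ⟨W₁, hξ₁, hW₁⟩ := exists_open_unitAt (coord_ne_zero (hg ξ hξV).1 hs)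
    obtain ⟨W₂, hξ₂, hW₂⟩ := exists_open_unitAt (coord_ne_zero (hg ξ hξV).2 ht)
    refine (exists_finite_outside hδ (W₁ ⊓ W₂) ⟨hξ₁, hξ₂⟩ V hV).subset fun z hz => ?_
    obtain ⟨h, hd⟩ := hoff z hz.2
    refine ⟨hz.1, h, hd, fun hW => hz.2 ?_⟩
    rw [show H z = _ from dif_pos ⟨h, hd⟩]
    obtain ⟨w, hw⟩ := gen_exists_unit (hg z hz.1).1 (hAt z).1
    obtain ⟨w', hw'⟩ := gen_exists_unit (hg z hz.1).2 (hBt z).1
    refine symb_of_unitAt hδ h hd (unitAt_of_spec_mul h w.isUnit (f := coord (a ξ) s) ?_ (hW₁ z hW.1))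
      (unitAt_of_spec_mul h w'.isUnit (f := coord (b ξ) t) ?_ (hW₂ z hW.2))
    · rw [← (hsp z ξ h hz.1).1, hw, sp_smul]
      exact coord_change (gen_sp hL h (hg z hz.1).1) (w.isUnit.map (spR h)) s
    · rw [← (hsp z ξ h hz.1).2, hw', sp_smul]
      exact coord_change (gen_sp hN h (hg z hz.1).2) (w'.isUnit.map (spR h)) t
  refine ⟨hne, hlf, hoff, fun x => ?_⟩
  let D₁ : X → ℤ := fun z => Cyc.secDivFun δ L ξ s z * Cyc.secDivFun δ N z (u z) x
  let D₂ : X → ℤ := fun z => Cyc.secDivFun δ N ξ t z * Cyc.secDivFun δ L z (v z) x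
  let E : X → ℤ := fun z => Cyc.divFun δ z (H z) x
  have hmid : ∀ z, D₁ z ≠ 0 ∨ D₂ z ≠ 0 ∨ E z ≠ 0 → ξ ⤳ z ∧ z ⤳ x ∧ δ z + 1 = δ ξ ∧ δ x + 1 = δ z := by
    rintro z (h | h | h)
    · exact ⟨(secDivFun_ne_zero (left_ne_zero_of_mul h)).1, (secDivFun_ne_zero (right_ne_zero_of_mul h)).1,
        (secDivFun_ne_zero (left_ne_zero_of_mul h)).2, (secDivFun_ne_zero (right_ne_zero_of_mul h)).2⟩
    · exact ⟨(secDivFun_ne_zero (left_ne_zero_of_mul h)).1, (secDivFun_ne_zero (right_ne_zero_of_mul h)).1,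
        (secDivFun_ne_zero (left_ne_zero_of_mul h)).2, (secDivFun_ne_zero (right_ne_zero_of_mul h)).2⟩
    · have h1 : H z ≠ 1 := fun e => h (by show Cyc.divFun δ z (H z) x = 0; rw [e, divFun_one hδ])
      exact ⟨(hoff z h1).1, (divFun_ne_zero h).1, (hoff z h1).2, (divFun_ne_zero h).2⟩
  show (∑ᶠ z, D₁ z) - ∑ᶠ z, D₂ z = ∑ᶠ z, E z
  by_cases hx : ξ ⤳ x ∧ δ ξ = δ x + 2
  swap
  · have h0 : ∀ z, D₁ z = 0 ∧ D₂ z = 0 ∧ E z = 0 := fun z => by
      by_contra hn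
      obtain ⟨h1, h2, h3, h4⟩ := hmid z (by tauto)
      exact hx ⟨h1.trans h2, by omega⟩
    simp [finsum_eq_zero_of_forall_eq_zero fun z => (h0 z).1, finsum_eq_zero_of_forall_eq_zero fun z => (h0 z).2.1,
      finsum_eq_zero_of_forall_eq_zero fun z => (h0 z).2.2]
  obtain ⟨ax, hax⟩ := exists_gen hL x
  obtain ⟨bx, hbx⟩ := exists_gen hN x
  have hf0 := coord_ne_zero (gen_sp hL hx.1 hax) hs
  have hg0 := coord_ne_zero (gen_sp hN hx.1 hbx) ht
  obtain ⟨hfin, hzero⟩ := sum_symOrd_eq_zero hδ hx.2 hf0 hg0 hx.1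
  have hfE : (Function.support E).Finite := finite_div_support hδ hlf x
  have hf1 : (Function.support D₁).Finite := finite_cap_support (lf_secDivFun hδ hL hs) u x
  have hf2 : (Function.support D₂).Finite := finite_cap_support (lf_secDivFun hδ hN ht) v x
  have hrel : ∀ z, D₁ z - D₂ z = E z - symOrd δ x (coord (sp L hx.1 ax) s) (coord (sp N hx.1 bx) t) z := by
    intro z
    by_cases hz : ξ ⤳ z ∧ z ⤳ x ∧ δ z = δ x + 1
    swap
    · have hn : D₁ z = 0 ∧ D₂ z = 0 ∧ E z = 0 := by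
        by_contra hn
        obtain ⟨h1, h2, h3, h4⟩ := hmid z (by tauto)
        exact hz ⟨h1, h2, h4.symm⟩
      rw [hn.1, hn.2.1, hn.2.2, symOrd, dif_neg hz, sub_self]
    obtain ⟨h1, h2, h3⟩ := hz
    have hd1 : δ z + 1 = δ ξ := by omega
    have hd2 : δ x + 1 = δ z := h3.symm
    rw [symOrd, dif_pos ⟨h1, h2, h3⟩]
    obtain ⟨w, hw⟩ := gen_exists_unit (gen_sp hL h2 hax) (hAt z).1
    obtain ⟨w', hw'⟩ := gen_exists_unit (gen_sp hN h2 hbx) (hBt z).1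
    set fz := coord (sp L h1 (exists_gen_lift hL (hv z)).choose) s with hfz
    set gz := coord (sp N h1 (exists_gen_lift hN (hu z)).choose) t with hgz
    have hfz0 : fz ≠ 0 := coord_ne_zero (gen_sp hL h1 (hAt z).1) hs
    have hgz0 : gz ≠ 0 := coord_ne_zero (gen_sp hN h1 (hBt z).1) ht
    have hef : coord (sp L hx.1 ax) s = Cyc.specMap z ξ h1 (w : X.presheaf.stalk z) * fz := by
      rw [hfz, hw, sp_smul, ← sp_sp L h1 h2]
      exact coord_change (gen_sp hL h1 (gen_sp hL h2 hax)) (w.isUnit.map (spR h1)) s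
    have heg : coord (sp N hx.1 bx) t = Cyc.specMap z ξ h1 (w' : X.presheaf.stalk z) * gz := by
      rw [hgz, hw', sp_smul, ← sp_sp N h1 h2]
      exact coord_change (gen_sp hN h1 (gen_sp hN h2 hbx)) (w'.isUnit.map (spR h1)) t
    have hv' : Cyc.secDivFun δ L z (v z) x = Cyc.ordAt x z h2 (X.residue z (w : X.presheaf.stalk z)) := by
      rw [secDivFun_eq hδ hL h2 hd2 hax, ← (hAt z).2, hw]
      exact congrArg _ (coord_smul_cls (gen_sp hL h2 hax) _)
    have hu' : Cyc.secDivFun δ N z (u z) x = Cyc.ordAt x z h2 (X.residue z (w' : X.presheaf.stalk z)) := by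
      rw [secDivFun_eq hδ hN h2 hd2 hbx, ← (hBt z).2, hw']
      exact congrArg _ (coord_smul_cls (gen_sp hN h2 hbx) _)
    have hs' : Cyc.secDivFun δ L ξ s z = Cyc.ordAt z ξ h1 fz := secDivFun_eq hδ hL h1 hd1 (hAt z).1 s
    have ht' : Cyc.secDivFun δ N ξ t z = Cyc.ordAt z ξ h1 gz := secDivFun_eq hδ hN h1 hd1 (hBt z).1 t
    have hE : E z = Cyc.ordAt x z h2 (symb h1 fz gz) := by
      show Cyc.divFun δ z (H z) x = _
      rw [show H z = symb h1 fz gz from dif_pos ⟨h1, hd1⟩, Cyc.divFun, dif_pos ⟨h2, hd2⟩]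
    show Cyc.secDivFun δ L ξ s z * Cyc.secDivFun δ N z (u z) x - Cyc.secDivFun δ N ξ t z * Cyc.secDivFun δ L z (v z) x = _
    rw [hE, hef, heg, symb_units hδ h1 hd1 hfz0 hgz0 w.isUnit w'.isUnit, hs', ht', hu', hv']
    haveI := krullDimLE_locQuot hδ h2 hd2
    have hr : ∀ {c : X.presheaf.stalk z}, IsUnit c → X.residue z c ≠ 0 := fun hc => (hc.map (X.residue z).hom).ne_zero
    have hzp : ∀ (q : X.residueField z), q ≠ 0 → ∀ n : ℤ, Cyc.ordAt x z h2 (q ^ n) = n * Cyc.ordAt x z h2 q := by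
      intro q hq n
      have := divFun_zpow hδ hq n x
      rwa [Cyc.divFun, Cyc.divFun, dif_pos ⟨h2, hd2⟩, dif_pos ⟨h2, hd2⟩] at this
    have hS := symb_ne_zero hδ h1 hd1 hfz0 hgz0
    rw [show Cyc.ordAt x z h2 (symb h1 fz gz * X.residue z (w : X.presheaf.stalk z) ^ Cyc.ordAt z ξ h1 gz /
        X.residue z (w' : X.presheaf.stalk z) ^ Cyc.ordAt z ξ h1 fz) = _ from Groth.Agent.S1851.ordFrac_div
        (mul_ne_zero hS (zpow_ne_zero _ (hr w.isUnit))) (zpow_ne_zero _ (hr w'.isUnit))]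
    rw [show CycAlg.ordFrac (Cyc.LocQuot x z h2) (X.residueField z) (symb h1 fz gz *
        X.residue z (w : X.presheaf.stalk z) ^ Cyc.ordAt z ξ h1 gz) = _ from CycPush.ordFrac_mul _ hS (zpow_ne_zero _ (hr w.isUnit))]
    show _ = _ - (Cyc.ordAt x z h2 _ + Cyc.ordAt x z h2 _ - Cyc.ordAt x z h2 _)
    rw [hzp _ (hr w.isUnit), hzp _ (hr w'.isUnit)]
    ring
  have key := finsum_congr hrel
  rw [finsum_sub_distrib hf1 hf2, finsum_sub_distrib hfE hfin, hzero, sub_zero] at key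
  exact key

/-- The structure sheaf has a section generating all stalks. -/
theorem exists_unit_gen : ∃ e : (y : X) → (Coh.structureModule X).presheaf.stalk y,
    (∀ y, Gen (Coh.structureModule X) y (e y)) ∧ ∀ (y z : X) (h : z ⤳ y), sp (Coh.structureModule X) h (e y) = e z :=
  ⟨fun y => (Coh.structureModule X).presheaf.germ ⊤ y trivial (1 : Γ(X, ⊤)),
    fun _ => gen_of_isGen (InvExt.isGen_one ⊤) _, fun _ _ h => sp_germ _ h _ _⟩

/-- Near `z` the chosen sections come from one generator. -/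
def SecOn (v : (ξ : X) → Cyc.secFibre L ξ) (z : X) : Prop :=
  ∀ (ξ : X) (h : ξ ⤳ z), ∃ t, Gen L z t ∧ cls t = v z ∧ cls (sp L h t) = v ξ

theorem commFun_eq_one' (hδ : Cyc.IsDimFun X δ) (hL : PicF.IsInvertible L) (hN : PicF.IsInvertible N) {ξ : X}
    {s : Cyc.secFibre L ξ} (hs : s ≠ 0) {u : (ζ : X) → Cyc.secFibre N ζ} (hu : ∀ ζ, u ζ ≠ 0)
    {v : (ζ : X) → Cyc.secFibre L ζ} (hv : ∀ ζ, v ζ ≠ 0) {z : X} (hz : SecOn u z) :
    commFun δ hL hN s (u ξ) hu hv z = 1 := by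
  unfold commFun
  split_ifs with h
  swap
  · rfl
  obtain ⟨h, hd⟩ := h
  obtain ⟨t₀, ht₀, hu0, huξ⟩ := hz ξ h
  obtain ⟨ht₁, hu1⟩ := (exists_gen_lift hN (hu z)).choose_spec
  obtain ⟨w, hw⟩ := gen_exists_unit ht₀ ht₁
  set t₁ := (exists_gen_lift hN (hu z)).choose
  set g := coord (sp L h (exists_gen_lift hL (hv z)).choose) s
  have hg0 : g ≠ 0 := coord_ne_zero (gen_sp hL h (exists_gen_lift hL (hv z)).choose_spec.1) hs
  have hres : X.residue z (w : X.presheaf.stalk z) = 1 := by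
    rw [← coord_smul_cls ht₀, ← Submodule.Quotient.mk_smul, ← hw]
    show coord t₀ (cls t₁) = 1
    rw [hu1, ← hu0, coord_cls ht₀]
  have hone : (1 : X.residueField ξ) = Cyc.specMap z ξ h (w : X.presheaf.stalk z) * coord (sp N h t₁) (u ξ) := by
    rw [← coord_cls (gen_sp hN h ht₀), coord_change (gen_sp hN h ht₀) (w.isUnit.map (spR h)), ← sp_smul, ← hw, residue_spR, huξ]
  have hf : coord (sp N h t₁) (u ξ) = Cyc.specMap z ξ h (↑w⁻¹ : X.presheaf.stalk z) * 1 := by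
    rw [hone, ← mul_assoc, ← map_mul, Units.inv_mul, map_one, one_mul]
  have hg1 : symb h g (1 : X.residueField ξ) = 1 := by
    have hA := dim_one hδ h hd
    haveI := isFractionRing_locQuot h
    obtain ⟨a, b, hb, he⟩ := IsFractionRing.div_surjective (A := Cyc.LocQuot z ξ h) g
    have hb0 : b ≠ 0 := nonZeroDivisors.ne_zero hb
    have ha0 : a ≠ 0 := by
      intro e
      rw [e, map_zero, zero_div] at he
      exact hg0 he.symm
    rw [symb, tameK_eq hA (c := 1) (d := 1) ha0 hb0 one_ne_zero one_ne_zero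
      (by rw [← he, div_mul_cancel₀ _ ((map_ne_zero_iff _ (IsFractionRing.injective _ _)).2 hb0)]) (by rw [map_one, one_mul]),
      div_self (mul_ne_zero (sym_ne_zero hA ha0 one_ne_zero) (sym_ne_zero hA hb0 one_ne_zero)), map_one]
  rw [hf, show g = Cyc.specMap z ξ h 1 * g by rw [map_one, one_mul],
    symb_units hδ h hd hg0 one_ne_zero isUnit_one (Units.isUnit _), hg1, map_one, one_zpow, one_mul]
  have : X.residue z (↑w⁻¹ : X.presheaf.stalk z) = 1 := by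
    have hi := congrArg (X.residue z) (Units.inv_mul w)
    rwa [map_mul, hres, mul_one, map_one] at hi
  rw [this, one_zpow, div_one]

theorem commFun_eq_one (hδ : Cyc.IsDimFun X δ) (hL : PicF.IsInvertible L) (hN : PicF.IsInvertible N) {ξ : X}
    {t : Cyc.secFibre N ξ} (ht : t ≠ 0) {u : (ζ : X) → Cyc.secFibre N ζ} (hu : ∀ ζ, u ζ ≠ 0)
    {v : (ζ : X) → Cyc.secFibre L ζ} (hv : ∀ ζ, v ζ ≠ 0) {z : X} (hz : SecOn v z) :
    commFun δ hL hN (v ξ) t hu hv z = 1 := by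
  unfold commFun
  split_ifs with h
  swap
  · rfl
  obtain ⟨h, hd⟩ := h
  obtain ⟨t₀, ht₀, hv0, hvξ⟩ := hz ξ h
  obtain ⟨ht₁, hv1⟩ := (exists_gen_lift hL (hv z)).choose_spec
  obtain ⟨w, hw⟩ := gen_exists_unit ht₀ ht₁
  set t₁ := (exists_gen_lift hL (hv z)).choose
  have hg := gen_sp hL h ht₁
  set g := coord (sp N h (exists_gen_lift hN (hu z)).choose) t
  have hg0 : g ≠ 0 := coord_ne_zero (gen_sp hN h (exists_gen_lift hN (hu z)).choose_spec.1) ht
  have hres : X.residue z (w : X.presheaf.stalk z) = 1 := by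
    rw [← coord_smul_cls ht₀, ← Submodule.Quotient.mk_smul, ← hw]
    show coord t₀ (cls t₁) = 1
    rw [hv1, ← hv0, coord_cls ht₀]
  have hone : (1 : X.residueField ξ) = Cyc.specMap z ξ h (w : X.presheaf.stalk z) * coord (sp L h t₁) (v ξ) := by
    rw [← coord_cls (gen_sp hL h ht₀), coord_change (gen_sp hL h ht₀) (w.isUnit.map (spR h)), ← sp_smul, ← hw, residue_spR, hvξ]
  have hf : coord (sp L h t₁) (v ξ) = Cyc.specMap z ξ h (↑w⁻¹ : X.presheaf.stalk z) * 1 := by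
    rw [hone, ← mul_assoc, ← map_mul, Units.inv_mul, map_one, one_mul]
  have h1g : symb h (1 : X.residueField ξ) g = 1 := by
    have hA := dim_one hδ h hd
    haveI := isFractionRing_locQuot h
    obtain ⟨a, b, hb, he⟩ := IsFractionRing.div_surjective (A := Cyc.LocQuot z ξ h) g
    have hb0 : b ≠ 0 := nonZeroDivisors.ne_zero hb
    have ha0 : a ≠ 0 := by
      intro e
      rw [e, map_zero, zero_div] at he
      exact hg0 he.symm
    rw [symb, tameK_eq hA (a := 1) (b := 1) one_ne_zero one_ne_zero ha0 hb0 (by rw [map_one, one_mul])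
      (by rw [← he, div_mul_cancel₀ _ ((map_ne_zero_iff _ (IsFractionRing.injective _ _)).2 hb0)]),
      mul_comm (CycAlg.tameSymbol _ _ b), div_self (mul_ne_zero (sym_ne_zero hA one_ne_zero ha0) (sym_ne_zero hA one_ne_zero hb0)),
      map_one]
  rw [hf, show g = Cyc.specMap z ξ h 1 * g by rw [map_one, one_mul],
    symb_units hδ h hd one_ne_zero hg0 (Units.isUnit _) isUnit_one, h1g, map_one, one_zpow, div_one, one_mul]
  have : X.residue z (↑w⁻¹ : X.presheaf.stalk z) = 1 := by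
    have hi := congrArg (X.residue z) (Units.inv_mul w)
    rwa [map_mul, hres, mul_one, map_one] at hi
  rw [this, one_zpow]

/-- The product of a first Chern class with a principal divisor. -/
theorem rz_c1Cap_div (hδ : Cyc.IsDimFun X δ) (hL : PicF.IsInvertible L) (hO : PicF.IsInvertible (Coh.structureModule X))
    {ξ : X} {f : X.residueField ξ} (hf : f ≠ 0) {v : (ζ : X) → Cyc.secFibre L ζ} (hv : ∀ ζ, v ζ ≠ 0) :
    ∃ H : (z : X) → X.residueField z, (∀ z, H z ≠ 0) ∧ (∀ x : X, ∃ U : X.Opens, x ∈ U ∧ {z | z ∈ U ∧ H z ≠ 1}.Finite) ∧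
      (∀ z, H z ≠ 1 → ξ ⤳ z ∧ δ z + 1 = δ ξ) ∧ (∀ z, SecOn v z → H z = 1) ∧
      ∀ x, Cyc.c1CapFun δ L (Cyc.divFun δ ξ f) v x = ∑ᶠ z, Cyc.divFun δ z (H z) x := by
  obtain ⟨e, he, hesp⟩ := exists_unit_gen (X := X)
  obtain ⟨φ, rfl⟩ := X.residue_surjective ξ f
  let s : Cyc.secFibre L ξ := v ξ
  have hs : s ≠ 0 := hv ξ
  let O := Coh.structureModule X
  have ht : (φ • cls (e ξ) : Cyc.secFibre O ξ) ≠ 0 := fun h => hf (by
    rw [← coord_smul_cls (he ξ) φ, h, ← zero_smul (X.presheaf.stalk ξ) (cls (e ξ)), coord_smul_cls (he ξ), map_zero])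
  have hu : ∀ z, (cls (e z) : Cyc.secFibre O z) ≠ 0 := fun z h => one_ne_zero (α := X.residueField z) (by
    rw [← coord_cls (he z), h, ← zero_smul (X.presheaf.stalk z) (cls (e z)), coord_smul_cls (he z), map_zero])
  obtain ⟨h1, h2, h3, h4⟩ := rz_comm (δ := δ) hδ hL hO hs ht hu hv
  refine ⟨fun z => (commFun δ hL hO s (φ • cls (e ξ)) hu hv z)⁻¹, fun z => inv_ne_zero (h1 z), fun x => ?_, fun z hz => ?_,
    fun z hz => ?_, fun x => ?_⟩
  · obtain ⟨U, hx, hfin⟩ := h2 x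
    refine ⟨U, hx, hfin.subset fun z hz => ⟨hz.1, fun h => hz.2 ?_⟩⟩
    show (commFun δ hL hO s (φ • cls (e ξ)) hu hv z)⁻¹ = 1
    rw [h, inv_one]
  · refine h3 z fun h => hz ?_
    show (commFun δ hL hO s (φ • cls (e ξ)) hu hv z)⁻¹ = 1
    rw [h, inv_one]
  · show (commFun δ hL hO (v ξ) (φ • cls (e ξ)) hu hv z)⁻¹ = 1
    rw [commFun_eq_one hδ hL hO ht hu hv hz, inv_one]
  · have hD : Cyc.secDivFun δ O ξ (φ • cls (e ξ)) = Cyc.divFun δ ξ (X.residue ξ φ) := funext fun y => by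
      unfold Cyc.secDivFun Cyc.divFun
      split_ifs with h
      · rw [secOrdAt_eq hδ h.1 h.2 hO (he y), hesp y ξ h.1, coord_smul_cls (he ξ)]
      · rfl
    have hz : Cyc.c1CapFun δ O (Cyc.secDivFun δ L ξ s) (fun z => cls (e z)) x = 0 :=
      finsum_eq_zero_of_forall_eq_zero fun z => by
        show _ * Cyc.secDivFun δ O z (cls (e z)) x = 0
        rw [show Cyc.secDivFun δ O z (cls (e z)) x = 0 from ?_, mul_zero]
        unfold Cyc.secDivFun
        split_ifs with h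
        · rw [secOrdAt_eq hδ h.1 h.2 hO (he x), hesp x z h.1, coord_cls (he z), ordAt_one hδ h.1 h.2]
        · rfl
    have := h4 x
    rw [hz, hD, zero_sub] at this
    rw [← neg_inj, this, ← finsum_neg_distrib]
    exact finsum_congr fun z => by rw [CycPush.divFun_inv hδ z (h1 z), neg_neg]

end GrothLib.C1
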