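import Groth.Agent.Lib.C1.Algebra
import Groth.Agent.Lib.Ref1.Rank
import Groth.Agent.Lib.InvExt.Gen
import Groth.Agent.Lib.CycDiv.Support
import Groth.Prelude.Def_C1

/-!
Coordinates in the fibres of an invertible module.
-/

set_option autoImplicit false
universe u

open CategoryTheory AlgebraicGeometry

namespace GrothLib.C1

open IsLocalRing GrothLib GrothLib.Ref1

variable {X : Scheme.{u}} {L : X.Modules}

theorem exists_gen (hL : PicF.IsInvertible L) (x : X) : ∃ t : L.presheaf.stalk x, Gen L x t := by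
  obtain ⟨V, e, hx, he⟩ := InvExt.exists_gen_nhd hL x
  exact ⟨_, gen_of_isGen he hx⟩

theorem gen_exists_unit {x : X} {t t' : L.presheaf.stalk x} (ht : Gen L x t) (ht' : Gen L x t') :
    ∃ u : (X.presheaf.stalk x)ˣ, t' = (u : X.presheaf.stalk x) • t := by
  obtain ⟨a, ha⟩ := ht.2 t'
  obtain ⟨b, hb⟩ := ht'.2 t
  dsimp only at ha hb
  have hab : b * a = 1 := ht.1 (show (b * a) • t = (1 : X.presheaf.stalk x) • t by rw [mul_smul, ha, hb, one_smul])
  exact ⟨⟨a, b, by rw [mul_comm, hab], hab⟩, ha.symm⟩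

theorem gen_of_span (hL : PicF.IsInvertible L) {x : X} {t : L.presheaf.stalk x}
    (ht : Submodule.span (X.presheaf.stalk x) {t} = ⊤) : Gen L x t := by
  obtain ⟨g, hg⟩ := exists_gen hL x
  obtain ⟨a, ha⟩ := hg.2 t
  obtain ⟨b, hb⟩ := Submodule.mem_span_singleton.1 (ht.ge (Submodule.mem_top (x := g)))
  dsimp only at ha
  have hab : b * a = 1 := hg.1 (show (b * a) • g = (1 : X.presheaf.stalk x) • g by rw [mul_smul, ha, hb, one_smul])
  refine ⟨fun c d hcd => ?_, fun v => ?_⟩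
  · dsimp only at hcd
    rw [← ha, ← mul_smul, ← mul_smul] at hcd
    exact (IsUnit.of_mul_eq_one_right b hab).mul_right_cancel (hg.1 hcd)
  · obtain ⟨c, hc⟩ := hg.2 v
    exact ⟨c * b, by dsimp only; rw [mul_smul, hb]; exact hc⟩

theorem gen_smul_unit {x : X} {t : L.presheaf.stalk x} (ht : Gen L x t) {u : X.presheaf.stalk x} (hu : IsUnit u) :
    Gen L x (u • t) := by
  refine ⟨fun c d hcd => ?_, fun v => ?_⟩
  · dsimp only at hcd
    rw [← mul_smul, ← mul_smul] at hcd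
    exact hu.mul_right_cancel (ht.1 hcd)
  · obtain ⟨c, hc⟩ := ht.2 v
    exact ⟨c * hu.unit⁻¹, by dsimp only; rw [← mul_smul, mul_assoc, IsUnit.val_inv_mul, mul_one]; exact hc⟩

theorem gen_sp (hL : PicF.IsInvertible L) {x ξ : X} (h : ξ ⤳ x) {t : L.presheaf.stalk x} (ht : Gen L x t) :
    Gen L ξ (sp L h t) := by
  obtain ⟨V, e, hx, he⟩ := InvExt.exists_gen_nhd hL x
  obtain ⟨u, rfl⟩ := gen_exists_unit (gen_of_isGen he hx) ht
  rw [sp_smul, sp_germ]
  exact gen_smul_unit (gen_of_isGen he _) (u.isUnit.map _)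

/-- The class in the fibre. -/
noncomputable abbrev cls {ξ : X} (t : L.presheaf.stalk ξ) : Cyc.secFibre L ξ := Submodule.Quotient.mk t

theorem smul_cls_eq {ξ : X} {t : L.presheaf.stalk ξ} (ht : Gen L ξ t) {φ φ' : X.presheaf.stalk ξ} :
    φ • cls t = φ' • cls t ↔ X.residue ξ φ = X.residue ξ φ' := by
  have hmem : φ • cls t = φ' • cls t ↔ φ - φ' ∈ maximalIdeal (X.presheaf.stalk ξ) := by
    rw [← Submodule.Quotient.mk_smul, ← Submodule.Quotient.mk_smul, Submodule.Quotient.eq, ← sub_smul]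
    constructor
    · intro h
      rw [← ht.span, Submodule.mem_smul_span_singleton] at h
      obtain ⟨m, hm, he⟩ := h
      rwa [ht.1 he] at hm
    · exact fun h => Submodule.smul_mem_smul h Submodule.mem_top
  rw [hmem, ← sub_eq_zero (a := X.residue ξ φ), ← map_sub]
  exact (residue_eq_zero_iff _).symm

theorem exists_smul_cls {ξ : X} {t : L.presheaf.stalk ξ} (ht : Gen L ξ t) (s : Cyc.secFibre L ξ) :
    ∃ φ : X.presheaf.stalk ξ, s = φ • cls t := by
  obtain ⟨v, rfl⟩ := Submodule.Quotient.mk_surjective _ s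
  obtain ⟨φ, hφ⟩ := ht.2 v
  exact ⟨φ, by rw [← Submodule.Quotient.mk_smul]; exact congrArg _ hφ.symm⟩

open Classical in
/-- The coordinate of a point of the fibre. -/
noncomputable def coord {ξ : X} (t : L.presheaf.stalk ξ) (s : Cyc.secFibre L ξ) : X.residueField ξ :=
  if h : ∃ φ : X.presheaf.stalk ξ, s = φ • cls t then X.residue ξ h.choose else 0

theorem coord_smul_cls {ξ : X} {t : L.presheaf.stalk ξ} (ht : Gen L ξ t) (φ : X.presheaf.stalk ξ) :
    coord t (φ • cls t) = X.residue ξ φ := by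
  have h : ∃ φ' : X.presheaf.stalk ξ, φ • cls t = φ' • cls t := ⟨φ, rfl⟩
  rw [coord, dif_pos h]
  exact (smul_cls_eq ht).1 h.choose_spec.symm

theorem coord_cls {ξ : X} {t : L.presheaf.stalk ξ} (ht : Gen L ξ t) : coord t (cls t) = 1 := by
  have := coord_smul_cls ht 1
  rwa [one_smul, map_one] at this

theorem coord_ne_zero {ξ : X} {t : L.presheaf.stalk ξ} (ht : Gen L ξ t) {s : Cyc.secFibre L ξ} (hs : s ≠ 0) :
    coord t s ≠ 0 := by
  obtain ⟨φ, rfl⟩ := exists_smul_cls ht s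
  rw [coord_smul_cls ht]
  exact fun h => hs (by rw [(smul_cls_eq ht).2 (h.trans (map_zero _).symm), zero_smul])

theorem coord_change {ξ : X} {t : L.presheaf.stalk ξ} (ht : Gen L ξ t) {u : X.presheaf.stalk ξ} (hu : IsUnit u)
    (s : Cyc.secFibre L ξ) : coord t s = X.residue ξ u * coord (u • t) s := by
  obtain ⟨φ, rfl⟩ := exists_smul_cls (gen_smul_unit ht hu) s
  rw [coord_smul_cls (gen_smul_unit ht hu), ← map_mul, ← coord_smul_cls ht (u * φ), mul_comm u φ, mul_smul]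
  rfl

theorem gen_of_cls_ne_zero (hL : PicF.IsInvertible L) {ξ : X} {t : L.presheaf.stalk ξ} (ht : cls t ≠ 0) : Gen L ξ t := by
  obtain ⟨g, hg⟩ := exists_gen hL ξ
  obtain ⟨φ, hφ⟩ := hg.2 t
  dsimp only at hφ
  subst hφ
  refine gen_smul_unit hg ?_
  by_contra hu
  apply ht
  show φ • cls g = 0
  rw [(smul_cls_eq hg (φ' := 0)).2 (by rw [map_zero]; exact (residue_eq_zero_iff _).2 hu), zero_smul]

theorem exists_gen_lift (hL : PicF.IsInvertible L) {ξ : X} {s : Cyc.secFibre L ξ} (hs : s ≠ 0) :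
    ∃ t, Gen L ξ t ∧ cls t = s := by
  obtain ⟨t, rfl⟩ := Submodule.Quotient.mk_surjective _ s
  exact ⟨t, gen_of_cls_ne_zero hL hs, rfl⟩

theorem residue_spR {x ξ : X} (h : ξ ⤳ x) (a : X.presheaf.stalk x) :
    X.residue ξ (spR h a) = Cyc.specMap x ξ h a := rfl

section ord

variable [IsLocallyNoetherian X] {δ : X → ℤ} (hδ : Cyc.IsDimFun X δ) {x ξ : X} (h : ξ ⤳ x) (hd : δ x + 1 = δ ξ)

include hδ hd in
theorem krullDimLE_locQuot : Ring.KrullDimLE 1 (Cyc.LocQuot x ξ h) := Ring.krullDimLE_iff.2 (by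
  rw [GrothLib.CycBasic.ringKrullDim_locQuot hδ x ξ h, show (δ ξ - δ x).toNat = 1 from by omega])

include hδ hd in
theorem ordAt_mul {f g : X.residueField ξ} (hf : f ≠ 0) (hg : g ≠ 0) :
    Cyc.ordAt x ξ h (f * g) = Cyc.ordAt x ξ h f + Cyc.ordAt x ξ h g := by
  haveI := CycDiv.isFractionRing_locQuot h
  haveI := krullDimLE_locQuot hδ h hd
  haveI : IsNoetherianRing (Cyc.LocQuot x ξ h) :=
    isNoetherianRing_of_surjective _ _ (Ideal.Quotient.mk _) Ideal.Quotient.mk_surjective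
  exact CycPush.ordFrac_mul _ hf hg

include hδ hd in
theorem ordAt_unit {a : X.presheaf.stalk x} (ha : IsUnit a) : Cyc.ordAt x ξ h (Cyc.specMap x ξ h a) = 0 :=
  CycDiv.ordAt_eq_zero_of_isUnit hδ h hd ha rfl

include hδ hd in
/-- The order of a rational section by any generator. -/
theorem secOrdAt_eq (hL : PicF.IsInvertible L) {t : L.presheaf.stalk x} (ht : Gen L x t) (s : Cyc.secFibre L ξ) :
    Cyc.secOrdAt L ξ x h s = Cyc.ordAt x ξ h (coord (sp L h t) s) := by
  have hex : ∃ t', Submodule.span (X.presheaf.stalk x) {t'} = ⊤ := ⟨t, ht.span⟩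
  rw [Cyc.secOrdAt, dif_pos hex]
  have ht' : Gen L x hex.choose := gen_of_span hL hex.choose_spec
  obtain ⟨u, hu⟩ := gen_exists_unit ht ht'
  set t' := hex.choose
  have hg := gen_sp hL h ht'
  obtain ⟨φ, hφ⟩ := exists_smul_cls hg s
  have hexφ : ∃ φ' : X.presheaf.stalk ξ, s = φ' • (Submodule.Quotient.mk ((L.presheaf.stalkSpecializes h) t') :
      Cyc.secFibre L ξ) := ⟨φ, hφ⟩
  rw [dif_pos hexφ]
  have e1 : X.residue ξ hexφ.choose = coord (sp L h t') s := by
    conv_rhs => rw [hexφ.choose_spec]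
    exact (coord_smul_cls hg _).symm
  rw [e1, coord_change (gen_sp hL h ht) (u.isUnit.map (spR h)) s, ← sp_smul, ← hu, residue_spR]
  rcases eq_or_ne (coord (sp L h t') s) 0 with h0 | h0
  · rw [h0, mul_zero]
  · rw [ordAt_mul hδ h hd (u.isUnit.map (Cyc.specMap x ξ h)).ne_zero h0, ordAt_unit hδ h hd u.isUnit, zero_add]

end ord

/-- The ratio of two rational sections. -/
noncomputable def ratio {ξ : X} (hL : PicF.IsInvertible L) (s s' : Cyc.secFibre L ξ) : X.residueField ξ :=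
  coord (exists_gen hL ξ).choose s / coord (exists_gen hL ξ).choose s'

theorem ratio_ne_zero {ξ : X} (hL : PicF.IsInvertible L) {s s' : Cyc.secFibre L ξ} (hs : s ≠ 0) (hs' : s' ≠ 0) :
    ratio hL s s' ≠ 0 :=
  div_ne_zero (coord_ne_zero (exists_gen hL ξ).choose_spec hs) (coord_ne_zero (exists_gen hL ξ).choose_spec hs')

theorem ratio_eq {ξ : X} (hL : PicF.IsInvertible L) {t : L.presheaf.stalk ξ} (ht : Gen L ξ t)
    (s s' : Cyc.secFibre L ξ) : ratio hL s s' = coord t s / coord t s' := by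
  obtain ⟨u, hu⟩ := gen_exists_unit ht (exists_gen hL ξ).choose_spec
  rw [ratio, coord_change ht u.isUnit s, coord_change ht u.isUnit s', ← hu,
    mul_div_mul_left _ _ (u.isUnit.map (X.residue ξ).hom).ne_zero]

theorem secDivFun_sub (hL : PicF.IsInvertible L) [IsLocallyNoetherian X] {δ : X → ℤ} (hδ : Cyc.IsDimFun X δ) {ξ : X}
    {s s' : Cyc.secFibre L ξ} (hs : s ≠ 0) (hs' : s' ≠ 0) (x : X) :
    Cyc.secDivFun δ L ξ s x - Cyc.secDivFun δ L ξ s' x = Cyc.divFun δ ξ (ratio hL s s') x := by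
  unfold Cyc.secDivFun Cyc.divFun
  split_ifs with h
  · obtain ⟨t, ht⟩ := exists_gen hL x
    have hg := gen_sp hL h.1 ht
    have hc := coord_ne_zero hg hs'
    have := ordAt_mul hδ h.1 h.2 (ratio_ne_zero hL hs hs') hc
    rw [ratio_eq hL hg, div_mul_cancel₀ _ hc] at this
    rw [secOrdAt_eq hδ h.1 h.2 hL ht, secOrdAt_eq hδ h.1 h.2 hL ht, ratio_eq hL hg]
    linarith
  · rfl

end GrothLib.C1
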