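import Groth.Agent.Lib.C1.Fundamental
import Groth.Agent.Lib.C1.FlatGysin
import Groth.Agent.Lib.LengthQuotX
import Groth.Agent.Lib.IntMult3.Mult
import Mathlib.RingTheory.Flat.Equalizer

/-!
Cutting the fibres of a flat morphism by a relative effective Cartier divisor.
-/

set_option autoImplicit false
universe u
open scoped Pointwise TensorProduct

open CategoryTheory AlgebraicGeometry IsLocalRing

namespace GrothLib.C1

open GrothLib GrothLib.CycDiv GrothLib.CycFlat

/-- A regular element with flat quotient stays regular modulo an ideal of the base. -/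
theorem mem_map_of_mul_mem_map {A B : Type u} [CommRing A] [CommRing B] [Algebra A B] {b : B}
    (hb : ∀ a : B, a * b = 0 → a = 0) [Module.Flat A (B ⧸ Ideal.span {b})] (I : Ideal A) {a : B}
    (h : a * b ∈ I.map (algebraMap A B)) : a ∈ I.map (algebraMap A B) := by
  let g : B →ₗ[A] B := (LinearMap.mulRight B b).restrictScalars A
  have hg : Function.Injective g := fun u v huv => sub_eq_zero.1 (hb _ (by
    rw [sub_mul, sub_eq_zero]; exact huv))
  let q : B →ₗ[A] B ⧸ Ideal.span {b} := (Ideal.Quotient.mkₐ A (Ideal.span {b})).toLinearMap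
  have hq : Function.Surjective q := Ideal.Quotient.mk_surjective
  have hex : Function.Exact g q := fun u => by
    show Ideal.Quotient.mk _ u = 0 ↔ _
    rw [Ideal.Quotient.eq_zero_iff_mem, Ideal.mem_span_singleton']
    exact ⟨fun ⟨c, hc⟩ => ⟨c, hc⟩, fun ⟨c, hc⟩ => ⟨c, hc⟩⟩
  have hinj := LinearMap.lTensor_injective_of_exact_of_flat q hq g hg hex (A ⧸ I)
  have hmk : ∀ u : B, u ∈ I.map (algebraMap A B) ↔ (Ideal.Quotient.mk I 1 ⊗ₜ[A] u : (A ⧸ I) ⊗[A] B) = 0 := fun u => by
    rw [← (TensorProduct.quotTensorEquivQuotSMul B I).injective.eq_iff, map_zero,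
      TensorProduct.quotTensorEquivQuotSMul_mk_tmul, one_smul, Submodule.Quotient.mk_eq_zero,
      Ideal.smul_top_eq_map]
    rfl
  rw [hmk] at h ⊢
  exact hinj (by rw [map_zero, LinearMap.lTensor_tmul]; exact h)

variable {X Y : Scheme.{u}} [IsLocallyNoetherian X] [IsLocallyNoetherian Y] (p : X ⟶ Y)
  {δX : X → ℤ} {δY : Y → ℤ} {c : ℤ}

open Classical in
theorem fibreCut (hδX : Cyc.IsDimFun X δX) (hc : ∀ x, MaxFib p x → δX x = δY (p x) + c) (x : X)
    (hx : δX x + 1 = δY (p x) + c) (f : X.presheaf.stalk x) (hfm : f ∈ maximalIdeal (X.presheaf.stalk x))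
    (hreg : ∀ a, a * f = 0 → a = 0)
    (hflat : letI := (p.stalkMap x).hom.toAlgebra
      Module.Flat (Y.presheaf.stalk (p x)) (X.presheaf.stalk x ⧸ Ideal.span {f}))
    (S : Finset X) (hS : ∀ ξ : X, ξ ∈ S ↔ (ξ ⤳ x ∧ MaxFib p ξ ∧ p ξ = p x)) :
    (∀ ξ (h : ξ ⤳ x), MaxFib p ξ → p ξ = p x → f ∉ primeOf h) ∧
    ((Module.length (X.presheaf.stalk x) (X.presheaf.stalk x ⧸
      ((maximalIdeal (Y.presheaf.stalk (p x))).map (p.stalkMap x).hom ⊔ Ideal.span {f}))).toNat : ℤ) =
      ∑ ξ ∈ S, if h : ξ ⤳ x then ((Ring.ord (Cyc.LocQuot x ξ h) (Ideal.Quotient.mk _ f)).toNat : ℤ) *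
        ((fibLength p ξ).toNat : ℤ) else 0 := by
  letI := (p.stalkMap x).hom.toAlgebra
  haveI := hflat
  set J : Ideal (X.presheaf.stalk x) := (maximalIdeal (Y.presheaf.stalk (p x))).map (p.stalkMap x).hom with hJ
  have hregJ : ∀ a : (X.presheaf.stalk x), a * f ∈ J → a ∈ J := by
    intro a ha
    have key := mem_map_of_mul_mem_map (A := Y.presheaf.stalk (p x)) (B := X.presheaf.stalk x) (b := f) hreg
      (maximalIdeal (Y.presheaf.stalk (p x))) (a := a)
    exact key ha
  have hJle : ∀ (ξ : X) (h : ξ ⤳ x), p ξ = p x → J ≤ primeOf h := fun ξ h he => by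
    rw [hJ, Ideal.map_le_iff_le_comap, comap_primeOf p h, ← CycCut.primeOf_self,
      primeOf_congr (h.map p.continuous) specializes_rfl he]
  have hpts : ∀ q : PrimeSpectrum (X.presheaf.stalk x), J ≤ q.asIdeal → q.asIdeal ≠ maximalIdeal (X.presheaf.stalk x) →
      ∃ (ξ : X) (h : ξ ⤳ x), primeOf h = q.asIdeal ∧ MaxFib p ξ ∧ p ξ = p x := by
    intro q hq hne
    obtain ⟨ξ, h, hξ⟩ := CycCut.exists_point_of_prime q
    have he : p ξ = p x := by
      refine CycCut.point_eq_of_primeOf_eq (h.map p.continuous) specializes_rfl (le_antisymm ?_ ?_)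
      · rw [CycCut.primeOf_self]
        exact IsLocalRing.le_maximalIdeal (inferInstance : (primeOf (h.map p.continuous)).IsPrime).ne_top
      · rw [CycCut.primeOf_self, ← comap_primeOf p h, ← Ideal.map_le_iff_le_comap, hξ]
        exact hq
    have hne' : ξ ≠ x := by
      rintro rfl
      exact hne (hξ.symm.trans (CycCut.primeOf_self _))
    have h1 := (hδX ξ x h hne').1
    obtain ⟨hiff, hle⟩ := eq_add_iff_maxFib p hδX hc ξ
    refine ⟨ξ, h, hξ, hiff.1 ?_, he⟩
    rw [he] at hle ⊢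
    omega
  have hnotmax : ∀ (ξ : X) (h : ξ ⤳ x), MaxFib p ξ → p ξ = p x → primeOf h ≠ maximalIdeal (X.presheaf.stalk x) := by
    intro ξ h hm he hmax
    obtain rfl := CycCut.point_eq_of_primeOf_eq h specializes_rfl (hmax.trans (CycCut.primeOf_self x).symm)
    have := hc ξ hm
    omega
  have hmin : ∀ (ξ : X) (h : ξ ⤳ x), MaxFib p ξ → p ξ = p x → ∀ q : PrimeSpectrum (X.presheaf.stalk x), J ≤ q.asIdeal →
      q.asIdeal ≤ primeOf h → q.asIdeal = primeOf h := by
    intro ξ h hm he q hq hle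
    have hne : q.asIdeal ≠ maximalIdeal (X.presheaf.stalk x) := fun e => hnotmax ξ h hm he
      (le_antisymm (IsLocalRing.le_maximalIdeal (inferInstance : (primeOf h).IsPrime).ne_top) (e.ge.trans hle))
    obtain ⟨ξ', h', hξ', hm', he'⟩ := hpts q hq hne
    have hsp : ξ' ⤳ ξ := CycCut.specializes_of_primeOf_le h' h (hξ'.le.trans hle)
    obtain rfl : ξ' = ξ := by
      by_contra hne'
      have := (hδX ξ' ξ hsp hne').1
      have := hc ξ hm
      have := hc ξ' hm'
      rw [he] at *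
      rw [he'] at *
      omega
    exact hξ'.symm
  have hnot : ∀ (ξ : X) (h : ξ ⤳ x), MaxFib p ξ → p ξ = p x → f ∉ primeOf h := by
    intro ξ h hm he hf
    have hmem : primeOf h ∈ J.minimalPrimes := ⟨⟨inferInstance, hJle ξ h he⟩, fun q hq hle =>
      (hmin ξ h hm he ⟨q, hq.1⟩ hq.2 hle).ge⟩
    obtain ⟨b, hb, hbf⟩ : ∃ b, b ∉ J ∧ b * f ∈ J := by
      by_contra! hh
      have hd := Ideal.disjoint_nonZeroDivisors_of_mem_minimalPrimes
        (R := (X.presheaf.stalk x) ⧸ J) (p := (primeOf h).map (Ideal.Quotient.mk J)) (by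
          rw [Ideal.minimalPrimes_eq_comap] at hmem
          obtain ⟨P, hP, hPe⟩ := hmem
          rwa [← hPe, Ideal.map_comap_of_surjective _ Ideal.Quotient.mk_surjective])
      refine Set.disjoint_left.1 hd (Ideal.mem_map_of_mem _ hf) ?_
      rw [SetLike.mem_coe, mem_nonZeroDivisors_iff_right]
      intro z hz
      obtain ⟨z, rfl⟩ := Ideal.Quotient.mk_surjective z
      rw [← map_mul, Ideal.Quotient.eq_zero_iff_mem] at hz
      exact Ideal.Quotient.eq_zero_iff_mem.2 (by_contra fun hz' => hh z hz' hz)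
    exact hb (hregJ b hbf)
  refine ⟨hnot, ?_⟩
  have hsuppM : ∀ q, q ∈ Module.support (X.presheaf.stalk x) ((X.presheaf.stalk x) ⧸ J) ↔ J ≤ q.asIdeal := fun q => by
    rw [Module.support_eq_zeroLocus, Ideal.annihilator_quotient]
    rfl
  have hT : ∀ q, q ∈ Module.support (X.presheaf.stalk x) ((X.presheaf.stalk x) ⧸ J) → (q.asIdeal ≠ maximalIdeal (X.presheaf.stalk x) ↔
      q ∈ S.attach.image fun ξ => (⟨primeOf ((hS ξ.1).1 ξ.2).1, inferInstance⟩ : PrimeSpectrum (X.presheaf.stalk x))) := by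
    intro q hq
    refine ⟨fun hne => ?_, ?_⟩
    · obtain ⟨ξ, h, hξ, hm, he⟩ := hpts q ((hsuppM q).1 hq) hne
      exact Finset.mem_image.2 ⟨⟨ξ, (hS ξ).2 ⟨h, hm, he⟩⟩, Finset.mem_attach _ _, PrimeSpectrum.ext hξ⟩
    · intro hmem
      obtain ⟨⟨ξ, hξS⟩, -, rfl⟩ := Finset.mem_image.1 hmem
      obtain ⟨hs, hm, he⟩ := (hS ξ).1 hξS
      exact hnotmax ξ hs hm he
  have h1 : Module.supportDim (X.presheaf.stalk x) ((X.presheaf.stalk x) ⧸ J) ≤ 1 := by
    refine Order.krullDim_le_one_iff.2 fun q => ?_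
    by_cases hne : q.1.asIdeal = maximalIdeal (X.presheaf.stalk x)
    · exact Or.inr fun q' _ => (show q'.1.asIdeal ≤ q.1.asIdeal from
        hne ▸ IsLocalRing.le_maximalIdeal q'.1.2.ne_top)
    · refine Or.inl fun q' hle => ?_
      obtain ⟨ξ, h, hξ, hm, he⟩ := hpts q.1 ((hsuppM q.1).1 q.2) hne
      show q.1.asIdeal ≤ q'.1.asIdeal
      rw [hmin ξ h hm he q'.1 ((hsuppM q'.1).1 q'.2) (hξ ▸ hle), hξ]
  have h0 : Module.supportDim (X.presheaf.stalk x) (((X.presheaf.stalk x) ⧸ J) ⧸ f • (⊤ : Submodule (X.presheaf.stalk x) ((X.presheaf.stalk x) ⧸ J))) ≤ 0 := by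
    have : Subsingleton (Module.support (X.presheaf.stalk x) (((X.presheaf.stalk x) ⧸ J) ⧸ f • (⊤ : Submodule (X.presheaf.stalk x) ((X.presheaf.stalk x) ⧸ J)))) := by
      have key : ∀ q ∈ Module.support (X.presheaf.stalk x) (((X.presheaf.stalk x) ⧸ J) ⧸ f • (⊤ : Submodule (X.presheaf.stalk x) ((X.presheaf.stalk x) ⧸ J))),
          q.asIdeal = maximalIdeal (X.presheaf.stalk x) := by
        intro q hq
        rw [← Submodule.ideal_span_singleton_smul, Module.support_quotient] at hq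
        by_contra hne
        obtain ⟨ξ, h, hξ, hm, he⟩ := hpts q ((hsuppM q).1 hq.1) hne
        exact hnot ξ h hm he (hξ.ge (hq.2 (Ideal.mem_span_singleton_self f)))
      exact ⟨fun a b => Subtype.ext (PrimeSpectrum.ext ((key _ a.2).trans (key _ b.2).symm))⟩
    exact Order.krullDim_nonpos_of_subsingleton
  have hker : LinearMap.ker (LinearMap.lsmul (X.presheaf.stalk x) ((X.presheaf.stalk x) ⧸ J) f) = ⊥ := by
    rw [Submodule.eq_bot_iff]
    intro m hm
    obtain ⟨a, rfl⟩ := Ideal.Quotient.mk_surjective m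
    refine Ideal.Quotient.eq_zero_iff_mem.2 (hregJ a ?_)
    rw [mul_comm]
    exact Ideal.Quotient.eq_zero_iff_mem.1 hm
  have hlen : Module.length (X.presheaf.stalk x) (((X.presheaf.stalk x) ⧸ J) ⧸ f • (⊤ : Submodule (X.presheaf.stalk x) ((X.presheaf.stalk x) ⧸ J))) =
      Module.length (X.presheaf.stalk x) ((X.presheaf.stalk x) ⧸ (J ⊔ Ideal.span {f})) := by
    rw [← Submodule.ideal_span_singleton_smul]
    exact GrothLib.IntMult3.length_quot_eq J (Ideal.span {f})
  have hformula := LengthQuotX.length_quot_eq (M := (X.presheaf.stalk x) ⧸ J) f h1 h0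
  rw [hker, Module.length_bot, zero_add, LengthQuotX.finsum_term_eq f hT, Finset.sum_image ?_, hlen] at hformula
  swap
  · intro a _ b _ e
    exact Subtype.ext (CycCut.point_eq_of_primeOf_eq _ _ (congrArg PrimeSpectrum.asIdeal e))
  have hfin : Module.length (X.presheaf.stalk x) ((X.presheaf.stalk x) ⧸ (J ⊔ Ideal.span {f})) ≠ ⊤ := hlen ▸ (GrothLib.FiniteLengthSupp.length_lt_top h0).ne
  rw [hformula] at hfin ⊢
  rw [ENat.toNat_sum fun a ha => ne_top_of_le_ne_top hfin (Finset.single_le_sum (fun _ _ => zero_le) ha),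
    ← Finset.sum_attach S]
  push_cast
  refine Finset.sum_congr rfl fun ξ _ => ?_
  obtain ⟨hs, -, he⟩ := (hS ξ.1).1 ξ.2
  have hJ' : J = (primeOf (hs.map p.continuous)).map (p.stalkMap x).hom := by
    rw [hJ, ← CycCut.primeOf_self, primeOf_congr (hs.map p.continuous) specializes_rfl he]
  rw [dif_pos hs, ← length_localized_eq_fibLength p hs, ← hJ', LengthQuotX.term, ENat.toNat_mul]
  push_cast
  rfl

end GrothLib.C1
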