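import Groth.Agent.Lib.C1.ZeroScheme
import Groth.Agent.Lib.CycCut.Main
import Groth.Agent.Lib.HomSh.Coherent

/-!
Fundamental cycles and zero loci of sections.
-/

set_option autoImplicit false
open scoped Pointwise
universe u

open CategoryTheory AlgebraicGeometry

namespace GrothLib.C1

open IsLocalRing GrothLib GrothLib.CycDiv GrothLib.Ref1

variable {X : Scheme.{u}} {L : X.Modules} {δ : X → ℤ}

theorem subschemeFun_id (k : ℤ) (x : X) :
    Cyc.subschemeFun δ k (𝟙 X) x = if δ x = k then ((Module.length (X.presheaf.stalk x) (X.presheaf.stalk x)).toNat : ℤ) else 0 := by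
  unfold Cyc.subschemeFun
  split_ifs with h
  · rw [show {z : X | (𝟙 X : X ⟶ X) z = x} = {x} from Set.ext fun z => Iff.rfl, finsum_mem_singleton]
  · rfl

theorem zeroSectionFun_eq (hL : PicF.IsInvertible L) (k : ℤ) (s : L.presheaf.obj (Opposite.op ⊤)) {x : X} (hx : δ x = k)
    {t : L.presheaf.stalk x} (ht : Gen L x t) {f : X.presheaf.stalk x} (hf : (L.presheaf.germ ⊤ x trivial) s = f • t) :
    Cyc.zeroSectionFun δ k L s x =
      ((Module.length (X.presheaf.stalk x) (↥(X.presheaf.stalk x) ⧸ Ideal.span {f})).toNat : ℤ) := by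
  have hex : ∃ t', Submodule.span (X.presheaf.stalk x) {t'} = ⊤ := ⟨t, ht.span⟩
  have ht' : Gen L x hex.choose := gen_of_span hL hex.choose_spec
  obtain ⟨u, hu⟩ := gen_exists_unit ht' ht
  have hexf : ∃ g : X.presheaf.stalk x, (L.presheaf.germ ⊤ x trivial) s = g • hex.choose :=
    ⟨f * u, by rw [hf, hu, mul_smul]⟩
  unfold Cyc.zeroSectionFun
  rw [if_pos hx, dif_pos hex, dif_pos hexf]
  have hg : hexf.choose = f * u := ht'.1 (show hexf.choose • hex.choose = (f * (u : X.presheaf.stalk x)) • hex.choose by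
    rw [mul_smul, ← hu, ← hf]
    exact hexf.choose_spec.symm)
  rw [show Ideal.span {Classical.choose hexf} = Ideal.span {f} by
    rw [show Classical.choose hexf = f * u from hg]; exact Ideal.span_singleton_mul_right_unit u.isUnit f]

theorem secDivFun_gcls [IsLocallyNoetherian X] (hδ : Cyc.IsDimFun X δ) (hL : PicF.IsInvertible L)
    (s : L.presheaf.obj (Opposite.op ⊤)) {x ξ : X} (h : ξ ⤳ x) (hd : δ x + 1 = δ ξ) {t : L.presheaf.stalk x}
    (ht : Gen L x t) {f : X.presheaf.stalk x} (hf : (L.presheaf.germ ⊤ x trivial) s = f • t) :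
    Cyc.secDivFun δ L ξ (gcls s ξ) x = Cyc.ordAt x ξ h (Cyc.specMap x ξ h f) := by
  rw [secDivFun_eq hδ hL h hd ht, gcls, ← sp_germ L h (U := ⊤) trivial, hf, sp_smul]
  show Cyc.ordAt _ _ _ (coord _ (spR h f • cls (sp L h t))) = _
  rw [coord_smul_cls (gen_sp hL h ht), residue_spR]

theorem gcls_eq_zero_iff (hL : PicF.IsInvertible L) (s : L.presheaf.obj (Opposite.op ⊤)) {x ξ : X} (h : ξ ⤳ x)
    {t : L.presheaf.stalk x} (ht : Gen L x t) {f : X.presheaf.stalk x} (hf : (L.presheaf.germ ⊤ x trivial) s = f • t) :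
    gcls s ξ = 0 ↔ f ∈ primeOf h := by
  rw [gcls, ← sp_germ L h (U := ⊤) trivial, hf, sp_smul]
  show spR h f • cls (sp L h t) = 0 ↔ _
  rw [← zero_smul (X.presheaf.stalk ξ) (cls (sp L h t)), smul_cls_eq (gen_sp hL h ht), map_zero, residue_spR]
  rfl

theorem exists_finite_gen [IsLocallyNoetherian X] (hδ : Cyc.IsDimFun X δ) (x : X) (m : ℤ) (hdim : ∀ y : X, δ y ≤ m) :
    {ζ : X | ζ ⤳ x ∧ δ ζ = m}.Finite := by
  classical
  refine Set.Finite.of_finite_image (f := fun ζ => if h : ζ ⤳ x then primeOf h else ⊤) ?_ ?_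
  · refine (minimalPrimes.finite_of_isNoetherianRing (X.presheaf.stalk x)).subset ?_
    rintro _ ⟨ζ, ⟨h, hd⟩, rfl⟩
    simp only [dif_pos h]
    refine ⟨⟨inferInstance, bot_le⟩, fun q hq hle => ?_⟩
    obtain ⟨ζ', h', hq'⟩ := CycCut.exists_point_of_prime (⟨q, hq.1⟩ : PrimeSpectrum (X.presheaf.stalk x))
    have hsp : ζ' ⤳ ζ := CycCut.specializes_of_primeOf_le h' h (hq'.le.trans hle)
    obtain rfl : ζ' = ζ := by
      by_contra hne
      have := (hδ ζ' ζ hsp hne).1
      have := hdim ζ'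
      omega
    exact (le_of_eq hq' : _)
  · rintro ζ ⟨h, -⟩ ζ' ⟨h', -⟩ e
    simp only [dif_pos h, dif_pos h'] at e
    exact CycCut.point_eq_of_primeOf_eq h h' e

/-- Points of the top dimension are locally finite. -/
theorem lf_of_top [IsLocallyNoetherian X] (hδ : Cyc.IsDimFun X δ) {m : ℤ} (hdim : ∀ y : X, δ y ≤ m) {a : X → ℤ}
    (ha : ∀ y, a y ≠ 0 → δ y = m) : LF a := by
  intro x
  obtain ⟨U, hU, hxU, -⟩ := exists_isAffineOpen_mem_and_subset (x := x) (U := ⊤) trivial
  haveI : IsNoetherianRing Γ(X, U) := IsLocallyNoetherian.component_noetherian ⟨U, hU⟩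
  haveI : IsNoetherian (U : Scheme.{u}) := by
    haveI : IsAffine (U : Scheme.{u}) := hU
    exact {}
  refine ⟨U, hxU, ((genericPoints.finite (α := (U : Scheme.{u}))
    TopologicalSpace.NoetherianSpace.finite_irreducibleComponents).image U.ι).subset ?_⟩
  rintro y ⟨hyU, hy⟩
  refine ⟨⟨y, hyU⟩, ?_, rfl⟩
  refine ⟨isIrreducible_singleton.closure, fun Z hZ hle => ?_⟩
  obtain ⟨g, hg⟩ := QuasiSober.sober hZ.closure isClosed_closure
  have hsp : g ⤳ (⟨y, hyU⟩ : (U : Scheme.{u})) :=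
    hg.specializes (subset_closure (hle (subset_closure (Set.mem_singleton _))))
  have hXsp : U.ι g ⤳ y := hsp.map U.ι.continuous
  have : U.ι g = y := by
    by_contra hne
    have h1 := (hδ _ _ hXsp hne).1
    have h2 := hdim (U.ι g)
    rw [ha y hy] at h1
    omega
  obtain rfl : g = ⟨y, hyU⟩ := U.ι.isOpenEmbedding.injective this
  exact fun z hz => hg.def ▸ subset_closure hz

theorem length_structureModule [IsLocallyNoetherian X] (x : X) :
    Module.length (X.presheaf.stalk x) ((Coh.structureModule X).presheaf.stalk x) =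
      Module.length (X.presheaf.stalk x) (X.presheaf.stalk x) := by
  obtain ⟨e, he, -⟩ := exists_unit_gen (X := X)
  exact (LinearEquiv.ofBijective (LinearMap.toSpanSingleton (X.presheaf.stalk x) _ (e x)) (he x)).length_eq.symm

theorem zeroSectionFun_eq_c1Cap [IsLocallyNoetherian X] (hδ : Cyc.IsDimFun X δ) (hL : PicF.IsInvertible L) (k : ℤ)
    (hdim : ∀ y : X, δ y ≤ k + 1) (s : L.presheaf.obj (Opposite.op ⊤)) (hZ : ∀ y : X, gcls s y = 0 → δ y ≤ k)
    (hreg : ∀ y : X, δ y = k → Function.Injective (fun a : X.presheaf.stalk y => a • (L.presheaf.germ ⊤ y trivial) s))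
    (x : X) :
    Cyc.zeroSectionFun δ k L s x = Cyc.c1CapFun δ L (Cyc.subschemeFun δ (k + 1) (𝟙 X)) (gcls s) x := by
  classical
  have hα : ∀ ξ, Cyc.subschemeFun δ (k + 1) (𝟙 X) ξ ≠ 0 → δ ξ = k + 1 := fun ξ hξ => by
    by_contra h
    exact hξ (if_neg h)
  by_cases hx : δ x = k
  swap
  · rw [Cyc.zeroSectionFun, if_neg hx]
    exact (by_contra fun h => hx (c1Cap_mem hα _ (Ne.symm h)))
  obtain ⟨t, ht⟩ := exists_gen hL x
  obtain ⟨f, hf⟩ := ht.2 ((L.presheaf.germ ⊤ x trivial) s)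
  replace hf : (L.presheaf.germ ⊤ x trivial) s = f • t := hf.symm
  rw [zeroSectionFun_eq hL k s hx ht hf]
  by_cases hu : IsUnit f
  · rw [Ideal.span_singleton_eq_top.2 hu, Module.length_eq_zero, ENat.toNat_zero, Nat.cast_zero, Cyc.c1CapFun,
      finsum_eq_zero_of_forall_eq_zero fun ξ => ?_]
    by_contra hne
    obtain ⟨h, hd⟩ := secDivFun_ne_zero (right_ne_zero_of_mul hne)
    exact right_ne_zero_of_mul hne (by rw [secDivFun_gcls hδ hL s h hd ht hf, ordAt_unit hδ h hd hu])
  let O := Coh.structureModule X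
  obtain ⟨e, he, -⟩ := exists_unit_gen (X := X)
  have hnt : ∀ ζ : X, Nontrivial (O.presheaf.stalk ζ) := fun ζ => ⟨⟨e ζ, 0, (he ζ).ne_zero⟩⟩
  have hfreg : ∀ a : X.presheaf.stalk x, a * f = 0 → a = 0 := fun a ha => hreg x hx (by
    show a • _ = (0 : X.presheaf.stalk x) • _
    rw [hf, ← mul_smul, ha, zero_smul, zero_smul])
  have hm : ¬ IsAssociatedPrime (maximalIdeal (X.presheaf.stalk x)) (O.presheaf.stalk x) := by
    rintro ⟨-, m, hm⟩
    obtain ⟨b, rfl⟩ := (he x).2 m
    obtain ⟨n, hn⟩ : ∃ n, f ^ n • (b • e x) = 0 := by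
      have : f ∈ ((⊥ : Submodule (X.presheaf.stalk x) (O.presheaf.stalk x)).colon {b • e x}).radical := hm ▸ hu
      obtain ⟨n, hn⟩ := this
      exact ⟨n, by simpa [Submodule.mem_colon_singleton] using hn⟩
    have hb : b = 0 := by
      clear hm
      induction n generalizing b with
      | zero =>
        rw [pow_zero, one_smul] at hn
        exact (he x).1 (hn.trans (zero_smul _ _).symm)
      | succ n ih =>
        refine hfreg b (ih (b := b * f) ?_)
        rw [← hn, pow_succ, ← mul_smul, ← mul_smul]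
        congr 1; ring
    subst hb
    apply (maximalIdeal.isMaximal (X.presheaf.stalk x)).ne_top
    rw [hm, show ((fun a : X.presheaf.stalk x => a • e x) 0) = 0 from zero_smul _ _, show (⊥ : Submodule (X.presheaf.stalk x) (O.presheaf.stalk x)).colon {0} = ⊤ from
      eq_top_iff.2 fun r _ => by simp [Submodule.mem_colon_singleton]]
    exact Ideal.radical_top _
  set α := Cyc.subschemeFun δ (k + 1) (𝟙 X)
  have hfin : {ζ : X | ζ ⤳ x ∧ δ ζ = k + 1 ∧ Nontrivial (O.presheaf.stalk ζ)}.Finite := by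
    refine (exists_finite_gen hδ x (k + 1) hdim).subset fun ζ hζ => ⟨hζ.1, hζ.2.1⟩
  have hcut := CycCut.length_cut hδ O (HomSh.isCoh_structureModule X) x k hx f (fun ζ _ _ => hdim ζ) hm
    (fun ζ h hd _ hmem => by have := hZ ζ ((gcls_eq_zero_iff hL s h ht hf).2 hmem); omega) hfin.toFinset
    (fun ζ => hfin.mem_toFinset)
  have hlen : Module.length (X.presheaf.stalk x) (↥(X.presheaf.stalk x) ⧸ Ideal.span {f}) =
      Module.length (X.presheaf.stalk x) (O.presheaf.stalk x ⧸ f • (⊤ : Submodule (X.presheaf.stalk x) (O.presheaf.stalk x))) := by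
    refine (Submodule.Quotient.equiv (Ideal.span {f}) _
      (LinearEquiv.ofBijective (LinearMap.toSpanSingleton (X.presheaf.stalk x) _ (e x)) (he x)) ?_).length_eq
    ext m
    simp only [Submodule.mem_map, Ideal.mem_span_singleton', Submodule.mem_smul_pointwise_iff_exists]
    constructor
    · rintro ⟨_, ⟨a, rfl⟩, rfl⟩
      exact ⟨a • e x, Submodule.mem_top, by simp [mul_smul, smul_comm f a]⟩
    · rintro ⟨m', -, rfl⟩
      obtain ⟨a, rfl⟩ := (he x).2 m'
      exact ⟨a * f, ⟨a, rfl⟩, by simp [mul_smul, smul_comm f a]⟩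
  rw [hlen, hcut, Cyc.c1CapFun, finsum_eq_sum_of_support_subset (s := hfin.toFinset) _ fun ζ hζ => ?_]
  · refine Finset.sum_congr rfl fun ζ hζ => ?_
    obtain ⟨h, hd, -⟩ := hfin.mem_toFinset.1 hζ
    have hnot : f ∉ primeOf h := fun hmem => by have := hZ ζ ((gcls_eq_zero_iff hL s h ht hf).2 hmem); omega
    rw [CycCut.summand, dif_pos h, length_structureModule, show α ζ = _ from subschemeFun_id (δ := δ) (k + 1) ζ, if_pos hd,
      secDivFun_gcls hδ hL s h (by omega) ht hf, ordAt_eq_sub hδ h (by omega) hnot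
        (fun h1 => (inferInstance : (primeOf h).IsPrime).ne_top ((Ideal.eq_top_iff_one _).2 h1)) (by rw [map_one, mul_one]),
      map_one, Ring.ord_of_isUnit isUnit_one, ENat.toNat_zero, Nat.cast_zero, sub_zero]
  · exact Finset.mem_coe.2 (hfin.mem_toFinset.2 ⟨(secDivFun_ne_zero (right_ne_zero_of_mul hζ)).1,
      hα ζ (left_ne_zero_of_mul hζ), hnt ζ⟩)

end GrothLib.C1
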