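import Groth.Agent.Lib.C1.Ops

/-!
The Gysin choice of sections, and transfer to a closed subscheme.
-/

set_option autoImplicit false
universe u

open CategoryTheory AlgebraicGeometry

namespace GrothLib.C1

open IsLocalRing GrothLib GrothLib.CycDiv GrothLib.Ref1

variable {X : Scheme.{u}} {L : X.Modules}

/-- The value of a global section in a fibre. -/
noncomputable abbrev gcls (s : L.presheaf.obj (Opposite.op ⊤)) (x : X) : Cyc.secFibre L x :=
  cls ((L.presheaf.germ ⊤ x trivial) s)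

theorem gysinChoice_pos {s : L.presheaf.obj (Opposite.op ⊤)} (w : (ξ : X) → Cyc.secFibre L ξ) {x : X}
    (h : gcls s x ≠ 0) : Cyc.gysinChoice L s w x = gcls s x := if_pos h

theorem gysinChoice_neg {s : L.presheaf.obj (Opposite.op ⊤)} (w : (ξ : X) → Cyc.secFibre L ξ) {x : X}
    (h : gcls s x = 0) : Cyc.gysinChoice L s w x = w x := if_neg fun h' => h' h

theorem gysinChoice_ne_zero {s : L.presheaf.obj (Opposite.op ⊤)} {w : (ξ : X) → Cyc.secFibre L ξ}
    (hw : ∀ ξ, w ξ ≠ 0) (x : X) : Cyc.gysinChoice L s w x ≠ 0 := by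
  by_cases h : gcls s x = 0
  · rw [gysinChoice_neg w h]; exact hw x
  · rw [gysinChoice_pos w h]; exact h

theorem gcls_ne_zero_of_spec (hL : PicF.IsInvertible L) {s : L.presheaf.obj (Opposite.op ⊤)} {z ξ : X} (h : ξ ⤳ z)
    (hz : gcls s z ≠ 0) : gcls s ξ ≠ 0 := by
  have hg := gen_sp hL h (gen_of_cls_ne_zero hL hz)
  intro h0
  refine one_ne_zero (α := X.residueField ξ) ?_
  rw [← coord_cls hg, sp_germ, show cls ((L.presheaf.germ ⊤ ξ _) s) = (0 : Cyc.secFibre L ξ) from h0,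
    ← sp_germ L h (U := ⊤) trivial, ← zero_smul (X.presheaf.stalk ξ) (cls (sp L h _)), coord_smul_cls hg, map_zero]

theorem secOn_gysin (hL : PicF.IsInvertible L) {s : L.presheaf.obj (Opposite.op ⊤)} (w : (ξ : X) → Cyc.secFibre L ξ)
    {z : X} (hz : gcls s z ≠ 0) : SecOn (Cyc.gysinChoice L s w) z := fun ξ h =>
  ⟨_, gen_of_cls_ne_zero hL hz, (gysinChoice_pos w hz).symm, by
    rw [gysinChoice_pos w (gcls_ne_zero_of_spec hL h hz), sp_germ]⟩

variable {D : Scheme.{u}} (i : D ⟶ X) [IsClosedImmersion i] {s : L.presheaf.obj (Opposite.op ⊤)}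

omit [IsClosedImmersion i] in
theorem mem_range_iff (hD : Cyc.IsZeroSchemeOf i L s) {z : X} : z ∈ Set.range i ↔ gcls s z = 0 := by
  rw [hD.1]
  rfl

variable [IsLocallyNoetherian X] {δ : X → ℤ}

theorem lf_comp {a : X → ℤ} (ha : LF a) : LF fun d : D => a (i d) := fun d => by
  obtain ⟨U, hx, hfin⟩ := ha (i d)
  exact ⟨i ⁻¹ᵁ U, hx, (hfin.preimage i.isClosedEmbedding.injective.injOn).subset fun y hy => ⟨hy.1, hy.2⟩⟩

/-- A family supported on a closed subscheme restricts to it. -/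
theorem rz_restrict (hδ : Cyc.IsDimFun X δ) {k : ℤ} {F : (z : X) → X.residueField z} (h1 : ∀ z, F z ≠ 0)
    (h2 : ∀ x : X, ∃ U : X.Opens, x ∈ U ∧ {z | z ∈ U ∧ F z ≠ 1}.Finite) (h3 : ∀ z, F z ≠ 1 → δ z = k + 1)
    (h4 : ∀ z, F z ≠ 1 → z ∈ Set.range i) {a : D → ℤ} (ha : ∀ d, a d = ∑ᶠ z, Cyc.divFun δ z (F z) (i d)) :
    RZ (fun d => δ (i d)) k a := by
  haveI : IsLocallyNoetherian D := LocallyOfFiniteType.isLocallyNoetherian i
  have hδD : Cyc.IsDimFun D (fun d => δ (i d)) := CycPush.isDimFun_closedImmersion i hδ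
  refine ⟨fun d => i.residueFieldMap d (F (i d)), fun d => (map_ne_zero _).2 (h1 _), fun d => ?_, fun d hd => ?_, fun d => ?_⟩
  · obtain ⟨U, hx, hfin⟩ := h2 (i d)
    exact ⟨i ⁻¹ᵁ U, hx, (hfin.preimage i.isClosedEmbedding.injective.injOn).subset fun y hy =>
      ⟨hy.1, fun e => hy.2 (by show i.residueFieldMap y (F (i y)) = 1; rw [e, map_one])⟩⟩
  · exact h3 _ fun e => hd (by show i.residueFieldMap d (F (i d)) = 1; rw [e, map_one])
  · rw [ha, ← finsum_mem_univ, finsum_mem_inter_support_eq' _ Set.univ (Set.range i) fun z hz => ⟨fun _ => h4 z fun e => hz (by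
        show Cyc.divFun δ z (F z) (i d) = 0; rw [e, divFun_one hδ]), fun _ => Set.mem_univ _⟩,
      finsum_mem_range i.isClosedEmbedding.injective]
    exact finsum_congr fun c => (CycPush.divFun_preimmersion i hδ hδD c d (h1 _)).symm

/-- Classes with the Gysin choice of a cycle rationally equivalent to zero. -/
theorem rz_gysin (hδ : Cyc.IsDimFun X δ) (hL : PicF.IsInvertible L) (hD : Cyc.IsZeroSchemeOf i L s) {k : ℤ} {a : X → ℤ}
    (ha : RZ δ (k + 1) a) {w : (ξ : X) → Cyc.secFibre L ξ} (hw : ∀ ξ, w ξ ≠ 0) :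
    RZ (fun d => δ (i d)) k (fun d => Cyc.c1CapFun δ L a (Cyc.gysinChoice L s w) (i d)) := by
  obtain ⟨F, h1, h2, h3, h5, h4⟩ := exists_c1Cap_family hδ hL ha (gysinChoice_ne_zero (s := s) hw)
  refine rz_restrict i hδ h1 h2 h3 (fun z hz => ?_) fun d => h4 (i d)
  rw [mem_range_iff i hD]
  exact by_contra fun h => hz (h5 z (secOn_gysin hL w h))

end GrothLib.C1
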