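import Groth.Agent.Lib.C1.Fibre

/-!
The symbol at a codimension one point and the vanishing of its divisor.
-/

set_option autoImplicit false
universe u

open CategoryTheory AlgebraicGeometry

namespace GrothLib.C1

open IsLocalRing GrothLib GrothLib.CycDiv GrothLib.Ref1

variable {X : Scheme.{u}} {x ζ ξ : X}

noncomputable instance (h : ξ ⤳ x) : IsLocalRing (Cyc.LocQuot x ξ h) :=
  IsLocalRing.of_surjective' (Ideal.Quotient.mk _) Ideal.Quotient.mk_surjective

instance (h : ξ ⤳ x) : IsFractionRing (Cyc.LocQuot x ξ h) (X.residueField ξ) := isFractionRing_locQuot h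

instance [IsLocallyNoetherian X] (h : ξ ⤳ x) : IsNoetherianRing (Cyc.LocQuot x ξ h) :=
  isNoetherianRing_of_surjective _ _ (Ideal.Quotient.mk _) Ideal.Quotient.mk_surjective

theorem primeOf_le (h : ξ ⤳ ζ) (h' : ζ ⤳ x) : primeOf (h.trans h') ≤ primeOf h' := by
  intro a ha
  rw [mem_primeOf_iff] at ha ⊢
  rw [show (X.presheaf.stalkSpecializes (h.trans h')).hom a = spR h (spR h' a) from (spR_spR h h' a).symm] at ha
  rw [mem_maximalIdeal, mem_nonunits_iff] at ha ⊢
  exact fun hu => ha (hu.map _)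

theorem primeOf_le_maximal (h : ξ ⤳ ζ) : primeOf h ≤ maximalIdeal (X.presheaf.stalk ζ) :=
  le_maximalIdeal (Ideal.IsPrime.ne_top inferInstance)

/-- The residue map of the curve to `κ(ζ)`. -/
noncomputable def resHom (h : ξ ⤳ ζ) : Cyc.LocQuot ζ ξ h →+* X.residueField ζ :=
  Ideal.Quotient.lift _ (X.residue ζ).hom fun _ ha => (residue_eq_zero_iff _).2 (primeOf_le_maximal h ha)

instance (h : ξ ⤳ ζ) : IsLocalHom (resHom h) := ⟨fun a ha => by
  obtain ⟨a, rfl⟩ := Ideal.Quotient.mk_surjective a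
  refine IsUnit.map (Ideal.Quotient.mk _) ?_
  by_contra hu
  exact ha.ne_zero ((residue_eq_zero_iff _).2 hu)⟩

/-- The residue field of the curve at `ζ`, mapped to `κ(ζ)`. -/
noncomputable def toKappa (h : ξ ⤳ ζ) : ResidueField (Cyc.LocQuot ζ ξ h) →+* X.residueField ζ :=
  IsLocalRing.ResidueField.lift (resHom h)

theorem toKappa_residue (h : ξ ⤳ ζ) (a : X.presheaf.stalk ζ) :
    toKappa h (residue _ (Ideal.Quotient.mk _ a)) = X.residue ζ a := rfl

/-- The symbol of two rational functions at a point of codimension one. -/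
noncomputable def symb (h : ξ ⤳ ζ) (f g : X.residueField ξ) : X.residueField ζ :=
  toKappa h (tameK (Cyc.LocQuot ζ ξ h) (X.residueField ξ) f g)

variable [IsLocallyNoetherian X] {δ : X → ℤ} (hδ : Cyc.IsDimFun X δ)

include hδ in
theorem dim_one (h : ξ ⤳ ζ) (hd : δ ζ + 1 = δ ξ) : ringKrullDim (Cyc.LocQuot ζ ξ h) = 1 := by
  rw [GrothLib.CycBasic.ringKrullDim_locQuot hδ ζ ξ h, show (δ ξ - δ ζ).toNat = 1 from by omega]
  rfl

include hδ in
theorem symb_ne_zero (h : ξ ⤳ ζ) (hd : δ ζ + 1 = δ ξ) {f g : X.residueField ξ} (hf : f ≠ 0) (hg : g ≠ 0) :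
    symb h f g ≠ 0 :=
  (map_ne_zero _).2 (tameK_ne_zero (dim_one hδ h hd) hf hg)

include hδ in
theorem symb_units (h : ξ ⤳ ζ) (hd : δ ζ + 1 = δ ξ) {f g : X.residueField ξ} (hf : f ≠ 0) (hg : g ≠ 0)
    {u v : X.presheaf.stalk ζ} (hu : IsUnit u) (hv : IsUnit v) :
    symb h (Cyc.specMap ζ ξ h u * f) (Cyc.specMap ζ ξ h v * g) =
      symb h f g * X.residue ζ u ^ Cyc.ordAt ζ ξ h g / X.residue ζ v ^ Cyc.ordAt ζ ξ h f := by
  have := congrArg (toKappa h) (tameK_units (dim_one hδ h hd) hf hg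
    (hu.map (Ideal.Quotient.mk (primeOf h))).unit (hv.map (Ideal.Quotient.mk (primeOf h))).unit)
  rw [map_div₀, map_mul, map_zpow₀, map_zpow₀, IsUnit.unit_spec, IsUnit.unit_spec, toKappa_residue, toKappa_residue] at this
  exact this

section dimTwo

variable (hξ : ξ ⤳ x) (hd2 : δ ξ = δ x + 2)

include hδ hd2 in
theorem dim_two : ringKrullDim (Cyc.LocQuot x ξ hξ) = 2 := by
  rw [GrothLib.CycBasic.ringKrullDim_locQuot hδ x ξ hξ, show (δ ξ - δ x).toNat = 2 from by omega]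
  rfl

/-- The prime of an intermediate point. -/
noncomputable def primeBar (h : ξ ⤳ ζ) (h' : ζ ⤳ x) (hξ : ξ ⤳ x) : PrimeSpectrum (Cyc.LocQuot x ξ hξ) :=
  ⟨RingHom.ker (Ideal.Quotient.lift (primeOf hξ) (Cyc.specMap x ζ h') fun _ ha => primeOf_le h h' ha),
    RingHom.ker_isPrime _⟩

omit [IsLocallyNoetherian X] in
theorem mk_mem_primeBar (h : ξ ⤳ ζ) (h' : ζ ⤳ x) (a : X.presheaf.stalk x) :
    Ideal.Quotient.mk _ a ∈ (primeBar h h' hξ).asIdeal ↔ a ∈ primeOf h' := Iff.rfl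

omit [IsLocallyNoetherian X] in
theorem comap_primeBar (h : ξ ⤳ ζ) (h' : ζ ⤳ x) :
    (primeBar h h' hξ).asIdeal.comap (Ideal.Quotient.mk _) = primeOf h' := rfl

omit [IsLocallyNoetherian X] in
theorem point_primeOf (h' : ζ ⤳ x) : X.fromSpecStalk x ⟨primeOf h', inferInstance⟩ = ζ := by
  rw [show (⟨primeOf h', inferInstance⟩ : PrimeSpectrum (X.presheaf.stalk x)) = PrimeSpectrum.comap
      (X.presheaf.stalkSpecializes h').hom (closedPoint _) from PrimeSpectrum.ext (CycBasic.ker_specMap h')]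
  exact CycBasic.fromSpecStalk_comap_closedPoint h'

include hδ hd2 in
theorem bijOn_primeBar :
    ∃ F : X → PrimeSpectrum (Cyc.LocQuot x ξ hξ),
      Set.BijOn F {ζ | ξ ⤳ ζ ∧ ζ ⤳ x ∧ δ ζ = δ x + 1} {q | q.asIdeal.height = 1} ∧
        ∀ (ζ : X) (h : ξ ⤳ ζ) (h' : ζ ⤳ x), F ζ = primeBar h h' hξ := by
  classical
  haveI : Nontrivial (Cyc.LocQuot x ξ hξ) := inferInstance
  let F : X → PrimeSpectrum (Cyc.LocQuot x ξ hξ) := fun ζ =>
    if h : ξ ⤳ ζ ∧ ζ ⤳ x then primeBar h.1 h.2 hξ else ⟨⊥, Ideal.isPrime_bot⟩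
  have hF : ∀ (ζ : X) (h : ξ ⤳ ζ) (h' : ζ ⤳ x), F ζ = primeBar h h' hξ := fun ζ h h' => dif_pos ⟨h, h'⟩
  refine ⟨F, ⟨fun ζ ⟨h, h', hζ⟩ => ?_, fun ζ ⟨h, h', hζ⟩ ζ' ⟨g, g', hζ'⟩ he => ?_, fun q hq => ?_⟩, hF⟩
  · show (F ζ).asIdeal.height = 1
    rw [hF ζ h h']
    have hmax : (maximalIdeal (Cyc.LocQuot x ξ hξ)).height = 2 :=
      WithBot.coe_injective (maximalIdeal_height_eq_ringKrullDim.trans (dim_two hδ hξ hd2))
    set q := (primeBar h h' hξ).asIdeal
    haveI : q.FiniteHeight := q.finiteHeight_iff.2 (Or.inr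
      (ne_top_of_le_ne_top (b := (2 : ℕ∞)) (by decide) (hmax ▸ Ideal.height_mono (le_maximalIdeal (primeBar h h' hξ).isPrime.ne_top))))
    refine le_antisymm (Order.le_of_lt_add_one ?_) ?_
    · refine lt_of_lt_of_le (Ideal.height_strict_mono_of_isPrime (lt_of_le_of_ne
        (le_maximalIdeal (primeBar h h' hξ).isPrime.ne_top) fun e => ?_)) (le_of_eq (by rw [hmax]; rfl))
      have hP : primeOf h' = maximalIdeal (X.presheaf.stalk x) := by
        haveI : IsLocalHom (Ideal.Quotient.mk (primeOf hξ)) := IsLocalHom.of_surjective _ Ideal.Quotient.mk_surjective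
        rw [← comap_primeBar hξ h h', show (primeBar h h' hξ).asIdeal = _ from e]
        exact maximalIdeal_comap _
      have := point_primeOf h'
      rw [show (⟨primeOf h', inferInstance⟩ : PrimeSpectrum (X.presheaf.stalk x)) = closedPoint _ from PrimeSpectrum.ext hP,
        Scheme.fromSpecStalk_closedPoint] at this
      subst this
      omega
    · rw [ENat.one_le_iff_ne_zero, Ne, Ideal.height_eq_zero_iff, IsDomain.minimalPrimes_eq_singleton_bot, Set.mem_singleton_iff]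
      intro e
      have hle : primeOf h' ≤ primeOf hξ := fun a ha => by
        have : Ideal.Quotient.mk (primeOf hξ) a ∈ (primeBar h h' hξ).asIdeal := ha
        rw [show (primeBar h h' hξ).asIdeal = ⊥ from e, Ideal.mem_bot] at this
        exact Ideal.Quotient.eq_zero_iff_mem.1 this
      have hs := (CycBasic.le_iff_specializes (P := (⟨primeOf h', inferInstance⟩ : PrimeSpectrum _))
        (Q := ⟨primeOf hξ, inferInstance⟩)).1 hle
      rw [point_primeOf h', point_primeOf hξ] at hs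
      have h1 := CycBasic.delta_le hδ hs
      omega
  · have hP : primeOf h' = primeOf g' := by
      rw [← comap_primeBar hξ h h', ← comap_primeBar hξ g g', ← hF ζ h h', ← hF ζ' g g', he]
    rw [← point_primeOf h', ← point_primeOf g']
    congr 1
    exact PrimeSpectrum.ext hP
  · have hq1 : q.asIdeal.height = 1 := hq
    let Q : PrimeSpectrum (X.presheaf.stalk x) := ⟨q.asIdeal.comap (Ideal.Quotient.mk (primeOf hξ)), inferInstance⟩
    have hPQ : (⟨primeOf hξ, inferInstance⟩ : PrimeSpectrum _) ≤ Q := fun a ha => by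
      show Ideal.Quotient.mk (primeOf hξ) a ∈ q.asIdeal
      rw [Ideal.Quotient.eq_zero_iff_mem.2 ha]; exact q.asIdeal.zero_mem
    have h : ξ ⤳ X.fromSpecStalk x Q := point_primeOf hξ ▸ CycBasic.le_iff_specializes.1 hPQ
    have h' : X.fromSpecStalk x Q ⤳ x := CycBasic.specializes_fromSpecStalk Q
    have hQ : primeOf h' = Q.asIdeal := congrArg PrimeSpectrum.asIdeal
      ((X.fromSpecStalk x).isEmbedding.injective (point_primeOf h' :) :
        (⟨primeOf h', inferInstance⟩ : PrimeSpectrum (X.presheaf.stalk x)) = Q)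
    have hb : primeBar h h' hξ = q := PrimeSpectrum.ext
      (Ideal.comap_injective_of_surjective _ Ideal.Quotient.mk_surjective (by rw [comap_primeBar, hQ]))
    refine ⟨_, ⟨h, h', ?_⟩, (hF _ h h').trans hb⟩
    have hlt1 : δ (X.fromSpecStalk x Q) < δ ξ := (hδ _ _ h fun e => by
      have : primeOf hξ = Q.asIdeal := congrArg PrimeSpectrum.asIdeal
        ((X.fromSpecStalk x).isEmbedding.injective ((point_primeOf hξ).trans e) :
          (⟨primeOf hξ, inferInstance⟩ : PrimeSpectrum (X.presheaf.stalk x)) = Q)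
      have hq0 : q.asIdeal = ⊥ := by
        rw [← Ideal.map_comap_of_surjective _ Ideal.Quotient.mk_surjective q.asIdeal,
          show q.asIdeal.comap (Ideal.Quotient.mk (primeOf hξ)) = primeOf hξ from this.symm, Ideal.map_quotient_self]
      rw [hq0, Ideal.height_bot] at hq1
      exact zero_ne_one hq1).1
    have hlt2 : δ x < δ (X.fromSpecStalk x Q) := (hδ _ _ h' fun e => by
      have : primeOf h' = maximalIdeal (X.presheaf.stalk x) := hQ.trans (congrArg PrimeSpectrum.asIdeal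
        ((X.fromSpecStalk x).isEmbedding.injective (e.trans (Scheme.fromSpecStalk_closedPoint (X := X) (x := x)).symm) :
          Q = closedPoint (X.presheaf.stalk x)))
      have hqm : q.asIdeal = maximalIdeal _ := IsLocalRing.eq_maximalIdeal (by
        rw [← Ideal.map_comap_of_surjective _ Ideal.Quotient.mk_surjective q.asIdeal,
          show q.asIdeal.comap (Ideal.Quotient.mk (primeOf hξ)) = maximalIdeal _ from (hQ.symm.trans this)]
        exact (Ideal.map_eq_top_or_isMaximal_of_surjective _ Ideal.Quotient.mk_surjective inferInstance).resolve_left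
          fun ht => q.isPrime.ne_top (by
            rw [← Ideal.map_comap_of_surjective _ Ideal.Quotient.mk_surjective q.asIdeal,
              show q.asIdeal.comap (Ideal.Quotient.mk (primeOf hξ)) = maximalIdeal _ from (hQ.symm.trans this), ht]))
      rw [hqm] at hq1
      have := (maximalIdeal_height_eq_ringKrullDim (R := Cyc.LocQuot x ξ hξ)).symm.trans
        (congrArg (fun n : ℕ∞ => (n : WithBot ℕ∞)) hq1)
      rw [dim_two hδ hξ hd2] at this
      exact absurd this (by decide)).1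
    omega

include hδ hd2 in
theorem ord_symb_eq (h : ξ ⤳ ζ) (h' : ζ ⤳ x) (hζ : δ ζ = δ x + 1) {a c : X.presheaf.stalk x}
    (ha : a ∉ primeOf hξ) (hc : c ∉ primeOf hξ) :
    Cyc.ordAt x ζ h' (toKappa h (CycAlg.tameSymbol (Cyc.LocQuot ζ ξ h) (Ideal.Quotient.mk (primeOf h) (spR h' a))
        (Ideal.Quotient.mk (primeOf h) (spR h' c)))) =
      CycAlg.ordFrac (Cyc.LocQuot x ξ hξ ⧸ (primeBar h h' hξ).asIdeal) (primeBar h h' hξ).asIdeal.ResidueField
        (CycAlg.tameSymbol (Localization.AtPrime (primeBar h h' hξ).asIdeal)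
          (algebraMap _ _ (Ideal.Quotient.mk (primeOf hξ) a)) (algebraMap _ _ (Ideal.Quotient.mk (primeOf hξ) c))) := by
  let B := Cyc.LocQuot x ξ hξ
  let q := (primeBar h h' hξ).asIdeal
  let A := Cyc.LocQuot ζ ξ h
  have hpsi : ∀ r ∈ primeOf hξ, Ideal.Quotient.mk (primeOf h) (spR h' r) = 0 := fun r hr =>
    Ideal.Quotient.eq_zero_iff_mem.2 (by
      rw [mem_primeOf_iff]
      show spR h (spR h' r) ∈ _
      rw [spR_spR]
      exact (mem_primeOf_iff hξ r).1 hr)
  let φ : B →+* A := Ideal.Quotient.lift (primeOf hξ) ((Ideal.Quotient.mk (primeOf h)).comp (spR h')) hpsi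
  letI : Algebra B A := φ.toAlgebra
  haveI : IsLocalHom (Ideal.Quotient.mk (primeOf h)) := IsLocalHom.of_surjective _ Ideal.Quotient.mk_surjective
  have hres : ∀ r : X.presheaf.stalk x, IsUnit (φ (Ideal.Quotient.mk _ r)) ↔ r ∉ primeOf h' := fun r => by
    show IsUnit (Ideal.Quotient.mk (primeOf h) (spR h' r)) ↔ _
    rw [isUnit_map_iff, mem_primeOf_iff, mem_maximalIdeal, mem_nonunits_iff, not_not]
  have hspec : ∀ r : B, algebraMap A (X.residueField ξ) (φ r) = algebraMap B (X.residueField ξ) r := fun r => by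
    obtain ⟨r, rfl⟩ := Ideal.Quotient.mk_surjective r
    show X.residue ξ (spR h (spR h' r)) = X.residue ξ (spR hξ r)
    rw [spR_spR]
  haveI : IsLocalization.AtPrime A q := by
    refine ⟨fun ⟨r, hr⟩ => ?_, fun z => ?_, fun {r s} he => ⟨1, ?_⟩⟩
    · obtain ⟨r, rfl⟩ := Ideal.Quotient.mk_surjective r
      exact (hres r).2 hr
    · obtain ⟨z, rfl⟩ := Ideal.Quotient.mk_surjective z
      letI := (X.presheaf.stalkSpecializes h').hom.toAlgebra
      haveI := isLocalization_stalkSpecializes h'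
      obtain ⟨⟨r, s⟩, hrs⟩ := IsLocalization.surj (primeOf h').primeCompl z
      refine ⟨⟨Ideal.Quotient.mk _ r, ⟨Ideal.Quotient.mk _ (s : X.presheaf.stalk x), fun hm => s.2 hm⟩⟩, ?_⟩
      exact congrArg (Ideal.Quotient.mk (primeOf h)) hrs
    · rw [OneMemClass.coe_one, one_mul, one_mul]
      refine injective_algebraMap_locQuot hξ ?_
      rw [← hspec, ← hspec]
      exact congrArg _ he
  have hA : ringKrullDim A = 1 := dim_one hδ h (by omega)
  haveI : Ring.KrullDimLE 1 A := Ring.krullDimLE_iff.2 hA.le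
  let e : Localization.AtPrime q ≃+* A := (IsLocalization.algEquiv q.primeCompl (Localization.AtPrime q) A).toRingEquiv
  have he : ∀ r : B, e (algebraMap B (Localization.AtPrime q) r) = φ r := fun r =>
    (IsLocalization.algEquiv q.primeCompl (Localization.AtPrime q) A).commutes r
  haveI : Ring.KrullDimLE 1 (Localization.AtPrime q) := Ring.krullDimLE_iff.2 (by
    rw [ringKrullDim_eq_of_ringEquiv e, hA]; rfl)
  have hnz : ∀ {r : X.presheaf.stalk x}, r ∉ primeOf hξ →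
      algebraMap B (Localization.AtPrime q) (Ideal.Quotient.mk _ r) ∈ nonZeroDivisors (Localization.AtPrime q) := fun hr =>
    IsLocalization.map_nonZeroDivisors_le q.primeCompl _ (Submonoid.mem_map_of_mem _
      (mem_nonZeroDivisors_of_ne_zero fun h0 => hr (Ideal.Quotient.eq_zero_iff_mem.1 h0)))
  have hequiv := congrArg (toKappa h) (tameSymbol_equiv e (hnz ha) (hnz hc))
  rw [he, he] at hequiv
  let ε : q.ResidueField →+* X.residueField ζ := (toKappa h).comp (ResidueField.map (e : Localization.AtPrime q →+* A))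
  let ψ₀ : B →+* Cyc.LocQuot x ζ h' := Ideal.Quotient.lift (primeOf hξ) (Ideal.Quotient.mk (primeOf h'))
    fun r hr => Ideal.Quotient.eq_zero_iff_mem.2 (primeOf_le h h' hr)
  have hψ : RingHom.ker ψ₀ = q := by
    ext r
    obtain ⟨r, rfl⟩ := Ideal.Quotient.mk_surjective r
    exact Ideal.Quotient.eq_zero_iff_mem
  let ψ : B ⧸ q ≃+* Cyc.LocQuot x ζ h' := (Ideal.quotEquivOfEq hψ.symm).trans
    (RingHom.quotientKerEquivOfSurjective (fun z => by
      obtain ⟨z, rfl⟩ := Ideal.Quotient.mk_surjective z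
      exact ⟨Ideal.Quotient.mk _ z, rfl⟩ : Function.Surjective ψ₀))
  haveI : Ring.KrullDimLE 1 (Cyc.LocQuot x ζ h') := krullDimLE_locQuot hδ h' (by omega)
  haveI : Ring.KrullDimLE 1 (B ⧸ q) := Ring.krullDimLE_iff.2 (by
    rw [ringKrullDim_eq_of_ringEquiv ψ]; exact Ring.krullDimLE_iff.1 inferInstance)
  have key := ordFrac_congr ψ ε (fun r => by
    obtain ⟨r, rfl⟩ := Ideal.Quotient.mk_surjective r
    obtain ⟨r, rfl⟩ := Ideal.Quotient.mk_surjective r
    show toKappa h (residue A (e (algebraMap B (Localization.AtPrime q) (Ideal.Quotient.mk (primeOf hξ) r)))) = Cyc.specMap x ζ h' r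
    rw [he]
    rfl) (CycAlg.tameSymbol (Localization.AtPrime q) (algebraMap _ _ (Ideal.Quotient.mk (primeOf hξ) a)) (algebraMap _ _ (Ideal.Quotient.mk (primeOf hξ) c)))
  rw [← key]
  show _ = Cyc.ordAt x ζ h' _
  rw [show ε _ = _ from hequiv]
  rfl

open Classical in
/-- The summand of the divisor of the symbol. -/
noncomputable def symOrd (δ : X → ℤ) (x : X) (f g : X.residueField ξ) (ζ : X) : ℤ :=
  if h : ξ ⤳ ζ ∧ ζ ⤳ x ∧ δ ζ = δ x + 1 then Cyc.ordAt x ζ h.2.1 (symb h.1 f g) else 0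

include hδ hd2 in
/-- The divisor of the symbol vanishes in dimension two. -/
theorem sum_symOrd_eq_zero {f g : X.residueField ξ} (hf : f ≠ 0) (hg : g ≠ 0) (hξ : ξ ⤳ x) :
    (Function.support (symOrd δ x f g)).Finite ∧ ∑ᶠ ζ, symOrd δ x f g ζ = 0 := by
  classical
  let B := Cyc.LocQuot x ξ hξ
  let K := X.residueField ξ
  obtain ⟨a, b, hb, hab⟩ := exists_frac hξ f
  obtain ⟨c, d, hd, hcd⟩ := exists_frac hξ g
  have hne : ∀ {r : X.presheaf.stalk x}, r ∉ primeOf hξ → Cyc.specMap x ξ hξ r ≠ 0 := fun hr h0 => hr h0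
  have ha : a ∉ primeOf hξ := fun h => mul_ne_zero hf (hne hb) (hab.trans h)
  have hc : c ∉ primeOf hξ := fun h => mul_ne_zero hg (hne hd) (hcd.trans h)
  have hB2 := dim_two hδ hξ hd2
  obtain ⟨F, hF, hFeq⟩ := bijOn_primeBar hδ hξ hd2
  let Φ : B → B → PrimeSpectrum B → ℤ := fun r s q => CycAlg.ordFrac (B ⧸ q.asIdeal) q.asIdeal.ResidueField
    (CycAlg.tameSymbol (Localization.AtPrime q.asIdeal) (algebraMap B _ r) (algebraMap B _ s))
  have m : ∀ {r : X.presheaf.stalk x}, r ∉ primeOf hξ → (Ideal.Quotient.mk (primeOf hξ) r : B) ∈ nonZeroDivisors B :=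
    fun hr => mem_nonZeroDivisors_of_ne_zero fun h0 => hr (Ideal.Quotient.eq_zero_iff_mem.1 h0)
  have hsum : ∀ {r s : B}, r ∈ nonZeroDivisors B → s ∈ nonZeroDivisors B →
      ∑ᶠ q ∈ {q : PrimeSpectrum B | q.asIdeal.height = 1}, Φ r s q = 0 := fun hr hs =>
    Groth.Agent.S1851.result B hB2 _ _ hr hs
  have hfin : ∀ {r s : B}, r ∈ nonZeroDivisors B → s ∈ nonZeroDivisors B →
      ({q : PrimeSpectrum B | q.asIdeal.height = 1} ∩ Function.support (Φ r s)).Finite := by
    intro r s hr hs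
    obtain ⟨T, hT⟩ := Tame.exists_curves (Tame.curveRing_of_dim hB2.le) (mul_mem hr hs)
    refine T.finite_toSet.subset fun q ⟨hq, hΦ⟩ => ?_
    refine (hT q).2 ⟨fun hm => ?_, ?_⟩
    · have hq' : q.asIdeal.height = 1 := hq
      rw [IsLocalRing.eq_maximalIdeal hm] at hq'
      have := (maximalIdeal_height_eq_ringKrullDim (R := B)).symm.trans (congrArg (fun n : ℕ∞ => (n : WithBot ℕ∞)) hq')
      rw [hB2] at this
      exact absurd this (by decide)
    · by_contra hm
      refine hΦ ?_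
      show CycAlg.ordFrac _ _ _ = 0
      rw [Groth.Agent.S1849.tameSymbol_of_isUnit
        (IsLocalization.map_units (Localization.AtPrime q.asIdeal) (⟨r, fun h => hm (q.asIdeal.mul_mem_right _ h)⟩ : q.asIdeal.primeCompl))
        (IsLocalization.map_units (Localization.AtPrime q.asIdeal) (⟨s, fun h => hm (q.asIdeal.mul_mem_left _ h)⟩ : q.asIdeal.primeCompl))]
      by_cases hh : IsNoetherianRing (B ⧸ q.asIdeal) ∧ Ring.KrullDimLE 1 (B ⧸ q.asIdeal) ∧ Nontrivial (B ⧸ q.asIdeal) ∧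
          IsFractionRing (B ⧸ q.asIdeal) q.asIdeal.ResidueField
      · haveI := hh.2.1
        exact Groth.Agent.S1851.ordFrac_one
      · rw [CycAlg.ordFrac, dif_neg hh]
  set S : Set X := {ζ | ξ ⤳ ζ ∧ ζ ⤳ x ∧ δ ζ = δ x + 1}
  let mk := Ideal.Quotient.mk (primeOf hξ)
  have hterm : ∀ ζ ∈ S, symOrd δ x f g ζ = Φ (mk a) (mk c) (F ζ) + Φ (mk b) (mk d) (F ζ) -
      (Φ (mk a) (mk d) (F ζ) + Φ (mk b) (mk c) (F ζ)) := by
    intro ζ hζ
    obtain ⟨h, h', hd'⟩ := hζ
    have hA : ringKrullDim (Cyc.LocQuot ζ ξ h) = 1 := dim_one hδ h (by omega)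
    have hn : ∀ {r : X.presheaf.stalk x}, r ∉ primeOf hξ → (Ideal.Quotient.mk (primeOf h) (spR h' r)) ≠ 0 := by
      intro r hr h0
      refine hr ?_
      rw [mem_primeOf_iff, show (X.presheaf.stalkSpecializes hξ).hom r = spR h (spR h' r) from (spR_spR h h' r).symm]
      exact (mem_primeOf_iff h _).1 (Ideal.Quotient.eq_zero_iff_mem.1 h0)
    have hsp : ∀ r : X.presheaf.stalk x, algebraMap (Cyc.LocQuot ζ ξ h) K (Ideal.Quotient.mk (primeOf h) (spR h' r)) =
        Cyc.specMap x ξ hξ r := fun r => by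
      show X.residue ξ (spR h (spR h' r)) = X.residue ξ (spR hξ r)
      rw [spR_spR]
    have hK := tameK_eq hA (f := f) (g := g) (hn ha) (hn hb) (hn hc) (hn hd) (by rw [hsp, hsp, hab]) (by rw [hsp, hsp, hcd])
    rw [symOrd, dif_pos ⟨h, h', hd'⟩, symb, hK, map_div₀, map_mul, map_mul]
    have hne' : ∀ {r s : X.presheaf.stalk x}, r ∉ primeOf hξ → s ∉ primeOf hξ → toKappa h (CycAlg.tameSymbol
        (Cyc.LocQuot ζ ξ h) (Ideal.Quotient.mk (primeOf h) (spR h' r)) (Ideal.Quotient.mk (primeOf h) (spR h' s))) ≠ 0 :=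
      fun hr hs => (map_ne_zero _).2 (sym_ne_zero hA (hn hr) (hn hs))
    haveI := krullDimLE_locQuot hδ h' (show δ x + 1 = δ ζ by omega)
    rw [Cyc.ordAt, Groth.Agent.S1851.ordFrac_div (mul_ne_zero (hne' ha hc) (hne' hb hd)) (mul_ne_zero (hne' ha hd) (hne' hb hc)),
      CycPush.ordFrac_mul _ (hne' ha hc) (hne' hb hd), CycPush.ordFrac_mul _ (hne' ha hd) (hne' hb hc), hFeq ζ h h']
    exact congrArg₂ (· - ·) (congrArg₂ (· + ·) (ord_symb_eq hδ hξ hd2 h h' hd' ha hc) (ord_symb_eq hδ hξ hd2 h h' hd' hb hd))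
      (congrArg₂ (· + ·) (ord_symb_eq hδ hξ hd2 h h' hd' ha hd) (ord_symb_eq hδ hξ hd2 h h' hd' hb hc))
  have hsupp : ∀ ζ, ζ ∉ S → symOrd δ x f g ζ = 0 := fun ζ hζ => dif_neg hζ
  have hfS : ∀ {r s : B}, r ∈ nonZeroDivisors B → s ∈ nonZeroDivisors B → (S ∩ Function.support (Φ r s ∘ F)).Finite := by
    intro r s hr hs
    refine Set.Finite.of_finite_image ((hfin hr hs).subset ?_) (hF.injOn.mono Set.inter_subset_left)
    rintro _ ⟨ζ, ⟨hζ, hne0⟩, rfl⟩
    exact ⟨hF.mapsTo hζ, hne0⟩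
  have h0 : ∀ {r s : B}, r ∈ nonZeroDivisors B → s ∈ nonZeroDivisors B → ∑ᶠ ζ ∈ S, Φ r s (F ζ) = 0 := fun {r s} hr hs =>
    (finsum_mem_eq_of_bijOn F hF fun _ _ => rfl).trans (hsum hr hs)
  have f1 := hfS (m ha) (m hc)
  have f2 := hfS (m hb) (m hd)
  have f3 := hfS (m ha) (m hd)
  have f4 := hfS (m hb) (m hc)
  set U : Set X := ((S ∩ Function.support (Φ (mk a) (mk c) ∘ F)) ∪ (S ∩ Function.support (Φ (mk b) (mk d) ∘ F))) ∪
    ((S ∩ Function.support (Φ (mk a) (mk d) ∘ F)) ∪ (S ∩ Function.support (Φ (mk b) (mk c) ∘ F))) with hU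
  have hUfin : U.Finite := (f1.union f2).union (f3.union f4)
  have hUS : U ⊆ S := by
    rintro ζ ((h | h) | (h | h)) <;> exact h.1
  have hred : ∀ G : X → ℤ, (∀ ζ ∈ S, G ζ ≠ 0 → ζ ∈ U) → ∑ᶠ ζ ∈ S, G ζ = ∑ ζ ∈ hUfin.toFinset, G ζ := fun G hG => by
    rw [finsum_mem_inter_support_eq G S U (Set.ext fun ζ => ⟨fun h => ⟨hG ζ h.1 h.2, h.2⟩, fun h => ⟨hUS h.1, h.2⟩⟩),
      finsum_mem_eq_finite_toFinset_sum _ hUfin]
  have hsU : ∀ ζ, symOrd δ x f g ζ ≠ 0 → ζ ∈ U := fun ζ hζ => by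
    have hS : ζ ∈ S := by_contra fun h => hζ (hsupp ζ h)
    by_contra hn
    simp only [hU, Set.mem_union, Set.mem_inter_iff, hS, true_and, Function.mem_support, Function.comp_apply, not_or, not_not] at hn
    exact hζ (by rw [hterm ζ hS, hn.1.1, hn.1.2, hn.2.1, hn.2.2]; simp)
  refine ⟨hUfin.subset hsU, ?_⟩
  rw [finsum_eq_sum_of_support_subset (s := hUfin.toFinset) _ (by rw [Set.Finite.coe_toFinset]; exact hsU),
    Finset.sum_congr rfl fun ζ hζ => hterm ζ (hUS (hUfin.mem_toFinset.1 hζ)), Finset.sum_sub_distrib, Finset.sum_add_distrib,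
    Finset.sum_add_distrib, ← hred (fun ζ => Φ (mk a) (mk c) (F ζ)) fun ζ h h' => Or.inl (Or.inl ⟨h, h'⟩),
    ← hred (fun ζ => Φ (mk b) (mk d) (F ζ)) fun ζ h h' => Or.inl (Or.inr ⟨h, h'⟩),
    ← hred (fun ζ => Φ (mk a) (mk d) (F ζ)) fun ζ h h' => Or.inr (Or.inl ⟨h, h'⟩),
    ← hred (fun ζ => Φ (mk b) (mk c) (F ζ)) fun ζ h h' => Or.inr (Or.inr ⟨h, h'⟩),
    h0 (m ha) (m hc), h0 (m hb) (m hd), h0 (m ha) (m hd), h0 (m hb) (m hc)]
  simp

end dimTwo

end GrothLib.C1
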