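import Groth.Agent.Lib.C1.Closed

/-!
Extension by zero of rational equivalences along closed immersions.
-/

set_option autoImplicit false
universe u

open CategoryTheory AlgebraicGeometry

namespace GrothLib.C1

open GrothLib GrothLib.CycDiv

variable {X D : Scheme.{u}} (i : D ⟶ X) [IsClosedImmersion i] [IsLocallyNoetherian X] {δ : X → ℤ}

theorem cast_resInv {f : (d : D) → D.residueField d} {c d : D} (e : i d = i c) :
    (e ▸ CycPush.resInv i d (f d) : X.residueField (i c)) = CycPush.resInv i c (f c) := by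
  obtain rfl := i.isClosedEmbedding.injective e
  rfl

/-- A rational equivalence on a closed subscheme, extended by zero. -/
theorem rz_push (hδ : Cyc.IsDimFun X δ) {k : ℤ} {a : D → ℤ} (ha : RZ (fun d => δ (i d)) k a) {b : X → ℤ}
    (hb : ∀ d, b (i d) = a d) (hb0 : ∀ x, x ∉ Set.range i → b x = 0) : RZ δ k b := by
  classical
  haveI : IsLocallyNoetherian D := LocallyOfFiniteType.isLocallyNoetherian i
  have hδD : Cyc.IsDimFun D (fun d => δ (i d)) := CycPush.isDimFun_closedImmersion i hδ
  obtain ⟨f, h1, h2, h3, h4⟩ := ha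
  let G : (z : X) → X.residueField z := fun z =>
    if h : z ∈ Set.range i then (h.choose_spec ▸ CycPush.resInv i h.choose (f h.choose) : X.residueField z) else 1
  have hG : ∀ c, G (i c) = CycPush.resInv i c (f c) := fun c => by
    show dite _ _ _ = _
    rw [dif_pos ⟨c, rfl⟩]
    exact cast_resInv i _
  have hG0 : ∀ z, z ∉ Set.range i → G z = 1 := fun z hz => dif_neg hz
  have hne : ∀ c, G (i c) ≠ 1 → f c ≠ 1 := fun c hc e => hc (by
    rw [hG, e]
    refine (i.residueFieldMap c).hom.injective ?_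
    exact (CycPush.residueFieldMap_resInv i c (1 : D.residueField c)).trans (map_one _).symm)
  refine ⟨G, fun z => ?_, fun x => ?_, fun z hz => ?_, fun x => ?_⟩
  · by_cases hz : z ∈ Set.range i
    · obtain ⟨c, rfl⟩ := hz
      rw [hG]
      exact CycPush.resInv_ne_zero i (h1 c)
    · rw [hG0 z hz]
      exact one_ne_zero
  · by_cases hx : x ∈ Set.range i
    · obtain ⟨d, rfl⟩ := hx
      obtain ⟨U, hd, hfin⟩ := h2 d
      obtain ⟨V, hV, hVU⟩ := i.isClosedEmbedding.isInducing.isOpen_iff.1 U.2
      refine ⟨⟨V, hV⟩, show i d ∈ V by rw [← Set.mem_preimage, hVU]; exact hd, (hfin.image i).subset fun z hz => ?_⟩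
      obtain ⟨c, rfl⟩ : z ∈ Set.range i := by_contra fun h => hz.2 (hG0 z h)
      exact ⟨c, ⟨(Set.ext_iff.1 hVU c).1 hz.1, hne c hz.2⟩, rfl⟩
    · exact ⟨⟨(Set.range i)ᶜ, i.isClosedEmbedding.isClosed_range.isOpen_compl⟩, hx,
        Set.finite_empty.subset fun z hz => hz.2 (hG0 z hz.1)⟩
  · obtain ⟨c, rfl⟩ : z ∈ Set.range i := by_contra fun h => hz (hG0 z h)
    exact h3 c (hne c hz)
  · rw [← finsum_mem_univ, finsum_mem_inter_support_eq' _ Set.univ (Set.range i) fun z hz => ⟨fun _ => by_contra fun h => hz (by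
        show Cyc.divFun δ z (G z) x = 0; rw [hG0 z h, divFun_one hδ]), fun _ => Set.mem_univ _⟩,
      finsum_mem_range i.isClosedEmbedding.injective]
    by_cases hx : x ∈ Set.range i
    · obtain ⟨d, rfl⟩ := hx
      rw [hb, h4]
      exact finsum_congr fun c => by rw [hG, CycPush.divFun_push i hδ hδD c d (h1 c)]; rfl
    · rw [hb0 x hx, finsum_eq_zero_of_forall_eq_zero fun c => by_contra fun h =>
        hx ((divFun_ne_zero h).1.mem_closed i.isClosedEmbedding.isClosed_range ⟨c, rfl⟩)]

end GrothLib.C1
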