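import Groth.Agent.Lib.C1.Key
import Groth.Agent.Lib.CycPush.Family

/-!
Locally finite functions on points, families of principal divisors, and finiteness near a point.
-/

set_option autoImplicit false
universe u

open CategoryTheory AlgebraicGeometry

namespace GrothLib.C1

open IsLocalRing GrothLib GrothLib.CycDiv GrothLib.CycFlat

variable {X : Scheme.{u}}

/-- Support meeting a neighbourhood of each point in a finite set. -/
def LF (a : X → ℤ) : Prop := ∀ x : X, ∃ U : X.Opens, x ∈ U ∧ {y | y ∈ U ∧ a y ≠ 0}.Finite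

/-- A locally finite function as a cycle. -/
noncomputable def toCycle (a : X → ℤ) (ha : LF a) : AlgebraicCycle X ℤ where
  toFun := a
  supportWithinDomain' := Set.subset_univ _
  supportLocallyFiniteWithinDomain' := fun x _ => by
    obtain ⟨U, hx, hfin⟩ := ha x
    exact ⟨U, U.2.mem_nhds hx, hfin.subset fun y hy => ⟨hy.1, hy.2⟩⟩

@[simp]
theorem coe_toCycle (a : X → ℤ) (ha : LF a) : ⇑(toCycle a ha) = a := rfl

theorem LF.of_cycle (α : AlgebraicCycle X ℤ) : LF ⇑α := fun x => by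
  obtain ⟨t, ht, hfin⟩ := α.supportLocallyFiniteWithinDomain x (Set.mem_univ x)
  obtain ⟨U, hUt, hU, hx⟩ := mem_nhds_iff.1 ht
  exact ⟨⟨U, hU⟩, hx, hfin.subset fun y hy => ⟨hUt hy.1, hy.2⟩⟩

theorem LF.finite_gen {a : X → ℤ} (ha : LF a) (x : X) : {ξ | ξ ⤳ x ∧ a ξ ≠ 0}.Finite := by
  obtain ⟨U, hx, hfin⟩ := ha x
  exact hfin.subset fun ξ hξ => ⟨hξ.1.mem_open U.2 hx, hξ.2⟩

theorem LF.mono {a b : X → ℤ} (ha : LF a) (h : ∀ y, b y ≠ 0 → a y ≠ 0) : LF b := fun x => by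
  obtain ⟨U, hx, hfin⟩ := ha x
  exact ⟨U, hx, hfin.subset fun y hy => ⟨hy.1, h y hy.2⟩⟩

section units

/-- `f` is the image of a unit at `z`. -/
def UnitAt {ξ : X} (f : X.residueField ξ) (z : X) : Prop :=
  ∀ h : ξ ⤳ z, ∃ a : X.presheaf.stalk z, IsUnit a ∧ f = Cyc.specMap z ξ h a

theorem exists_open_unitAt {ξ : X} {f : X.residueField ξ} (hf : f ≠ 0) :
    ∃ W : X.Opens, ξ ∈ W ∧ ∀ z ∈ W, UnitAt f z := by
  obtain ⟨c, rfl⟩ := X.residue_surjective ξ f
  obtain ⟨U, hξU, s, rfl⟩ := X.presheaf.germ_exist c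
  have hu : IsUnit (X.presheaf.germ U ξ hξU s) := by
    by_contra h
    exact hf ((IsLocalRing.residue_eq_zero_iff _).2 h)
  refine ⟨X.basicOpen s, (X.mem_basicOpen _ ξ hξU).2 hu, fun z hz h => ?_⟩
  have hzU : z ∈ U := X.basicOpen_le s hz
  refine ⟨X.presheaf.germ U z hzU s, (X.mem_basicOpen _ z hzU).1 hz, ?_⟩
  show X.residue ξ _ = X.residue ξ ((X.presheaf.stalkSpecializes h).hom ((X.presheaf.germ U z hzU).hom s))
  exact congrArg (X.residue ξ).hom (congr($(X.presheaf.germ_stalkSpecializes hzU h).hom s)).symm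

theorem UnitAt.ordAt_eq_zero [IsLocallyNoetherian X] {δ : X → ℤ} (hδ : Cyc.IsDimFun X δ) {ξ z : X}
    {f : X.residueField ξ} (hf : UnitAt f z) (h : ξ ⤳ z) (hd : δ z + 1 = δ ξ) : Cyc.ordAt z ξ h f = 0 := by
  obtain ⟨a, ha, e⟩ := hf h
  exact ordAt_eq_zero_of_isUnit hδ h hd ha e

theorem exists_finite_outside [IsLocallyNoetherian X] {δ : X → ℤ} (hδ : Cyc.IsDimFun X δ) {ξ : X} (W : X.Opens)
    (hξ : ξ ∈ W) (V : X.Opens) (hV : IsAffineOpen V) :
    {z | z ∈ V ∧ ξ ⤳ z ∧ δ z + 1 = δ ξ ∧ z ∉ W}.Finite := by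
  classical
  haveI : IsNoetherianRing Γ(X, V) := IsLocallyNoetherian.component_noetherian ⟨V, hV⟩
  haveI : CompactSpace (V : Scheme.{u}) := isCompact_iff_compactSpace.1 hV.isCompact
  haveI : IsNoetherian (V : Scheme.{u}) := {}
  let Z : Set (V : Scheme.{u}) := V.ι ⁻¹' (closure {ξ} ∩ (W : Set X)ᶜ)
  have hZ : IsClosed Z := (isClosed_closure.inter W.2.isClosed_compl).preimage V.ι.continuous
  have hfin : {x : Z | ∀ y : Z, y ⤳ x → y = x}.Finite := by
    refine Set.Finite.of_finite_image (f := fun x => closure {x})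
      (TopologicalSpace.NoetherianSpace.finite_irreducibleComponents.subset ?_) ?_
    · rintro _ ⟨x, hx, rfl⟩
      haveI : QuasiSober Z := hZ.isClosedEmbedding_subtypeVal.quasiSober
      exact closure_mem_irreducibleComponents hx
    · intro a _ b hb e
      exact hb a (specializes_iff_closure_subset.2 e.ge)
  refine (hfin.image fun y : Z => V.ι y.1).subset ?_
  rintro z ⟨hzV, hξz, hdz, hzW⟩
  have hzι : z ∈ Set.range V.ι := by rw [Scheme.Opens.range_ι]; exact hzV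
  obtain ⟨z', rfl⟩ := hzι
  refine ⟨⟨z', ⟨specializes_iff_mem_closure.1 hξz, hzW⟩⟩, fun y hy => ?_, rfl⟩
  by_contra hne
  have hs : V.ι (y : (V : Scheme.{u})) ⤳ V.ι z' := (subtype_specializes_iff _ _ |>.1 hy).map V.ι.continuous
  have hne' : V.ι (y : (V : Scheme.{u})) ≠ V.ι z' := fun e => hne (Subtype.ext (V.ι.isOpenEmbedding.injective e))
  have h1 := (hδ _ _ hs hne').1
  have hξy : ξ ≠ V.ι (y : (V : Scheme.{u})) := fun e => y.2.2 (e ▸ hξ)
  have h2 := (hδ _ _ (specializes_iff_mem_closure.2 y.2.1) hξy).1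
  omega

end units

section RZ

variable [IsLocallyNoetherian X] {δ : X → ℤ}

theorem ordAt_one (hδ : Cyc.IsDimFun X δ) {ξ x : X} (h : ξ ⤳ x) (hd : δ x + 1 = δ ξ) : Cyc.ordAt x ξ h 1 = 0 :=
  UnitAt.ordAt_eq_zero hδ (fun _ => ⟨1, isUnit_one, (map_one _).symm⟩) h hd

theorem divFun_one (hδ : Cyc.IsDimFun X δ) (ξ x : X) : Cyc.divFun δ ξ (1 : X.residueField ξ) x = 0 := by
  unfold Cyc.divFun
  split_ifs with h
  · exact ordAt_one hδ h.1 h.2
  · rfl

theorem divFun_mul (hδ : Cyc.IsDimFun X δ) {ξ : X} {f g : X.residueField ξ} (hf : f ≠ 0) (hg : g ≠ 0) (x : X) :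
    Cyc.divFun δ ξ (f * g) x = Cyc.divFun δ ξ f x + Cyc.divFun δ ξ g x := by
  unfold Cyc.divFun
  split_ifs with h
  · exact ordAt_mul hδ h.1 h.2 hf hg
  · rfl

theorem divFun_zpow (hδ : Cyc.IsDimFun X δ) {ξ : X} {f : X.residueField ξ} (hf : f ≠ 0) (n : ℤ) (x : X) :
    Cyc.divFun δ ξ (f ^ n) x = n * Cyc.divFun δ ξ f x := by
  induction n with
  | zero => rw [zpow_zero, divFun_one hδ, zero_mul]
  | succ n ih => rw [zpow_add_one₀ hf, divFun_mul hδ (zpow_ne_zero _ hf) hf, ih]; ring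
  | pred n ih =>
    rw [zpow_sub_one₀ hf, divFun_mul hδ (zpow_ne_zero _ hf) (inv_ne_zero hf), ih, CycPush.divFun_inv hδ ξ hf]; ring

theorem divFun_ne_zero {ξ x : X} {f : X.residueField ξ} (h : Cyc.divFun δ ξ f x ≠ 0) : ξ ⤳ x ∧ δ x + 1 = δ ξ := by
  by_contra hn
  exact h (dif_neg hn)

/-- `a` is the divisor of a locally finite family of functions on points of dimension `k + 1`. -/
def RZ (δ : X → ℤ) (k : ℤ) (a : X → ℤ) : Prop :=
  ∃ f : (z : X) → X.residueField z, (∀ z, f z ≠ 0) ∧ (∀ x : X, ∃ U : X.Opens, x ∈ U ∧ {z | z ∈ U ∧ f z ≠ 1}.Finite) ∧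
    (∀ z, f z ≠ 1 → δ z = k + 1) ∧ ∀ x, a x = ∑ᶠ z, Cyc.divFun δ z (f z) x

theorem finite_div_support (hδ : Cyc.IsDimFun X δ) {f : (z : X) → X.residueField z}
    (hlf : ∀ x : X, ∃ U : X.Opens, x ∈ U ∧ {z | z ∈ U ∧ f z ≠ 1}.Finite) (x : X) :
    (Function.support fun z => Cyc.divFun δ z (f z) x).Finite := by
  obtain ⟨U, hx, hfin⟩ := hlf x
  exact hfin.subset fun z hz => ⟨(divFun_ne_zero hz).1.mem_open U.2 hx, fun h => hz (by show Cyc.divFun δ z (f z) x = 0; rw [h, divFun_one hδ])⟩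

theorem RZ.congr {k : ℤ} {a b : X → ℤ} (ha : RZ δ k a) (h : ∀ x, b x = a x) : RZ δ k b := by
  obtain ⟨f, h1, h2, h3, h4⟩ := ha
  exact ⟨f, h1, h2, h3, fun x => (h x).trans (h4 x)⟩

theorem RZ.zero (hδ : Cyc.IsDimFun X δ) (k : ℤ) : RZ δ k (0 : X → ℤ) :=
  ⟨fun _ => 1, fun _ => one_ne_zero, fun x => ⟨⊤, trivial, Set.finite_empty.subset fun z hz => hz.2 rfl⟩,
    fun _ h => absurd rfl h, fun x => by
      rw [Pi.zero_apply, finsum_eq_zero_of_forall_eq_zero fun z => divFun_one hδ z x]⟩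

theorem RZ.neg (hδ : Cyc.IsDimFun X δ) {k : ℤ} {a : X → ℤ} (ha : RZ δ k a) : RZ δ k (-a) := by
  obtain ⟨f, h1, h2, h3, h4⟩ := ha
  refine ⟨fun z => (f z)⁻¹, fun z => inv_ne_zero (h1 z), fun x => ?_, fun z hz => h3 z fun h => hz (by show (f z)⁻¹ = 1; rw [h, inv_one]),
    fun x => ?_⟩
  · obtain ⟨U, hx, hfin⟩ := h2 x
    exact ⟨U, hx, hfin.subset fun z hz => ⟨hz.1, fun h => hz.2 (by show (f z)⁻¹ = 1; rw [h, inv_one])⟩⟩
  · rw [Pi.neg_apply, h4, ← finsum_neg_distrib]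
    exact finsum_congr fun z => (CycPush.divFun_inv hδ z (h1 z) x).symm

theorem RZ.add (hδ : Cyc.IsDimFun X δ) {k : ℤ} {a b : X → ℤ} (ha : RZ δ k a) (hb : RZ δ k b) : RZ δ k (a + b) := by
  obtain ⟨f, h1, h2, h3, h4⟩ := ha
  obtain ⟨g, g1, g2, g3, g4⟩ := hb
  refine ⟨fun z => f z * g z, fun z => mul_ne_zero (h1 z) (g1 z), fun x => ?_, fun z hz => ?_, fun x => ?_⟩
  · obtain ⟨U, hx, hU⟩ := h2 x
    obtain ⟨V, hx', hV⟩ := g2 x
    refine ⟨U ⊓ V, ⟨hx, hx'⟩, (hU.union hV).subset fun z hz => ?_⟩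
    by_cases hf : f z = 1
    · exact Or.inr ⟨hz.1.2, fun h => hz.2 (by show f z * g z = 1; rw [hf, h, one_mul])⟩
    · exact Or.inl ⟨hz.1.1, hf⟩
  · by_cases hf : f z = 1
    · exact g3 z fun h => hz (by show f z * g z = 1; rw [hf, h, one_mul])
    · exact h3 z hf
  · rw [Pi.add_apply, h4, g4, ← finsum_add_distrib (finite_div_support hδ h2 x) (finite_div_support hδ g2 x)]
    exact finsum_congr fun z => (divFun_mul hδ (h1 z) (g1 z) x).symm

theorem RZ.sub (hδ : Cyc.IsDimFun X δ) {k : ℤ} {a b : X → ℤ} (ha : RZ δ k a) (hb : RZ δ k b) : RZ δ k (a - b) := by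
  rw [sub_eq_add_neg]
  exact ha.add hδ (hb.neg hδ)

/-- A locally finite sum of families. -/
theorem finsum_family (hδ : Cyc.IsDimFun X δ) {k : ℤ} {ι : Type*} (a : ι → X → ℤ) (f : ι → (z : X) → X.residueField z)
    (hne : ∀ i z, f i z ≠ 0) (hk : ∀ i z, f i z ≠ 1 → δ z = k + 1)
    (hlf : ∀ x : X, ∃ U : X.Opens, x ∈ U ∧ {p : ι × X | p.2 ∈ U ∧ f p.1 p.2 ≠ 1}.Finite)
    (ha : ∀ i x, a i x = ∑ᶠ z, Cyc.divFun δ z (f i z) x) :
    (∀ z, ∏ᶠ i, f i z ≠ 0) ∧ (∀ x : X, ∃ U : X.Opens, x ∈ U ∧ {z | z ∈ U ∧ ∏ᶠ i, f i z ≠ 1}.Finite) ∧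
      (∀ z, ∏ᶠ i, f i z ≠ 1 → δ z = k + 1) ∧ ∀ x, ∑ᶠ i, a i x = ∑ᶠ z, Cyc.divFun δ z (∏ᶠ i, f i z) x := by
  classical
  have hpt : ∀ z, (Function.mulSupport fun i => f i z).Finite := fun z => by
    obtain ⟨U, hz, hfin⟩ := hlf z
    exact (hfin.image Prod.fst).subset fun i hi => ⟨(i, z), ⟨hz, hi⟩, rfl⟩
  refine ⟨fun z => ?_, fun x => ?_, fun z hz => ?_, fun x => ?_⟩
  · show ∏ᶠ i, f i z ≠ 0
    rw [finprod_eq_prod _ (hpt z)]
    exact Finset.prod_ne_zero_iff.2 fun i _ => hne i z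
  · obtain ⟨U, hx, hfin⟩ := hlf x
    refine ⟨U, hx, (hfin.image Prod.snd).subset fun z hz => ?_⟩
    obtain ⟨i, hi⟩ : ∃ i, f i z ≠ 1 := by
      by_contra! h
      exact hz.2 (finprod_eq_one_of_forall_eq_one h)
    exact ⟨(i, z), ⟨hz.1, hi⟩, rfl⟩
  · obtain ⟨i, hi⟩ : ∃ i, f i z ≠ 1 := by
      by_contra! h
      exact hz (finprod_eq_one_of_forall_eq_one h)
    exact hk i z hi
  · obtain ⟨U, hx, hfin⟩ := hlf x
    set I := (hfin.image Prod.fst).toFinset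
    set Z := (hfin.image Prod.snd).toFinset
    have hmem : ∀ {i : ι} {z : X}, Cyc.divFun δ z (f i z) x ≠ 0 → i ∈ I ∧ z ∈ Z := fun {i z} h => by
      have hp : (i, z) ∈ {p : ι × X | p.2 ∈ U ∧ f p.1 p.2 ≠ 1} :=
        ⟨(divFun_ne_zero h).1.mem_open U.2 hx, fun e => h (by rw [show f i z = 1 from e, divFun_one hδ])⟩
      exact ⟨(Set.Finite.mem_toFinset _).2 ⟨_, hp, rfl⟩, (Set.Finite.mem_toFinset _).2 ⟨_, hp, rfl⟩⟩
    have hlhs : ∀ i, a i x = ∑ z ∈ Z, Cyc.divFun δ z (f i z) x := fun i =>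
      (ha i x).trans (finsum_eq_sum_of_support_subset _ fun z hz => Finset.mem_coe.2 (hmem hz).2)
    have hrhs : ∀ z, Cyc.divFun δ z (∏ᶠ i, f i z) x = ∑ i ∈ I, Cyc.divFun δ z (f i z) x := by
      intro z
      rw [finprod_eq_prod _ (hpt z)]
      set s := (hpt z).toFinset with hsdef
      have hs : Cyc.divFun δ z (∏ i ∈ s, f i z) x = ∑ i ∈ s, Cyc.divFun δ z (f i z) x := by
        clear hsdef
        induction s using Finset.induction_on with
        | empty => simp [divFun_one hδ]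
        | insert i t hi ih =>
          rw [Finset.prod_insert hi, Finset.sum_insert hi,
            divFun_mul hδ (hne i z) (Finset.prod_ne_zero_iff.2 fun j _ => hne j z), ih]
      rw [hs, Finset.sum_subset (Finset.subset_union_left (s₂ := I)) fun i _ hi => ?_]
      · refine (Finset.sum_subset (Finset.subset_union_right (s₁ := s)) fun i _ hi => ?_).symm
        by_contra h
        exact hi (hmem h).1
      · rw [show f i z = 1 from by_contra fun h => hi ((Set.Finite.mem_toFinset _).2 h), divFun_one hδ]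
    show ∑ᶠ i, a i x = _
    rw [finsum_eq_sum_of_support_subset (s := I) _ (fun i hi => ?_),
      finsum_eq_sum_of_support_subset (s := Z) _ (fun z hz => ?_)]
    · rw [Finset.sum_congr rfl fun i _ => hlhs i, Finset.sum_congr rfl fun z _ => hrhs z, Finset.sum_comm]
    · obtain ⟨i, -, hi⟩ := Finset.exists_ne_zero_of_sum_ne_zero ((hrhs z).symm.trans_ne hz)
      exact Finset.mem_coe.2 (hmem hi).2
    · obtain ⟨z, -, hz⟩ := Finset.exists_ne_zero_of_sum_ne_zero ((hlhs i).symm.trans_ne hi)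
      exact Finset.mem_coe.2 (hmem hz).1

theorem RZ.finsum (hδ : Cyc.IsDimFun X δ) {k : ℤ} {ι : Type*} (a : ι → X → ℤ) (f : ι → (z : X) → X.residueField z)
    (hne : ∀ i z, f i z ≠ 0) (hk : ∀ i z, f i z ≠ 1 → δ z = k + 1)
    (hlf : ∀ x : X, ∃ U : X.Opens, x ∈ U ∧ {p : ι × X | p.2 ∈ U ∧ f p.1 p.2 ≠ 1}.Finite)
    (ha : ∀ i x, a i x = ∑ᶠ z, Cyc.divFun δ z (f i z) x) : RZ δ k (fun x => ∑ᶠ i, a i x) :=
  ⟨_, finsum_family hδ a f hne hk hlf ha⟩

theorem RZ.to_ratEquivZero (hδ : Cyc.IsDimFun X δ) {k : ℤ} {α : AlgebraicCycle X ℤ} (h : RZ δ k ⇑α) : Cyc.RatEquivZero δ k α := by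
  obtain ⟨f, h1, h2, h3, h4⟩ := h
  refine ⟨{z : X // f z ≠ 1}, Subtype.val, fun i => f i.1, fun i => h3 i.1 i.2, fun i => h1 i.1, fun x => ?_, fun x => ?_⟩
  · obtain ⟨U, hx, hfin⟩ := h2 x
    refine ⟨U, U.2, hx, (hfin.preimage Subtype.val_injective.injOn).subset fun i hi => ⟨?_, i.2⟩⟩
    obtain ⟨y, hy, hyU⟩ := hi
    exact (specializes_iff_mem_closure.2 hy).mem_open U.2 hyU
  · rw [h4, ← finsum_mem_univ]
    rw [finsum_mem_inter_support_eq' _ Set.univ {z | f z ≠ 1} fun z hz => ⟨fun _ e => hz (by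
      show Cyc.divFun δ z (f z) x = 0
      rw [show f z = 1 from e, divFun_one hδ]), fun _ => Set.mem_univ _⟩]
    exact (finsum_subtype_eq_finsum_cond _).symm

open Classical in
/-- The function on all points with one prescribed value. -/
noncomputable def single {ξ : X} (g : X.residueField ξ) : (z : X) → X.residueField z :=
  fun z => if h : ξ = z then h ▸ g else 1

theorem single_self {ξ : X} (g : X.residueField ξ) : single g ξ = g := dif_pos rfl

theorem single_of_ne {ξ z : X} (g : X.residueField ξ) (h : ξ ≠ z) : single g z = 1 := dif_neg h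

theorem single_ne_zero {ξ : X} {g : X.residueField ξ} (hg : g ≠ 0) (z : X) : single g z ≠ 0 := by
  by_cases h : ξ = z
  · subst h; rwa [single_self]
  · rw [single_of_ne g h]; exact one_ne_zero

theorem finsum_single (hδ : Cyc.IsDimFun X δ) {ξ : X} (g : X.residueField ξ) (x : X) :
    ∑ᶠ z, Cyc.divFun δ z (single g z) x = Cyc.divFun δ ξ g x := by
  rw [finsum_eq_single _ ξ fun z hz => by rw [single_of_ne g (Ne.symm hz), divFun_one hδ], single_self]

theorem RZ.of_ratEquivZero (hδ : Cyc.IsDimFun X δ) {k : ℤ} {α : AlgebraicCycle X ℤ} (h : Cyc.RatEquivZero δ k α) :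
    RZ δ k ⇑α := by
  obtain ⟨ι, ξ, f, hk, hne, hlf, he⟩ := h
  refine (RZ.finsum hδ (fun i => Cyc.divFun δ (ξ i) (f i)) (fun i => single (f i)) (fun i => single_ne_zero (hne i))
    (fun i z hz => ?_) (fun x => ?_) (fun i x => (finsum_single hδ _ x).symm)).congr he
  · rcases eq_or_ne (ξ i) z with rfl | h
    · exact hk i
    · exact absurd (single_of_ne _ h) hz
  · obtain ⟨U, hU, hx, hfin⟩ := hlf x
    refine ⟨⟨U, hU⟩, hx, (hfin.image fun i => (i, ξ i)).subset fun p hp => ?_⟩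
    have he : ξ p.1 = p.2 := by_contra fun h => hp.2 (single_of_ne _ h)
    exact ⟨p.1, ⟨ξ p.1, subset_closure rfl, by rw [he]; exact hp.1⟩, by simp [he]⟩

theorem ratEquiv_of_RZ (hδ : Cyc.IsDimFun X δ) {k : ℤ} {α β : AlgebraicCycle X ℤ} {a : X → ℤ} (h : RZ δ k a)
    (he : ∀ x, α x - β x = a x) : Cyc.RatEquiv δ k α β :=
  RZ.to_ratEquivZero hδ (h.congr fun x => by
    rw [Function.locallyFinsuppWithin.coe_sub, Pi.sub_apply]; exact he x)

end RZ

end GrothLib.C1
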