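import Groth.Agent.Lib.C1.Fundamental
import Groth.Agent.Lib.CycBasic.SheafLength
import Groth.Agent.Lib.CycFlat.Sheaf

/-!
The Gysin class of the cycle of a coherent sheaf.
-/

set_option autoImplicit false
universe u
open scoped Pointwise TensorProduct

open CategoryTheory AlgebraicGeometry

namespace GrothLib.C1

open IsLocalRing GrothLib GrothLib.CycDiv GrothLib.Ref1

theorem length_extend_surjective {A S : Type u} [CommRing A] [CommRing S] (φ : A →+* S) (hφ : Function.Surjective φ)
    (f : A) (hker : RingHom.ker φ = Ideal.span {f}) (M : ModuleCat.{u} A) :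
    Module.length S ((ModuleCat.extendScalars φ).obj M) = Module.length A (M ⧸ f • (⊤ : Submodule A M)) := by
  algebraize [φ]
  change Module.length S (S ⊗[A] M) = _
  rw [← Module.length_eq_of_surjective (R := S) (S := A) (M := S ⊗[A] M) hφ]
  let e : (A ⧸ Ideal.span {f}) ≃ₗ[A] S :=
    (Submodule.quotEquivOfEq _ _ hker.symm).trans ((Algebra.linearMap A S).quotKerEquivOfSurjective hφ)
  exact ((TensorProduct.congr e.symm (LinearEquiv.refl A M)).trans
    ((TensorProduct.quotTensorEquivQuotSMul M (Ideal.span {f})).trans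
      (Submodule.quotEquivOfEq _ _ (Submodule.ideal_span_singleton_smul f ⊤)))).length_eq

variable {X : Scheme.{u}} [IsLocallyNoetherian X] {L : X.Modules} {δ : X → ℤ}

theorem sheafCut_eq_c1Cap (hδ : Cyc.IsDimFun X δ) (hL : PicF.IsInvertible L) (s : L.presheaf.obj (Opposite.op ⊤))
    (k : ℤ) (F : X.Modules) (hF : Coh.IsCoh F) (hdim : ∀ x : X, Nontrivial (F.presheaf.stalk x) → δ x ≤ k + 1)
    (hreg : ∀ (x : X) (t : L.presheaf.stalk x) (f : X.presheaf.stalk x), Submodule.span (X.presheaf.stalk x) {t} = ⊤ →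
      (L.presheaf.germ ⊤ x trivial) s = f • t → Function.Injective (fun m : F.presheaf.stalk x => f • m))
    (w : (ξ : X) → Cyc.secFibre L ξ) {x : X} (hx : δ x = k) {t : L.presheaf.stalk x} (ht : Gen L x t)
    {f : X.presheaf.stalk x} (hf : (L.presheaf.germ ⊤ x trivial) s = f • t) (hgx : gcls s x = 0) :
    ((Module.length (X.presheaf.stalk x)
      (F.presheaf.stalk x ⧸ f • (⊤ : Submodule (X.presheaf.stalk x) (F.presheaf.stalk x)))).toNat : ℤ) =
      Cyc.c1CapFun δ L (Cyc.sheafFun δ (k + 1) F) (Cyc.gysinChoice L s w) x := by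
  classical
  haveI := hF.1
  have hfm : f ∈ maximalIdeal (X.presheaf.stalk x) := by
    rw [← CycCut.primeOf_self]
    exact (gcls_eq_zero_iff hL s (specializes_refl x) ht hf).1 hgx
  have hcls : ∀ ξ : X, δ ξ = k + 1 → Nontrivial (F.presheaf.stalk ξ) → gcls s ξ ≠ 0 := fun ξ hξ hnt h0 => by
    obtain ⟨e, he⟩ := exists_gen hL ξ
    obtain ⟨g, hg⟩ := he.2 ((L.presheaf.germ ⊤ ξ trivial) s)
    replace hg : (L.presheaf.germ ⊤ ξ trivial) s = g • e := hg.symm
    rw [gcls_eq_zero_iff hL s (specializes_refl ξ) he hg, CycCut.primeOf_self] at h0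
    have hlt := CycBasic.length_lt_top_of_maximal hF (x := ξ) fun y hy hsp => by
      by_contra hne
      have := (hδ y ξ hsp hne).1
      have := hdim y (CycBasic.nontrivial_iff_mem_support.2 hy)
      omega
    haveI : IsArtinian (X.presheaf.stalk ξ) (F.presheaf.stalk ξ) :=
      (isFiniteLength_iff_isNoetherian_isArtinian.1 (Module.length_ne_top_iff.1 hlt.ne)).2
    haveI : Module.Finite (X.presheaf.stalk ξ) (F.presheaf.stalk ξ) := QCoh.stalk_finite F hF ξ
    have hsurj := IsArtinian.surjective_of_injective_endomorphism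
      (LinearMap.lsmul (X.presheaf.stalk ξ) (F.presheaf.stalk ξ) g) (hreg ξ e g he.span hg)
    have htop : (⊤ : Submodule (X.presheaf.stalk ξ) (F.presheaf.stalk ξ)) = ⊥ :=
      Submodule.eq_bot_of_le_smul_of_le_jacobson_bot (maximalIdeal (X.presheaf.stalk ξ)) ⊤ Module.Finite.fg_top
        (fun m _ => by
          obtain ⟨m', rfl⟩ := hsurj m
          exact Submodule.smul_mem_smul h0 Submodule.mem_top)
        (IsLocalRing.maximalIdeal_le_jacobson _)
    exact not_subsingleton (F.presheaf.stalk ξ)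
      ((Submodule.subsingleton_iff (X.presheaf.stalk ξ)).1 (subsingleton_of_bot_eq_top htop.symm))
  have hm : ¬ IsAssociatedPrime (maximalIdeal (X.presheaf.stalk x)) (F.presheaf.stalk x) := by
    rintro ⟨-, m, hm⟩
    obtain ⟨n, hn⟩ : ∃ n, f ^ n • m = 0 := by
      have : f ∈ ((⊥ : Submodule (X.presheaf.stalk x) (F.presheaf.stalk x)).colon {m}).radical := hm ▸ hfm
      obtain ⟨n, hn⟩ := this
      exact ⟨n, by simpa [Submodule.mem_colon_singleton] using hn⟩
    have hm0 : m = 0 := by
      clear hm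
      induction n generalizing m with
      | zero => rwa [pow_zero, one_smul] at hn
      | succ n ih =>
        refine hreg x t f ht.span hf ?_
        show f • m = f • (0 : F.presheaf.stalk x)
        rw [smul_zero]
        exact ih (f • m) (by rw [← mul_smul, ← pow_succ, hn])
    subst hm0
    apply (maximalIdeal.isMaximal (X.presheaf.stalk x)).ne_top
    rw [hm, show (⊥ : Submodule (X.presheaf.stalk x) (F.presheaf.stalk x)).colon {0} = ⊤ from
      eq_top_iff.2 fun r _ => by simp [Submodule.mem_colon_singleton]]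
    exact Ideal.radical_top _
  have hfin : {ζ : X | ζ ⤳ x ∧ δ ζ = k + 1 ∧ Nontrivial (F.presheaf.stalk ζ)}.Finite := by
    obtain ⟨U, hU, hxU, -⟩ := exists_isAffineOpen_mem_and_subset (x := x) (U := ⊤) trivial
    refine Set.Finite.of_finite_image (f := fun ζ => if h : ζ ⤳ x then primeOf h else ⊤) ?_ ?_
    · haveI : Module.Finite (X.presheaf.stalk x) (F.presheaf.stalk x) := QCoh.stalk_finite F hF x
      refine ((Module.annihilator (X.presheaf.stalk x) (F.presheaf.stalk x)).finite_minimalPrimes_of_isNoetherianRing).subset ?_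
      rintro _ ⟨ζ, ⟨h, hd, hnt⟩, rfl⟩
      simp only [dif_pos h]
      have hmem : Module.annihilator (X.presheaf.stalk x) (F.presheaf.stalk x) ≤ primeOf h := fun a ha => by
        by_contra hna
        refine not_subsingleton (F.presheaf.stalk ζ) ((CycCut.subsingleton_localized_iff F h).1 ?_)
        exact LocalizedModule.subsingleton_iff.2 fun m => ⟨a, hna, Module.mem_annihilator.1 ha m⟩
      refine ⟨⟨inferInstance, hmem⟩, fun q hq hle => ?_⟩
      obtain ⟨ζ', h', hq'⟩ := CycCut.exists_point_of_prime (⟨q, hq.1⟩ : PrimeSpectrum (X.presheaf.stalk x))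
      have hsp : ζ' ⤳ ζ := CycCut.specializes_of_primeOf_le h' h (hq'.le.trans hle)
      obtain rfl : ζ' = ζ := by
        by_contra hne
        have h1 := (hδ ζ' ζ hsp hne).1
        rcases subsingleton_or_nontrivial (F.presheaf.stalk ζ') with hss | hnt'
        · rw [← CycCut.subsingleton_localized_iff F h', LocalizedModule.subsingleton_iff] at hss
          obtain ⟨S, hS⟩ := Module.Finite.fg_top (R := X.presheaf.stalk x) (M := F.presheaf.stalk x)
          choose r hr hrm using hss
          have hann : ∏ m ∈ S, r m ∈ Module.annihilator (X.presheaf.stalk x) (F.presheaf.stalk x) := by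
            rw [← Submodule.annihilator_top, ← hS, Submodule.mem_annihilator_span]
            rintro ⟨m, hmS⟩
            obtain ⟨c, hc⟩ := Finset.dvd_prod_of_mem r hmS
            rw [hc, mul_comm, mul_smul, hrm, smul_zero]
          have hin : ∏ m ∈ S, r m ∈ primeOf h' := hq' ▸ hq.2 hann
          obtain ⟨m, -, hm'⟩ := (inferInstance : (primeOf h').IsPrime).prod_mem_iff.1 hin
          exact hr m hm'
        · have := hdim ζ' hnt'
          omega
      exact le_of_eq hq'
    · rintro ζ ⟨h, -⟩ ζ' ⟨h', -⟩ e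
      simp only [dif_pos h, dif_pos h'] at e
      exact CycCut.point_eq_of_primeOf_eq h h' e
  have hnot : ∀ (ζ : X) (h : ζ ⤳ x), δ ζ = k + 1 → Nontrivial (F.presheaf.stalk ζ) → f ∉ primeOf h :=
    fun ζ h hd hnt hmem => hcls ζ hd hnt ((gcls_eq_zero_iff hL s h ht hf).2 hmem)
  have hsh : ∀ ζ, Cyc.sheafFun δ (k + 1) F ζ ≠ 0 → δ ζ = k + 1 ∧ Nontrivial (F.presheaf.stalk ζ) := fun ζ hζ => by
    unfold Cyc.sheafFun at hζ
    split_ifs at hζ with h
    · refine ⟨h, ?_⟩
      by_contra hn
      rw [not_nontrivial_iff_subsingleton] at hn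
      exact hζ (by rw [Module.length_eq_zero]; rfl)
    · exact absurd rfl hζ
  rw [CycCut.length_cut hδ F hF x k hx f (fun ζ _ hn => hdim ζ hn) hm hnot hfin.toFinset
    (fun ζ => hfin.mem_toFinset), Cyc.c1CapFun, finsum_eq_sum_of_support_subset (s := hfin.toFinset) _ fun ζ hζ => ?_]
  · refine Finset.sum_congr rfl fun ζ hζ => ?_
    obtain ⟨h, hd, hnt⟩ := hfin.mem_toFinset.1 hζ
    rw [gysinChoice_pos w (hcls ζ hd hnt), secDivFun_gcls hδ hL s h (by omega) ht hf,
      show Cyc.sheafFun δ (k + 1) F ζ = _ from if_pos hd, CycCut.summand, dif_pos h,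
      ordAt_eq_sub hδ h (by omega) (hnot ζ h hd hnt)
        (fun h1 => (inferInstance : (primeOf h).IsPrime).ne_top ((Ideal.eq_top_iff_one _).2 h1)) (by rw [map_one, mul_one]),
      map_one, Ring.ord_of_isUnit isUnit_one, ENat.toNat_zero, Nat.cast_zero, sub_zero]
  · exact Finset.mem_coe.2 (hfin.mem_toFinset.2 ⟨(secDivFun_ne_zero (right_ne_zero_of_mul hζ)).1,
      hsh ζ (left_ne_zero_of_mul hζ)⟩)

end GrothLib.C1
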